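import Groth.Agent.AInjLib.FlatQuot
import Groth.Agent.DevissFreeLib.Base
import Groth.Agent.FlatCrit.Basic
import Mathlib

/-!
# The least ideal modulo which a module is flat: nilpotent and complete cases
-/

set_option autoImplicit false
set_option linter.style.haveILetI false

universe u

open IsLocalRing
open scoped TensorProduct

namespace AInjLib

/-- A module equal to its multiple by a nilpotent ideal vanishes. -/
theorem eq_top_of_nilpotent {R X : Type u} [CommRing R] [AddCommGroup X] [Module R X] (m : Ideal R) {n : ℕ}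
    (hn : m ^ n = ⊥) (W : Submodule R X) (h : (⊤ : Submodule R X) ≤ W ⊔ m • ⊤) : W = ⊤ := by
  have hk : ∀ k : ℕ, (⊤ : Submodule R X) ≤ W ⊔ m ^ k • ⊤ := by
    intro k
    induction k with
    | zero => rw [pow_zero, Ideal.one_eq_top, Submodule.top_smul]; exact le_sup_right
    | succ k ih =>
      refine ih.trans (sup_le le_sup_left ?_)
      refine (Submodule.smul_mono le_rfl h).trans ?_
      rw [Submodule.smul_sup, ← Submodule.smul_assoc, smul_eq_mul, ← pow_succ]
      exact sup_le_sup Submodule.smul_le_right le_rfl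
  have := hk n
  rw [hn, Submodule.bot_smul, sup_bot_eq] at this
  exact top_le_iff.1 this

/-- Membership in a multiple of a free module, coordinatewise. -/
theorem finsupp_mem_smul_top_iff {R ι : Type u} [CommRing R] (J : Ideal R) (x : ι →₀ R) :
    x ∈ J • (⊤ : Submodule R (ι →₀ R)) ↔ ∀ i, x i ∈ J := by
  classical
  refine ⟨fun hx i => ?_, fun h => ?_⟩
  · exact Submodule.smul_induction_on (p := fun z => z i ∈ J) hx
      (fun a ha z _ => by rw [Finsupp.smul_apply, smul_eq_mul]; exact J.mul_mem_right _ ha)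
      fun z w hz hw => by rw [Finsupp.add_apply]; exact add_mem hz hw
  · rw [← Finsupp.sum_single x, Finsupp.sum]
    refine Submodule.sum_mem _ fun i _ => ?_
    rw [show Finsupp.single i (x i) = x i • Finsupp.single i (1 : R) by rw [Finsupp.smul_single, smul_eq_mul, mul_one]]
    exact Submodule.smul_mem_smul (h i) trivial

/-- A map bijective modulo an ideal stays injective modulo an extension. -/
theorem injective_baseChange_of_bijective {R k k'' F X : Type u} [CommRing R] [CommRing k] [CommRing k''] [Algebra R k]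
    [Algebra R k''] [Algebra k k''] [IsScalarTower R k k''] [AddCommGroup F] [Module R F] [AddCommGroup X] [Module R X]
    (v : F →ₗ[R] X) (hbij : Function.Bijective (v.baseChange k)) : Function.Injective (v.baseChange k'') := by
  let d1 := TensorProduct.AlgebraTensorModule.cancelBaseChange R k k'' k'' F
  let d2 := TensorProduct.AlgebraTensorModule.cancelBaseChange R k k'' k'' X
  have hh : v.baseChange k'' = d2.toLinearMap ∘ₗ (v.baseChange k).baseChange k'' ∘ₗ d1.symm.toLinearMap := by
    ext x
    simp [d1, d2]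
  rw [hh]
  exact d2.injective.comp ((((LinearEquiv.ofBijective _ hbij).baseChange k k'').injective).comp d1.symm.injective)

/-- The kernel of a base change of a map injective modulo an ideal lies in the multiple. -/
theorem ker_baseChange_le {R R'' F X : Type u} [CommRing R] [CommRing R''] [Algebra R R''] [AddCommGroup F] [Module R F]
    [AddCommGroup X] [Module R X] (v : F →ₗ[R] X) (m'' : Ideal R'') (hinj : Function.Injective (v.baseChange (R'' ⧸ m'')))
    (x : R'' ⊗[R] F) (hx : v.baseChange R'' x = 0) : x ∈ m'' • (⊤ : Submodule R'' (R'' ⊗[R] F)) := by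
  let k'' := R'' ⧸ m''
  let c1 := TensorProduct.AlgebraTensorModule.cancelBaseChange R R'' k'' k'' F
  let c2 := TensorProduct.AlgebraTensorModule.cancelBaseChange R R'' k'' k'' X
  rw [← LinearMap.ker_tensorProductMk (R := R'') (Q := R'' ⊗[R] F) (I := m''), LinearMap.mem_ker]
  have h0 : (v.baseChange R'').baseChange k'' ((1 : k'') ⊗ₜ[R''] x) = 0 := by
    rw [LinearMap.baseChange_tmul, hx, TensorProduct.tmul_zero]
  have h1 : (v.baseChange R'').baseChange k'' = c2.symm.toLinearMap ∘ₗ v.baseChange k'' ∘ₗ c1.toLinearMap := by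
    ext y
    simp [c1, c2]
  rw [h1] at h0
  exact c1.map_eq_zero_iff.1 ((injective_iff_map_eq_zero _).1 hinj _ (c2.symm.map_eq_zero_iff.1 h0))

/-- Over a local ring with nilpotent maximal ideal there is a least ideal modulo which a module is flat. -/
theorem exists_least_fq_of_nilpotent {R : Type u} [CommRing R] [IsLocalRing R] {n : ℕ} (hn : maximalIdeal R ^ n = ⊥)
    (X : Type u) [AddCommGroup X] [Module R X] : ∃ I : Ideal R, (∀ J : Ideal R, J ≠ ⊤ → (FQ J X ↔ I ≤ J)) ∧
      ∀ (R'' : Type u) [CommRing R''] [IsLocalRing R''] [Algebra R R''] [IsLocalHom (algebraMap R R'')],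
        (∃ l, maximalIdeal R'' ^ l = ⊥) → Module.Flat R'' (R'' ⊗[R] X) → I ≤ RingHom.ker (algebraMap R R'') := by
  classical
  let m := maximalIdeal R
  let X₀ := (R ⧸ m) ⊗[R] X
  letI := Ideal.Quotient.field m
  let b := Module.Basis.ofVectorSpace (R ⧸ m) X₀
  let ι := Module.Basis.ofVectorSpaceIndex (R ⧸ m) X₀
  have hπ : Function.Surjective (TensorProduct.mk R (R ⧸ m) X 1) :=
    TensorProduct.mk_surjective R X _ Ideal.Quotient.mk_surjective
  choose t ht using fun i => hπ (b i)
  let v : (ι →₀ R) →ₗ[R] X := Finsupp.linearCombination R t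
  let red : (ι →₀ R) →ₗ[R] X₀ := TensorProduct.mk R (R ⧸ m) X 1 ∘ₗ v
  have hred : ∀ y, red y = Finsupp.linearCombination (R ⧸ m) b (y.mapRange (Ideal.Quotient.mk m) (map_zero _)) := by
    intro y
    induction y using Finsupp.induction_linear with
    | zero => simp
    | add y z hy hz => rw [map_add, hy, hz, Finsupp.mapRange_add (map_add _), map_add]
    | single i r =>
      simp only [red, LinearMap.comp_apply, v, Finsupp.linearCombination_single, Finsupp.mapRange_single, map_smul]
      rw [ht]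
      exact (algebraMap_smul (R ⧸ m) r (b i)).symm
  have hker : ∀ y, v y ∈ m • (⊤ : Submodule R X) → y ∈ m • (⊤ : Submodule R (ι →₀ R)) := by
    intro y hy
    have h0 : red y = 0 := by
      rw [← LinearMap.ker_tensorProductMk] at hy
      exact hy
    rw [hred] at h0
    rw [finsupp_mem_smul_top_iff]
    intro i
    have h2 : y.mapRange (Ideal.Quotient.mk m) (map_zero _) = 0 :=
      b.linearIndependent.finsuppLinearCombination_injective (h0.trans (map_zero _).symm)
    have h3 := DFunLike.congr_fun h2 i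
    exact Ideal.Quotient.eq_zero_iff_mem.1 (by rwa [Finsupp.mapRange_apply] at h3)
  have hv : Function.Surjective v := by
    rw [← LinearMap.range_eq_top]
    refine eq_top_of_nilpotent m hn _ fun z _ => ?_
    obtain ⟨c, hc⟩ := (Finsupp.range_linearCombination (R ⧸ m) (v := b) ▸
      (b.span_eq.ge (Submodule.mem_top (x := TensorProduct.mk R (R ⧸ m) X 1 z))) :
        TensorProduct.mk R (R ⧸ m) X 1 z ∈ LinearMap.range (Finsupp.linearCombination (R ⧸ m) b))
    obtain ⟨y, hy⟩ := Finsupp.mapRange_surjective (Ideal.Quotient.mk m) (map_zero _) Ideal.Quotient.mk_surjective c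
    refine Submodule.mem_sup.2 ⟨v y, LinearMap.mem_range_self v y, z - v y, ?_, add_sub_cancel _ _⟩
    rw [← LinearMap.ker_tensorProductMk, LinearMap.mem_ker, map_sub, sub_eq_zero, ← hc, ← hy]
    exact (hred y).symm
  have hbij : Function.Bijective (v.baseChange (R ⧸ m)) := by
    refine ⟨(injective_iff_map_eq_zero _).2 fun z hz => ?_, LinearMap.lTensor_surjective _ hv⟩
    obtain ⟨y, rfl⟩ := TensorProduct.mk_surjective R (ι →₀ R) (R ⧸ m) Ideal.Quotient.mk_surjective z
    rw [TensorProduct.mk_apply, LinearMap.baseChange_tmul] at hz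
    exact (LinearMap.ker_tensorProductMk (R := R) (Q := ι →₀ R) (I := m)).ge
      (hker y ((LinearMap.ker_tensorProductMk (R := R) (Q := X) (I := m)).le hz))
  have key : ∀ (R'' : Type u) [CommRing R''] [IsLocalRing R''] [Algebra R R''] [IsLocalHom (algebraMap R R'')],
      (∃ l, maximalIdeal R'' ^ l = ⊥) → Module.Flat R'' (R'' ⊗[R] X) →
        ∀ y ∈ LinearMap.ker v, ∀ i, algebraMap R R'' (y i) = 0 := by
    intro R'' _ _ _ _ hl hflat y hy i
    obtain ⟨l, hl⟩ := hl
    let m'' := maximalIdeal R''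
    let k'' := R'' ⧸ m''
    letI : Algebra (R ⧸ m) k'' := (Ideal.quotientMap m'' (algebraMap R R'') fun a ha =>
      map_nonunit (algebraMap R R'') a ha).toAlgebra
    haveI : IsScalarTower R (R ⧸ m) k'' := IsScalarTower.of_algebraMap_eq fun _ => rfl
    let v'' := v.baseChange R''
    have hv'' : Function.Surjective v'' := LinearMap.lTensor_surjective R'' hv
    have hinjk : Function.Injective (v.baseChange k'') := injective_baseChange_of_bijective v hbij
    have hK : LinearMap.ker v'' = ⊥ := by
      have hle : (⊤ : Submodule R'' (LinearMap.ker v'')) ≤ ⊥ ⊔ m'' • ⊤ := by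
        rintro x -
        rw [bot_sup_eq]
        exact DevissFreeLib.mem_smul_top_ker m'' v'' hv'' x (ker_baseChange_le v m'' hinjk _ x.2)
      have := @eq_top_of_nilpotent R'' (LinearMap.ker v'') _ _ (LinearMap.ker v'').module m'' l hl ⊥ hle
      rw [eq_bot_iff]
      intro x hx
      have h2 : (⟨x, hx⟩ : LinearMap.ker v'') ∈ (⊥ : Submodule R'' (LinearMap.ker v'')) := this ▸ trivial
      rw [Submodule.mem_bot] at h2 ⊢
      exact congrArg Subtype.val h2
    have h1 : (1 : R'') ⊗ₜ[R] y ∈ LinearMap.ker v'' := by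
      rw [LinearMap.mem_ker, LinearMap.baseChange_tmul, LinearMap.mem_ker.1 hy, TensorProduct.tmul_zero]
    rw [hK, Submodule.mem_bot] at h1
    have h2 := congrArg ((Finsupp.lapply (R := R) i).baseChange R'') h1
    rw [map_zero, LinearMap.baseChange_tmul, Finsupp.lapply_apply] at h2
    have h3 := congrArg (TensorProduct.rid R R'') h2
    rwa [map_zero, TensorProduct.rid_tmul, Algebra.smul_def, mul_one] at h3
  refine ⟨Ideal.span {r | ∃ y ∈ LinearMap.ker v, ∃ i, y i = r}, fun J hJ => ⟨fun hX => ?_, fun hIJ => ?_⟩, ?_⟩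
  rotate_left 2
  · intro R'' _ _ _ _ hl hflat
    rw [Ideal.span_le]
    rintro r ⟨y, hy, i, rfl⟩
    exact key R'' hl hflat y hy i
  · rw [Ideal.span_le]
    rintro r ⟨y, hy, i, rfl⟩
    haveI : Nontrivial (R ⧸ J) := Ideal.Quotient.nontrivial_iff.2 hJ
    haveI : IsLocalRing (R ⧸ J) := IsLocalRing.of_surjective' (Ideal.Quotient.mk J) Ideal.Quotient.mk_surjective
    haveI : IsLocalHom (algebraMap R (R ⧸ J)) := IsLocalHom.of_surjective _ Ideal.Quotient.mk_surjective
    refine Ideal.Quotient.eq_zero_iff_mem.1 (key (R ⧸ J) ⟨n, ?_⟩ hX y hy i)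
    have hm : maximalIdeal (R ⧸ J) = m.map (Ideal.Quotient.mk J) :=
      ((IsLocalRing.eq_maximalIdeal ((Ideal.map_eq_top_or_isMaximal_of_surjective _ Ideal.Quotient.mk_surjective
        (maximalIdeal.isMaximal R)).resolve_left fun h => (maximalIdeal.isMaximal R).ne_top (top_le_iff.1 (by
          have h1 := congrArg (Ideal.comap (Ideal.Quotient.mk J)) h
          rw [Ideal.comap_map_of_surjective _ Ideal.Quotient.mk_surjective, ← RingHom.ker_eq_comap_bot, Ideal.mk_ker,
            Ideal.comap_top, sup_eq_left.2 (le_maximalIdeal hJ)] at h1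
          exact h1.ge))))).symm
    rw [hm, ← Ideal.map_pow, hn, Ideal.map_bot]
  · let Q := R ⧸ J
    let v' := v.baseChange Q
    have hv' : Function.Bijective v' := by
      refine ⟨(injective_iff_map_eq_zero _).2 fun z hz => ?_, LinearMap.lTensor_surjective Q hv⟩
      obtain ⟨y, rfl⟩ := TensorProduct.mk_surjective R (ι →₀ R) Q Ideal.Quotient.mk_surjective z
      rw [TensorProduct.mk_apply, LinearMap.baseChange_tmul] at hz
      have hvy : v y ∈ J • (⊤ : Submodule R X) := (LinearMap.ker_tensorProductMk (R := R) (Q := X) (I := J)).le hz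
      have h2 : (J • (⊤ : Submodule R X)) ≤ (J • (⊤ : Submodule R (ι →₀ R))).map v := by
        rw [Submodule.map_smul'', Submodule.map_top, LinearMap.range_eq_top.2 hv]
      obtain ⟨y', hy', he⟩ := h2 hvy
      apply LinearMap.mem_ker.1
      rw [LinearMap.ker_tensorProductMk, ← sub_add_cancel y y']
      refine add_mem ((finsupp_mem_smul_top_iff J _).2 fun i => hIJ (Ideal.subset_span ⟨y - y', ?_, i, rfl⟩)) hy'
      rw [LinearMap.mem_ker, map_sub, he, sub_self]
    exact Module.Flat.of_linearEquiv (LinearEquiv.ofBijective v' hv').symm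

/-- Flatness modulo an ideal, read over a quotient of the ring. -/
theorem fq_of_surjective {A L M : Type u} [CommRing A] [CommRing L] [Algebra A L] [AddCommGroup M] [Module A M]
    (hs : Function.Surjective (algebraMap A L)) (J : Ideal L) :
    FQ (J.comap (algebraMap A L)) M ↔ FQ J (L ⊗[A] M) := by
  let J₀ := J.comap (algebraMap A L)
  let eq : A ⧸ J₀ →+* L ⧸ J := Ideal.quotientMap J (algebraMap A L) le_rfl
  have heq : Function.Bijective eq := ⟨Ideal.quotientMap_injective, fun z => by
    obtain ⟨l, rfl⟩ := Ideal.Quotient.mk_surjective z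
    obtain ⟨a, rfl⟩ := hs l
    exact ⟨Ideal.Quotient.mk _ a, rfl⟩⟩
  letI : Algebra (A ⧸ J₀) (L ⧸ J) := eq.toAlgebra
  haveI : IsScalarTower A (A ⧸ J₀) (L ⧸ J) := IsScalarTower.of_algebraMap_eq fun _ => rfl
  haveI : Module.FaithfullyFlat (A ⧸ J₀) (L ⧸ J) :=
    Module.FaithfullyFlat.of_linearEquiv (A ⧸ J₀) (A ⧸ J₀) (LinearEquiv.ofBijective (Algebra.linearMap (A ⧸ J₀) (L ⧸ J)) heq).symm
  let e1 := TensorProduct.AlgebraTensorModule.cancelBaseChange A (A ⧸ J₀) (L ⧸ J) (L ⧸ J) M
  let e2 := TensorProduct.AlgebraTensorModule.cancelBaseChange A L (L ⧸ J) (L ⧸ J) M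
  show Module.Flat (A ⧸ J₀) ((A ⧸ J₀) ⊗[A] M) ↔ Module.Flat (L ⧸ J) ((L ⧸ J) ⊗[L] (L ⊗[A] M))
  rw [Module.Flat.equiv_iff e2, ← Module.Flat.equiv_iff e1]
  exact (Module.Flat.iff_flat_tensorProduct (A ⧸ J₀) ((A ⧸ J₀) ⊗[A] M) (L ⧸ J)).symm

/-- Over a Noetherian local algebra, flatness modulo an ideal can be tested modulo deep ideals. -/
theorem fq_of_forall_fq_sup_pow {R S X : Type u} [CommRing R] [IsLocalRing R] [IsNoetherianRing R] [CommRing S]
    [IsLocalRing S] [IsNoetherianRing S] [Algebra R S] [IsLocalHom (algebraMap R S)]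
    [AddCommGroup X] [Module S X] [Module R X] [IsScalarTower R S X] [Module.Finite S X] (I : Ideal R)
    (h : ∀ k : ℕ, FQ (I ⊔ maximalIdeal R ^ k) X) : FQ I X := by
  let Q := R ⧸ I
  letI : Algebra S (Q ⊗[R] S) := Algebra.TensorProduct.rightAlgebra
  let S₁ := Q ⊗[R] S
  have hsurj : Function.Surjective (algebraMap S S₁) :=
    Algebra.TensorProduct.includeRight_surjective (R := R) (S := Q) S Ideal.Quotient.mk_surjective
  haveI : IsNoetherianRing S₁ := isNoetherianRing_of_surjective S S₁ _ hsurj
  let X₁ := S₁ ⊗[S] X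
  let e : X₁ ≃ₗ[Q] Q ⊗[R] X := Algebra.IsPushout.cancelBaseChange R Q S S₁ X
  show Module.Flat Q (Q ⊗[R] X)
  rw [← Module.Flat.equiv_iff e]
  refine FlatCrit.flat_of_flat_quotient_pow (R := Q) (M := X₁) (S := S₁) ((maximalIdeal R).map (Ideal.Quotient.mk I)) ?_ fun k => ?_
  · rw [Ideal.map_map, show (algebraMap Q S₁).comp (Ideal.Quotient.mk I) = algebraMap R S₁ from
      (IsScalarTower.algebraMap_eq R Q S₁).symm, IsScalarTower.algebraMap_eq R S S₁, ← Ideal.map_map]
    intro z hz
    rw [Ideal.mem_jacobson_bot]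
    intro y
    obtain ⟨w, hw, rfl⟩ := (Ideal.mem_map_iff_of_surjective _ hsurj).1 hz
    obtain ⟨y, rfl⟩ := hsurj y
    rw [← map_mul, ← map_one (algebraMap S S₁), ← map_add]
    refine (IsLocalRing.notMem_maximalIdeal.1 fun hm => ?_).map _
    have hwm : w ∈ maximalIdeal S := Ideal.map_le_iff_le_comap.2 (fun a ha => map_nonunit _ _ ha) hw
    exact (maximalIdeal.isMaximal S).ne_top ((Ideal.eq_top_iff_one _).2
      (by simpa using sub_mem hm (Ideal.mul_mem_right y _ hwm)))
  · have hk := (fq_of_surjective (A := R) (L := Q) Ideal.Quotient.mk_surjective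
      (((maximalIdeal R).map (Ideal.Quotient.mk I)) ^ k) (M := X)).1 (by
        rw [← Ideal.map_pow, Ideal.Quotient.algebraMap_eq,
          Ideal.comap_map_of_surjective _ Ideal.Quotient.mk_surjective, ← RingHom.ker_eq_comap_bot, Ideal.mk_ker, sup_comm]
        exact h k)
    have e' : X₁ ≃ₗ[Q] Q ⊗[R] X := e
    exact (fq_congr (A := Q) (X := X₁) (Y := Q ⊗[R] X) e' _).2 hk

end AInjLib
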