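import Groth.Prelude
import Groth.Agent.WeakAssTensLib.Main
import Groth.Agent.FlatInjLib.InjEss
import Groth.Agent.S1215
import Groth.Agent.S1216
import Groth.Agent.S0495
import Mathlib

/-!
# Flat modules and base-linear maps injective modulo the maximal ideal

Auxiliary facts for modules over a local algebra essentially of finite type over a local ring.
-/

set_option autoImplicit false
set_option linter.style.haveILetI false

universe u

open IsLocalRing
open scoped TensorProduct

namespace AInjLib

attribute [local instance] Algebra.TensorProduct.rightAlgebra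

/-- The reduction modulo an ideal of the base, with the induced local algebra. -/
theorem exists_quot {A B : Type u} [CommRing A] [IsLocalRing A] [CommRing B] [IsLocalRing B] [Algebra A B]
    [IsLocalHom (algebraMap A B)] [Algebra.EssFiniteType A B]
    (N : Type u) [AddCommGroup N] [Module B N] [Module A N] [IsScalarTower A B N] [Module.Finite B N]
    [Module.Flat A N] (J : Ideal A) [Nontrivial (A ⧸ J)] :
    ∃ (B' N' : Type u) (_ : CommRing B') (_ : IsLocalRing B') (_ : Algebra (A ⧸ J) B')
      (_ : AddCommGroup N') (_ : Module B' N') (_ : Module (A ⧸ J) N') (_ : IsScalarTower (A ⧸ J) B' N')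
      (π : N →+ N'), IsLocalHom (algebraMap (A ⧸ J) B') ∧ Algebra.EssFiniteType (A ⧸ J) B' ∧
      Module.Finite B' N' ∧ Module.Flat (A ⧸ J) N' ∧ Function.Surjective π ∧
      (∀ x, π x = 0 ↔ x ∈ J • (⊤ : Submodule A N)) ∧ ∀ (a : A) x, π (a • x) = Ideal.Quotient.mk J a • π x := by
  let Q := A ⧸ J
  let C := Q ⊗[A] B
  have hJ : J ≤ maximalIdeal A := IsLocalRing.le_maximalIdeal fun h => by
    exact (Ideal.Quotient.nontrivial_iff.1 (inferInstance : Nontrivial (A ⧸ J))) h
  have hsurjQ : Function.Surjective (algebraMap A Q) := Ideal.Quotient.mk_surjective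
  have hsurj : Function.Surjective (algebraMap B C) := by
    intro c
    induction c using TensorProduct.induction_on with
    | zero => exact ⟨0, map_zero _⟩
    | tmul q b =>
      obtain ⟨a, rfl⟩ := hsurjQ q
      refine ⟨a • b, ?_⟩
      show (1 : Q) ⊗ₜ[A] (a • b) = _
      rw [← TensorProduct.smul_tmul, Algebra.smul_def, mul_one]
    | add c c' hc hc' =>
      obtain ⟨b, rfl⟩ := hc; obtain ⟨b', rfl⟩ := hc'
      exact ⟨b + b', map_add _ _ _⟩
  let ε : C →+* ResidueField B := (Algebra.TensorProduct.lift
    (Ideal.Quotient.liftₐ J (Algebra.ofId A (ResidueField B)) fun a ha => by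
      show algebraMap A (ResidueField B) a = 0
      rw [IsScalarTower.algebraMap_apply A B (ResidueField B)]
      exact (residue_eq_zero_iff _).2 (map_nonunit _ _ (hJ ha)))
    (IsScalarTower.toAlgHom A B (ResidueField B)) fun _ _ => Commute.all _ _).toRingHom
  haveI : Nontrivial C := ε.domain_nontrivial
  haveI : IsLocalRing C := IsLocalRing.of_surjective' (algebraMap B C) hsurj
  haveI : IsLocalHom (algebraMap Q C) := ⟨fun q hq => by
    obtain ⟨a, rfl⟩ := hsurjQ q
    refine (IsLocalRing.notMem_maximalIdeal.1 fun ha => ?_).map _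
    have h := hq.map ε
    rw [← IsScalarTower.algebraMap_apply A Q C] at h
    have h0 : ε (algebraMap A C a) = 0 := by
      show Algebra.TensorProduct.lift _ _ _ (algebraMap A C a) = 0
      rw [AlgHom.commutes, IsScalarTower.algebraMap_apply A B (ResidueField B)]
      exact (residue_eq_zero_iff _).2 (map_nonunit _ _ ha)
    exact h.ne_zero h0⟩
  let e := Algebra.IsPushout.cancelBaseChange A Q B C N
  haveI : Module.Flat Q (C ⊗[B] N) := Module.Flat.of_linearEquiv e
  refine ⟨C, C ⊗[B] N, inferInstance, inferInstance, inferInstance, inferInstance, inferInstance,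
    inferInstance, TensorProduct.isScalarTower_left, ((TensorProduct.mk B C N) 1).toAddMonoidHom, inferInstance, inferInstance, inferInstance,
    inferInstance, TensorProduct.mk_surjective B N C hsurj, fun x => ?_, fun a x => ?_⟩
  · show (1 : C) ⊗ₜ[B] x = 0 ↔ _
    rw [← e.map_eq_zero_iff, Algebra.IsPushout.cancelBaseChange_tmul]
    exact (LinearMap.mem_ker (f := TensorProduct.mk A Q N 1)).symm.trans
      (by rw [LinearMap.ker_tensorProductMk])
  · show (1 : C) ⊗ₜ[B] (a • x) = _
    rw [← algebraMap_smul B a x, TensorProduct.tmul_smul, algebraMap_smul]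
    exact (algebraMap_smul Q a ((1 : C) ⊗ₜ[B] x)).symm

/-- An element of a flat module killed by `a` lies in the annihilator of `a` times the module. -/
theorem mem_annihilator_smul_top {A N : Type u} [CommRing A] [AddCommGroup N] [Module A N] [Module.Flat A N]
    (a : A) (x : N) (h : a • x = 0) :
    x ∈ (Submodule.span A {a}).annihilator • (⊤ : Submodule A N) := by
  let K := LinearMap.ker (LinearMap.toSpanSingleton A A a)
  have hex : Function.Exact (K.subtype.lTensor N) ((LinearMap.toSpanSingleton A A a).lTensor N) :=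
    Module.Flat.lTensor_exact N (LinearMap.exact_subtype_ker_map _)
  obtain ⟨w, hw⟩ := (hex (x ⊗ₜ 1)).1 (by
    rw [LinearMap.lTensor_tmul, LinearMap.toSpanSingleton_apply, one_smul,
      show x ⊗ₜ[A] a = (a • x) ⊗ₜ[A] (1 : A) by rw [TensorProduct.smul_tmul, smul_eq_mul, mul_one],
      h, TensorProduct.zero_tmul])
  rw [show x = TensorProduct.rid A N (K.subtype.lTensor N w) by rw [hw]; simp]
  clear hw
  induction w using TensorProduct.induction_on with
  | zero => simp
  | tmul n k =>
    simp only [LinearMap.lTensor_tmul, TensorProduct.rid_tmul]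
    refine Submodule.smul_mem_smul ?_ trivial
    rw [Submodule.mem_annihilator_span_singleton]
    exact LinearMap.mem_ker.1 k.2
  | add p q hp hq => rw [map_add, map_add]; exact add_mem hp hq

/-- Universal injectivity from injectivity modulo every ideal. -/
theorem univInj_of_forall_ideal {A N M : Type u} [CommRing A] [AddCommGroup N] [Module A N] [AddCommGroup M]
    [Module A M] [Module.Flat A M] (u : N →ₗ[A] M)
    (h : ∀ (J : Ideal A) (x : N), u x ∈ J • (⊤ : Submodule A M) → x ∈ J • (⊤ : Submodule A N))
    (Q : Type u) [AddCommGroup Q] [Module A Q] : Function.Injective (LinearMap.rTensor Q u) := by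
  have hu : Function.Injective u := (injective_iff_map_eq_zero u).2 fun x hx => by
    simpa using h ⊥ x (by rw [hx]; exact zero_mem _)
  haveI : Module.Flat A (M ⧸ LinearMap.range u) := by
    refine Module.Flat.iff_lTensor_injective.2 fun I _ => ?_
    refine (injective_iff_map_eq_zero _).2 fun z hz => ?_
    obtain ⟨w, rfl⟩ := LinearMap.rTensor_surjective I (g := (LinearMap.range u).mkQ) (Submodule.mkQ_surjective _) z
    let e := TensorProduct.rid A M
    have hw : (LinearMap.range u).mkQ (e (I.subtype.lTensor M w)) = 0 := by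
      have h1 := congrArg (TensorProduct.rid A (M ⧸ LinearMap.range u)) hz
      rw [map_zero, ← LinearMap.comp_apply (I.subtype.lTensor _), LinearMap.lTensor_comp_rTensor,
        ← LinearMap.rTensor_comp_lTensor, LinearMap.comp_apply] at h1
      rw [← h1]
      induction I.subtype.lTensor M w using TensorProduct.induction_on with
      | zero => simp only [map_zero]
      | tmul m a => simp [e]
      | add p q hp hq => simp only [map_add, hp, hq]
    obtain ⟨x, hx⟩ := (Submodule.Quotient.mk_eq_zero _).1 hw
    have hIM : e (I.subtype.lTensor M w) ∈ I • (⊤ : Submodule A M) := by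
      clear hw hx hz
      induction w using TensorProduct.induction_on with
      | zero => simp only [map_zero]; exact zero_mem _
      | tmul m a =>
        show (a : A) • m ∈ _
        exact Submodule.smul_mem_smul a.2 trivial
      | add p q hp hq => simp only [map_add]; exact add_mem hp hq
    have hxI : x ∈ I • (⊤ : Submodule A N) := h I x (hx ▸ hIM)
    obtain ⟨v, hv⟩ : ∃ v : N ⊗[A] I, TensorProduct.rid A N (I.subtype.lTensor N v) = x := by
      refine Submodule.smul_induction_on hxI (fun a ha y _ => ⟨y ⊗ₜ ⟨a, ha⟩, by simp⟩) fun p q ⟨vp, hp⟩ ⟨vq, hq⟩ =>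
        ⟨vp + vq, by rw [map_add, map_add, hp, hq]⟩
    have hwv : w = u.rTensor I v := by
      refine Module.Flat.lTensor_preserves_injective_linearMap (M := M) I.subtype I.injective_subtype (e.injective ?_)
      rw [← hx, ← hv]
      clear hv hx hIM hw hz hxI
      induction v using TensorProduct.induction_on with
      | zero => simp only [map_zero]
      | tmul y a => simp [e]
      | add p q hp hq => simp only [map_add, hp, hq]
    rw [hwv, ← LinearMap.comp_apply, ← LinearMap.rTensor_comp,
      show (LinearMap.range u).mkQ.comp u = 0 from LinearMap.ext fun y =>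
        (Submodule.Quotient.mk_eq_zero _).2 ⟨y, rfl⟩, LinearMap.rTensor_zero, LinearMap.zero_apply]
  exact (LinearMap.lTensor_inj_iff_rTensor_inj Q u).1
    (LinearMap.lTensor_injective_of_exact_of_flat (LinearMap.range u).mkQ (Submodule.mkQ_surjective _) u hu
      (LinearMap.exact_map_mkQ_range u) Q)

/-- A local base change at a prime over the closed point. -/
theorem exists_local_ext {A V B : Type u} [CommRing A] [CommRing V] [IsLocalRing V] [Algebra A V] [CommRing B]
    [Algebra A B] [Algebra.EssFiniteType A B] (N : Type u) [AddCommGroup N] [Module B N] [Module A N]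
    [IsScalarTower A B N] [Module.Finite B N] [Module.Flat A N]
    (q : Ideal (V ⊗[A] B)) [q.IsPrime] (hq : q.comap (algebraMap V (V ⊗[A] B)) = maximalIdeal V) :
    ∃ (L W : Type u) (_ : CommRing L) (_ : IsLocalRing L) (_ : Algebra V L) (_ : AddCommGroup W) (_ : Module L W)
      (_ : Module V W) (_ : IsScalarTower V L W) (η : N →+ W), IsLocalHom (algebraMap V L) ∧ Algebra.EssFiniteType V L ∧
      Module.Finite L W ∧ Module.Flat V W ∧ (∀ (a : A) (x : N), η (a • x) = algebraMap A V a • η x) ∧
      ∀ (Z : Type u) [CommRing Z] [Algebra B Z] (θ : V ⊗[A] B →+* Z), θ.comp (algebraMap B (V ⊗[A] B)) = algebraMap B Z →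
        (∀ c, c ∉ q → IsUnit (θ c)) → ∀ x : N, η x = 0 → (1 : Z) ⊗ₜ[B] x = 0 := by
  let C := V ⊗[A] B
  let L := Localization.AtPrime q
  haveI : IsLocalHom (algebraMap V L) := ⟨fun v hv => by
    rw [IsScalarTower.algebraMap_apply V C L, IsLocalization.AtPrime.isUnit_to_map_iff L q] at hv
    exact IsLocalRing.notMem_maximalIdeal.1 fun hm => hv (hq.ge hm : v ∈ q.comap (algebraMap V C))⟩
  haveI : Algebra.EssFiniteType C L := Algebra.EssFiniteType.of_isLocalization L q.primeCompl
  haveI : Algebra.EssFiniteType V L := Algebra.EssFiniteType.comp V C L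
  haveI : Module.Flat V (L ⊗[B] N) := by
    haveI : Module.Flat V (C ⊗[B] N) :=
      Module.Flat.of_linearEquiv (Algebra.IsPushout.cancelBaseChange A V B C N)
    let φ : C ⊗[B] N →ₗ[C] L ⊗[B] N :=
      TensorProduct.AlgebraTensorModule.rTensor B N (Algebra.linearMap C L)
    exact FlatLib.flat_localized (R := V) (S := C) (M := C ⊗[B] N) (M' := L ⊗[B] N) q.primeCompl φ
  refine ⟨L, L ⊗[B] N, inferInstance, inferInstance, inferInstance, inferInstance, inferInstance, inferInstance,
    TensorProduct.isScalarTower_left, ((TensorProduct.mk B L N) 1).toAddMonoidHom, inferInstance, inferInstance, inferInstance,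
    inferInstance, fun a x => ?_, fun Z _ _ θ hθB hθ x hx => ?_⟩
  · show (1 : L) ⊗ₜ[B] (a • x) = _
    rw [← algebraMap_smul B a x, TensorProduct.tmul_smul, algebraMap_smul]
    exact (algebraMap_smul V a ((1 : L) ⊗ₜ[B] x)).symm
  · have hu : ∀ c : q.primeCompl, IsUnit (θ (c : C)) := fun c => hθ c c.2
    let θL : L →+* Z := IsLocalization.lift hu
    let θ' : L →ₗ[B] Z :=
      { θL.toAddMonoidHom with
        map_smul' := fun b l => by
          show θL (b • l) = b • θL l
          rw [Algebra.smul_def, Algebra.smul_def, map_mul, IsScalarTower.algebraMap_apply B C L, IsLocalization.lift_eq]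
          congr 1
          exact RingHom.congr_fun hθB b }
    have h2 := congrArg (θ'.rTensor N) (show (1 : L) ⊗ₜ[B] x = 0 from hx)
    rwa [map_zero, LinearMap.rTensor_tmul, show θ' 1 = 1 from map_one θL] at h2

set_option maxHeartbeats 1600000 in
/-- Over a domain which is not a field there are no nonzero elements divisible by all nonzero elements. -/
theorem eq_zero_of_divisible {A B : Type u} [CommRing A] [IsDomain A] [IsLocalRing A] [CommRing B] [IsLocalRing B]
    [Algebra A B] [IsLocalHom (algebraMap A B)] [Algebra.EssFiniteType A B]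
    {N : Type u} [AddCommGroup N] [Module B N] [Module A N] [IsScalarTower A B N] [Module.Finite B N]
    [Module.Flat A N] (hm : maximalIdeal A ≠ ⊥) (ξ : N)
    (h : ∀ a : A, a ≠ 0 → ξ ∈ Ideal.span {a} • (⊤ : Submodule A N)) : ξ = 0 := by
  classical
  by_contra hξ
  have hne : (Submodule.span B {ξ}).annihilator ≠ ⊤ := fun ht => hξ (by
    simpa using (Submodule.mem_annihilator_span_singleton ξ (1 : B)).1 (ht ▸ Submodule.mem_top))
  obtain ⟨q, hq⟩ := Ideal.nonempty_minimalPrimes hne
  haveI : q.IsPrime := hq.1.1
  have hsupp : ∀ s, s ∉ q → s • ξ ≠ 0 := fun s hs hs0 =>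
    hs (hq.1.2 ((Submodule.mem_annihilator_span_singleton ξ s).2 hs0))
  have hq0 : ∀ a : A, a ≠ 0 → algebraMap A B a ∉ q := fun a ha haq => by
    obtain ⟨-, -, hmin⟩ := (Groth.Agent.WeakAssLib.mem_minimalPrimes_ann ξ q).1 hq
    obtain ⟨s, hs, k, hk⟩ := hmin _ haq
    rw [mul_smul, ← map_pow, algebraMap_smul] at hk
    refine hsupp s hs ?_
    have hreg : IsSMulRegular N (a ^ k) :=
      Module.Flat.isSMulRegular_of_isRegular (IsRegular.of_ne_zero (pow_ne_zero k ha))
    refine hreg ?_
    show a ^ k • s • ξ = a ^ k • (0 : N)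
    rw [smul_zero, smul_comm, hk]
  -- valuations
  let K := FractionRing A
  let F := q.ResidueField
  have hAF : Function.Injective (algebraMap A F) := (injective_iff_map_eq_zero _).2 fun a ha => by
    by_contra ha0
    rw [IsScalarTower.algebraMap_apply A B F, Ideal.algebraMap_residueField_eq_zero] at ha
    exact hq0 a ha0 ha
  let κ : K →+* F := IsFractionRing.lift hAF
  obtain ⟨W, hW⟩ := LocalSubring.exists_le_valuationSubring (LocalSubring.range (algebraMap B F))
  have hBW : ∀ b : B, algebraMap B F b ∈ W := fun b => hW.1 ⟨b, rfl⟩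
  let V := W.comap κ
  have hAV : ∀ a : A, algebraMap A K a ∈ V := fun a => by
    show κ (algebraMap A K a) ∈ W
    rw [IsFractionRing.lift_algebraMap, IsScalarTower.algebraMap_apply A B F]
    exact hBW _
  letI algAV : Algebra A V := ((algebraMap A K).codRestrict V.toSubring hAV).toAlgebra
  let jV : V →+* W := (κ.comp V.subtype).codRestrict W.toSubring fun v => v.2
  let jB : B →+* W := (algebraMap B F).codRestrict W.toSubring hBW
  letI algAW : Algebra A W := (jB.comp (algebraMap A B)).toAlgebra
  let jV' : V →ₐ[A] W := { jV with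
    commutes' := fun a => Subtype.ext (by
      show κ (algebraMap A K a) = algebraMap B F (algebraMap A B a)
      rw [IsFractionRing.lift_algebraMap, ← IsScalarTower.algebraMap_apply]) }
  let jB' : B →ₐ[A] W := { jB with commutes' := fun _ => rfl }
  let C := V ⊗[A] B
  let ψ : C →ₐ[A] W := Algebra.TensorProduct.lift jV' jB' fun _ _ => Commute.all _ _
  let qV : Ideal C := (maximalIdeal W).comap ψ.toRingHom
  have hjV : ∀ v : V, IsUnit (jV v) → IsUnit v := fun v hv => by
    obtain ⟨w, hw⟩ := hv.exists_right_inv
    have hF : κ (v : K) * (w : F) = 1 := congrArg Subtype.val hw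
    have hv0 : (v : K) ≠ 0 := fun h0 => by simp [h0] at hF
    have hinv : (v : K)⁻¹ ∈ V := by
      show κ (v : K)⁻¹ ∈ W
      rw [map_inv₀, inv_eq_of_mul_eq_one_right hF]
      exact w.2
    exact isUnit_iff_exists_inv.2 ⟨⟨_, hinv⟩, Subtype.ext (mul_inv_cancel₀ hv0)⟩
  have hqV : qV.comap (algebraMap V C) = maximalIdeal V := by
    ext v
    have h3 : ψ.toRingHom (algebraMap V C v) = jV v := by
      show ψ (v ⊗ₜ (1 : B)) = _
      rw [Algebra.TensorProduct.lift_tmul, map_one, mul_one]
      rfl
    show ψ.toRingHom (algebraMap V C v) ∈ maximalIdeal W ↔ _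
    rw [h3, mem_maximalIdeal, mem_maximalIdeal, mem_nonunits_iff, mem_nonunits_iff]
    exact not_congr ⟨hjV v, fun h => h.map jV⟩
  obtain ⟨L, W', _, _, _, _, _, _, _, η, _, _, _, _, hη, hηZ⟩ := exists_local_ext (A := A) (V := V) (B := B) N qV hqV
  obtain ⟨I, hI, hmem, hmin⟩ := Groth.Agent.S1216.result (A := V) (B := L) W' (η ξ)
  -- the element does not vanish
  let Bq := Localization.AtPrime q
  have hKq : ∀ a : nonZeroDivisors A, IsUnit (algebraMap A Bq (a : A)) := fun a => by
    rw [IsScalarTower.algebraMap_apply A B Bq]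
    exact IsLocalization.map_units Bq (⟨_, hq0 _ (nonZeroDivisors.ne_zero a.2)⟩ : q.primeCompl)
  let θK : K →+* Bq := IsLocalization.lift hKq
  let θV : V →ₐ[A] Bq :=
    { θK.comp V.subtype with
      commutes' := fun a => by
        show θK ((algebraMap A V a : V) : K) = algebraMap A Bq a
        have e : ((algebraMap A V a : V) : K) = algebraMap A K a := rfl
        rw [e]
        exact IsLocalization.lift_eq hKq a }
  let θ : C →ₐ[A] Bq := Algebra.TensorProduct.lift θV (IsScalarTower.toAlgHom A B Bq) fun _ _ => Commute.all _ _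
  let ρ : Bq →+* F := algebraMap Bq F
  have hρθ : ∀ c, ρ (θ c) = (ψ c : F) := fun c => by
    induction c using TensorProduct.induction_on with
    | zero => simp
    | tmul v b =>
      rw [Algebra.TensorProduct.lift_tmul, Algebra.TensorProduct.lift_tmul, map_mul]
      show ρ (θK (v : K)) * ρ (algebraMap B Bq b) = κ (v : K) * algebraMap B F b
      rw [show ρ (algebraMap B Bq b) = algebraMap B F b from (IsScalarTower.algebraMap_apply B Bq F b).symm,
        show ρ (θK (v : K)) = κ (v : K) from RingHom.congr_fun (IsLocalization.ringHom_ext (nonZeroDivisors A)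
          (RingHom.ext fun a => by
            simp only [RingHom.comp_apply]
            rw [IsLocalization.lift_eq hKq, IsFractionRing.lift_algebraMap, ← IsScalarTower.algebraMap_apply]) :
            ρ.comp θK = κ) (v : K)]
    | add c c' hc hc' => simp only [map_add, hc, hc']; rfl
  have hθu : ∀ c : qV.primeCompl, IsUnit (θ.toRingHom (c : C)) := fun c => by
    by_contra hnu
    refine c.2 ?_
    show ψ (c : C) ∈ maximalIdeal W
    have h0 : ρ (θ.toRingHom (c : C)) = 0 :=
      (IsLocalRing.residue_eq_zero_iff _).2 ((mem_maximalIdeal _).2 hnu)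
    rw [show ψ (c : C) = 0 from Subtype.ext ((hρθ _).symm.trans h0)]
    exact zero_mem _
  have hne' : η ξ ≠ 0 := fun h0 => by
    have h1 : (1 : Bq) ⊗ₜ[B] ξ = 0 := by
      refine hηZ Bq θ.toRingHom (RingHom.ext fun b => ?_) (fun c hc => hθu ⟨c, hc⟩) ξ h0
      show θ ((1 : V) ⊗ₜ[A] b) = _
      rw [Algebra.TensorProduct.lift_tmul, map_one, one_mul]
      rfl
    obtain ⟨s, hs⟩ := (IsLocalizedModule.eq_zero_iff q.primeCompl (TensorProduct.mk B Bq N 1)).1 h1
    exact hsupp s s.2 hs
  -- contradiction with the content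
  obtain ⟨γ, rfl⟩ := hI.principal
  have hγ : γ ≠ 0 := fun h0 => hne' (by
    subst h0
    rwa [Submodule.span_zero_singleton, Submodule.bot_smul, Submodule.mem_bot] at hmem)
  obtain ⟨r₁, r₂, hr₂, hr⟩ := IsFractionRing.div_surjective (A := A) (γ : K)
  have hr₁ : r₁ ≠ 0 := fun h0 => hγ (Subtype.ext (by rw [← hr, h0, map_zero, zero_div]; rfl))
  obtain ⟨m₀, hm₀, hm₀0⟩ := Submodule.exists_mem_ne_zero_of_ne_bot hm
  have hx : η ξ ∈ Ideal.span {algebraMap A V (r₁ * m₀)} • (⊤ : Submodule V W') := by
    refine Submodule.smul_induction_on (h _ (mul_ne_zero hr₁ hm₀0)) (fun a ha n _ => ?_) fun n n' hn hn' => by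
      rw [map_add]; exact add_mem hn hn'
    obtain ⟨c, rfl⟩ := Ideal.mem_span_singleton'.1 ha
    rw [hη]
    refine Submodule.smul_mem_smul ?_ trivial
    rw [map_mul (algebraMap A V) c (r₁ * m₀)]
    exact Ideal.mul_mem_left _ _ (Ideal.mem_span_singleton_self _)
  obtain ⟨v, hv⟩ := Ideal.mem_span_singleton'.1 (hmin _ hx (Ideal.subset_span rfl))
  have hunit : IsUnit (algebraMap A V m₀) := by
    refine isUnit_iff_exists_inv.2 ⟨v * algebraMap A V r₂, Subtype.ext ?_⟩
    have h1 : (v : K) * (algebraMap A K r₁ * algebraMap A K m₀) = algebraMap A K r₁ / algebraMap A K r₂ := by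
      rw [hr, ← map_mul]
      exact congrArg Subtype.val hv
    have hr₂0 : algebraMap A K r₂ ≠ 0 :=
      IsFractionRing.to_map_ne_zero_of_mem_nonZeroDivisors hr₂
    have hr₁0 : algebraMap A K r₁ ≠ 0 := fun h0 => hr₁ (IsFractionRing.injective A K (h0.trans (map_zero _).symm))
    show algebraMap A K m₀ * ((v : K) * algebraMap A K r₂) = 1
    rw [eq_div_iff hr₂0] at h1
    refine mul_left_cancel₀ hr₁0 ?_
    linear_combination h1
  have hb : algebraMap A B m₀ ∈ maximalIdeal B := map_nonunit _ _ hm₀
  have h1 : IsUnit (jB (algebraMap A B m₀)) := by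
    have := hunit.map jV'
    rw [AlgHom.commutes] at this
    exact this
  refine (mem_maximalIdeal _).1 hb ?_
  haveI := hW.2
  have h3 : IsUnit (⟨algebraMap B F (algebraMap A B m₀), ⟨_, rfl⟩⟩ : (algebraMap B F).range) :=
    IsUnit.of_map (Subring.inclusion hW.1) _ h1
  haveI : IsLocalHom (algebraMap B F).rangeRestrict := .of_surjective _ (algebraMap B F).rangeRestrict_surjective
  exact IsUnit.of_map (algebraMap B F).rangeRestrict _ h3

end AInjLib
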