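import Groth.Agent.AInjLib.Basic

/-!
# Base-linear maps from flat modules which are injective modulo the maximal ideal
-/

set_option autoImplicit false
set_option linter.style.haveILetI false

universe u

open IsLocalRing
open scoped TensorProduct

namespace AInjLib

variable {A B : Type u} [CommRing A] [CommRing B] [IsLocalRing A] [IsLocalRing B] [Algebra A B]
  [IsLocalHom (algebraMap A B)] [Algebra.EssFiniteType A B]
  {N M : Type u} [AddCommGroup N] [Module B N] [Module A N] [IsScalarTower A B N] [Module.Finite B N]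
  [AddCommGroup M] [Module A M]

set_option maxHeartbeats 800000 in
omit [IsLocalRing A] [IsLocalRing B] [IsLocalHom (algebraMap A B)] in
/-- A minimal prime over the annihilator of an element of a flat module lies over a weakly associated prime. -/
theorem comap_mem_weakAss [Module.Flat A N] (x : N) (q : Ideal B) [q.IsPrime]
    (hq : q ∈ (Submodule.span B {x}).annihilator.minimalPrimes) :
    q.comap (algebraMap A B) ∈ FlatCA.weakAss A A := by
  classical
  obtain ⟨d, π, hπ⟩ := FlatInjLib.exists_presentation A B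
  let S := MvPolynomial (Fin d) A
  letI : Algebra S B := π.toRingHom.toAlgebra
  haveI : IsScalarTower A S B := IsScalarTower.of_algebraMap_eq fun a => (π.commutes a).symm
  letI : Module S N := Module.compHom N π.toRingHom
  haveI : IsScalarTower S B N := IsScalarTower.of_algebraMap_smul fun _ _ => rfl
  haveI : IsScalarTower A S N := IsScalarTower.of_algebraMap_smul fun a n => by
    show π (algebraMap A S a) • n = a • n
    rw [AlgHom.commutes, algebraMap_smul]
  obtain ⟨r, e, he⟩ := Module.Finite.exists_fin (R := B) (M := N)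
  let N0 : Submodule S N := Submodule.span S (insert x (Set.range e))
  haveI : Module.Finite S N0 := Module.Finite.iff_fg.2 (Submodule.fg_span ((Set.finite_range e).insert x))
  let Q : Ideal S := q.comap (algebraMap S B)
  let p : Ideal A := q.comap (algebraMap A B)
  haveI : Q.LiesOver p := ⟨by
    show q.comap (algebraMap A B) = (q.comap (algebraMap S B)).comap (algebraMap A S)
    rw [Ideal.comap_comap, ← IsScalarTower.algebraMap_eq]⟩
  have hfrac : ∀ b : B, ∃ t f : S, t ∉ Q ∧ algebraMap S B t * b = algebraMap S B f := fun b => by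
    obtain ⟨t, f, ht, htf⟩ := hπ b
    exact ⟨t, f, fun h => Ideal.IsPrime.ne_top' (Ideal.eq_top_of_isUnit_mem q h ht), htf⟩
  have hfracq : ∀ b : B, b ∉ q → ∃ t f : S, t ∉ Q ∧ f ∉ Q ∧ algebraMap S B t * b = algebraMap S B f := fun b hb => by
    obtain ⟨t, f, ht, htf⟩ := hfrac b
    refine ⟨t, f, ht, fun hf => hb ?_, htf⟩
    exact ((inferInstance : q.IsPrime).mem_or_mem (htf ▸ hf : algebraMap S B t * b ∈ q)).resolve_left ht
  obtain ⟨-, hq1, hq2⟩ := (Groth.Agent.WeakAssLib.mem_minimalPrimes_ann x q).1 hq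
  let x0 : N0 := ⟨x, Submodule.subset_span (Set.mem_insert _ _)⟩
  have hQ : Q ∈ FlatCA.weakAss S N0 := ⟨x0, (Groth.Agent.WeakAssLib.mem_minimalPrimes_ann x0 Q).2
    ⟨inferInstance, fun s hs => hq1 _ ((algebraMap_smul B s x).trans (congrArg Subtype.val hs)), fun a ha => by
      obtain ⟨b, hb, n, hn⟩ := hq2 _ ha
      obtain ⟨t, f, ht, hf, htf⟩ := hfracq b hb
      refine ⟨f, hf, n, Subtype.ext ?_⟩
      show (f * a ^ n) • x = 0
      rw [← algebraMap_smul B, map_mul, map_pow, ← htf, mul_assoc, mul_smul, hn, smul_zero]⟩⟩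
  -- flatness at the point
  let L := LocalizedModule q.primeCompl N
  haveI : Module.Flat A L := FlatInjLib.flat_of_isLocalizedModule q.primeCompl
    (LocalizedModule.mkLinearMap q.primeCompl N)
  let f : N0 →ₗ[S] L := (LocalizedModule.mkLinearMap q.primeCompl N).restrictScalars S ∘ₗ N0.subtype
  haveI : IsLocalizedModule Q.primeCompl f :=
    { map_units := fun t => by
        have hu := IsLocalizedModule.map_units (LocalizedModule.mkLinearMap q.primeCompl N)
          (⟨algebraMap S B t, t.2⟩ : q.primeCompl)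
        rw [Module.End.isUnit_iff] at hu ⊢
        convert! hu using 1
        funext z
        show (t : S) • z = algebraMap S B t • z
        rw [algebraMap_smul]
      surj := fun z => by
        induction z using LocalizedModule.induction_on with
        | h n b =>
          obtain ⟨c, hc⟩ := (Submodule.mem_span_range_iff_exists_fun B).1 (he ▸ (Submodule.mem_top : n ∈ (⊤ : Submodule B N)))
          choose t g ht htg using fun i => hfrac (c i)
          obtain ⟨tb, fb, htb, hfb, hb⟩ := hfracq b b.2
          let T := ∏ i, t i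
          have hT : T ∉ Q := fun h => by
            obtain ⟨i, -, hi⟩ := Ideal.IsPrime.prod_mem_iff.1 h
            exact ht i hi
          have hn : T • n ∈ N0 := by
            rw [← hc, Finset.smul_sum]
            refine sum_mem fun i _ => ?_
            rw [show T • c i • e i = ((∏ j ∈ Finset.univ.erase i, t j) * g i) • e i by
              rw [← algebraMap_smul B T, smul_smul, show T = (∏ j ∈ Finset.univ.erase i, t j) * t i from
                (Finset.prod_erase_mul Finset.univ t (Finset.mem_univ i)).symm,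
                map_mul, mul_assoc, htg, ← map_mul, algebraMap_smul]]
            exact Submodule.smul_mem _ _ (Submodule.subset_span (Set.mem_insert_of_mem _ ⟨i, rfl⟩))
          refine ⟨⟨tb • ⟨T • n, hn⟩, ⟨fb * T, Q.primeCompl.mul_mem hfb hT⟩⟩, ?_⟩
          show (fb * T) • LocalizedModule.mk n b = LocalizedModule.mk (tb • T • n) 1
          rw [← algebraMap_smul B (fb * T), map_mul, ← hb, LocalizedModule.smul'_mk, LocalizedModule.mk_eq]
          refine ⟨1, ?_⟩
          simp only [Submonoid.smul_def, OneMemClass.coe_one, one_smul, mul_smul, algebraMap_smul]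
          rw [smul_comm (b : B) tb]
      exists_of_eq := fun {a c} hac => by
        obtain ⟨b, hb⟩ := (IsLocalizedModule.eq_iff_exists q.primeCompl (LocalizedModule.mkLinearMap q.primeCompl N)).1 hac
        obtain ⟨t, g, -, hg, htg⟩ := hfracq b b.2
        refine ⟨⟨g, hg⟩, Subtype.ext ?_⟩
        show g • (a : N) = g • (c : N)
        rw [← algebraMap_smul B g (a : N), ← algebraMap_smul B g (c : N), ← htg, mul_smul, mul_smul]
        exact congrArg _ hb }
  have hflat : FlatCA.FlatAt A Q N0 := Module.Flat.of_linearEquiv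
    ((IsLocalizedModule.iso Q.primeCompl f).restrictScalars A)
  refine WeakAssTensLib.mem_weakAss_base (M := A) p Q hflat ?_
  rwa [WeakBCLib.weakAss_of_linearEquiv (TensorProduct.AlgebraTensorModule.rid A S N0)]

variable (B)
include B

set_option maxHeartbeats 800000 in
/-- A zero-dimensional socle criterion. -/
theorem mem_of_socle_zero [Module.Flat A N] (I : Ideal A) (hI : I ≤ maximalIdeal A)
    (hrad : ∀ a ∈ maximalIdeal A, ∃ k : ℕ, a ^ k ∈ I)
    (hsoc : ∀ c : A, (∀ a ∈ maximalIdeal A, a * c ∈ I) → c ∈ I) (w : N)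
    (hw : ∀ a ∈ maximalIdeal A, a • w ∈ I • (⊤ : Submodule A N)) : w ∈ I • (⊤ : Submodule A N) := by
  haveI : Nontrivial (A ⧸ I) := Ideal.Quotient.nontrivial_iff.2 fun h =>
    (maximalIdeal.isMaximal A).ne_top (top_le_iff.1 (h ▸ hI))
  obtain ⟨B', N', _, _, _, _, _, _, _, π, _, _, _, _, hπs, hπ0, hπ⟩ := exists_quot (B := B) N I
  let T := A ⧸ I
  haveI : IsLocalRing T := IsLocalRing.of_surjective' (Ideal.Quotient.mk I) Ideal.Quotient.mk_surjective
  haveI : HenselianLocalRing T := Groth.Agent.S0495.result T (by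
    haveI : Ring.KrullDimLE 0 T := Ring.KrullDimLE.mk₀ fun P hP => by
      haveI : (P.comap (Ideal.Quotient.mk I)).IsPrime := Ideal.IsPrime.comap _
      have hle : maximalIdeal A ≤ P.comap (Ideal.Quotient.mk I) := fun a ha => by
        obtain ⟨k, hk⟩ := hrad a ha
        refine (inferInstance : (P.comap (Ideal.Quotient.mk I)).IsPrime).mem_of_pow_mem k ?_
        show Ideal.Quotient.mk I (a ^ k) ∈ P
        rw [Ideal.Quotient.eq_zero_iff_mem.2 hk]
        exact zero_mem _
      have hmax := (maximalIdeal.isMaximal A).eq_of_le (Ideal.IsPrime.ne_top inferInstance) hle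
      rw [← Ideal.map_comap_of_surjective _ Ideal.Quotient.mk_surjective P, ← hmax]
      exact (Ideal.map_eq_top_or_isMaximal_of_surjective _ Ideal.Quotient.mk_surjective (maximalIdeal.isMaximal A)).resolve_left
        fun h => hP.ne_top (by rw [← Ideal.map_comap_of_surjective _ Ideal.Quotient.mk_surjective P, ← hmax, h])
    exact le_antisymm (Ring.krullDimLE_iff.1 inferInstance) ringKrullDim_nonneg_of_nontrivial)
  have hML : CAlg.IsMittagLeffler T N' := Groth.Agent.S1215.result (A := T) (B := B') N'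
  let ι := {a : A // a ∈ maximalIdeal A}
  let φ : T →ₗ[T] (ι → T) := LinearMap.pi fun a => Ideal.Quotient.mk I a.1 • LinearMap.id
  have hφ : Function.Injective φ := (injective_iff_map_eq_zero φ).2 fun t ht => by
    obtain ⟨c, rfl⟩ := Ideal.Quotient.mk_surjective t
    refine Ideal.Quotient.eq_zero_iff_mem.2 (hsoc c fun a ha => Ideal.Quotient.eq_zero_iff_mem.1 ?_)
    rw [map_mul]
    exact congrFun ht ⟨a, ha⟩
  rw [← hπ0]
  have h1 : π w ⊗ₜ[T] (1 : T) = 0 := by
    refine Module.Flat.lTensor_preserves_injective_linearMap φ hφ (hML _ (fun _ => T) ?_)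
    rw [map_zero, map_zero]
    funext a
    rw [LinearMap.lTensor_tmul, TensorProduct.piRightHom_tmul]
    show π w ⊗ₜ[T] (Ideal.Quotient.mk I a.1 * 1) = 0
    rw [← smul_eq_mul, TensorProduct.tmul_smul, TensorProduct.smul_tmul', ← hπ, (hπ0 _).2 (hw a.1 a.2),
      TensorProduct.zero_tmul]
  simpa using congrArg (TensorProduct.rid T N') h1

set_option maxHeartbeats 1600000 in
/-- The key case. -/
theorem eq_zero_of_forall_mem [Module.Flat A N] [Module.Flat A M] (u : N →ₗ[A] M)
    (hu : ∀ z : N, u z ∈ maximalIdeal A • (⊤ : Submodule A M) → z ∈ maximalIdeal A • (⊤ : Submodule A N))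
    (x : N) (hx : ∀ a : A, a ≠ 0 → x ∈ Ideal.span {a} • (⊤ : Submodule A N)) (hux : u x = 0) : x = 0 := by
  classical
  by_contra hx0
  let P : Ideal A := (Submodule.span A {x}).annihilator
  have hP : ∀ a : A, a ∈ P ↔ a • x = 0 := fun a => Submodule.mem_annihilator_span_singleton x a
  have hspan : ∀ a : A, a ≠ 0 → ∃ y : N, x = a • y := fun a ha => by
    refine Submodule.smul_induction_on (hx a ha) (fun c hc y _ => ?_) fun y z ⟨y', hy⟩ ⟨z', hz⟩ =>
      ⟨y' + z', by rw [smul_add, hy, hz]⟩
    obtain ⟨d, rfl⟩ := Ideal.mem_span_singleton'.1 hc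
    exact ⟨d • y, by rw [smul_smul, mul_comm]⟩
  have hzd : ∀ a b : A, b ≠ 0 → a * b = 0 → a ∈ P := fun a b hb hab => by
    obtain ⟨y, rfl⟩ := hspan b hb
    rw [hP, smul_smul, hab, zero_smul]
  have hnzd : ∀ a : A, a ∈ P → ∃ b, b ≠ 0 ∧ a * b = 0 := fun a ha => by
    by_contra hne
    push Not at hne
    have hreg : IsSMulRegular N a := Module.Flat.isSMulRegular_of_isRegular
      (isRegular_iff_eq_zero_of_mul.2 ⟨fun b hb => by by_contra h; exact hne b h hb,
        fun b hb => by by_contra h; exact hne b h (by rw [mul_comm]; exact hb)⟩)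
    exact hx0 (hreg (show a • x = a • (0 : N) by rw [(hP a).1 ha, smul_zero]))
  haveI hPp : P.IsPrime := by
    refine ⟨fun h => hx0 (by simpa using (hP 1).1 (h ▸ Submodule.mem_top)), fun {a b} hab => ?_⟩
    obtain ⟨c, hc, habc⟩ := hnzd _ hab
    by_cases hbc : b * c = 0
    · exact Or.inr (hzd b c hc hbc)
    · exact Or.inl (hzd a (b * c) hbc (by rw [← mul_assoc]; exact habc))
  -- weakly associated
  have hne : (Submodule.span B {x}).annihilator ≠ ⊤ := fun ht => hx0 (by
    simpa using (Submodule.mem_annihilator_span_singleton x (1 : B)).1 (ht ▸ Submodule.mem_top))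
  obtain ⟨q, hq⟩ := Ideal.nonempty_minimalPrimes hne
  haveI : q.IsPrime := hq.1.1
  obtain ⟨-, hs0⟩ := (Groth.Agent.WeakAssLib.mem_weakAss_iff (M := A) _).1 (comap_mem_weakAss x q hq)
  have hqP : q.comap (algebraMap A B) = P := by
    obtain ⟨s₀, h1, h2⟩ := hs0
    refine le_antisymm (fun a ha => ?_) fun a ha => ?_
    · obtain ⟨t, ht, k, hk⟩ := h2 a ha
      rw [smul_eq_mul] at hk
      refine hPp.mem_of_pow_mem k (hzd _ (t * s₀) (fun h0 => ht (h1 t h0)) ?_)
      rw [← hk]; ring
    · refine hq.1.2 ((Submodule.mem_annihilator_span_singleton x _).2 ?_)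
      rw [algebraMap_smul, ← hP]
      exact ha
  obtain ⟨s₀, hs1, hs2⟩ := hs0
  rw [hqP] at hs1 hs2
  have hs₀ : s₀ ≠ 0 := fun h => hPp.ne_top ((Ideal.eq_top_iff_one P).2 (hs1 1 (by rw [h, smul_zero])))
  -- the socle
  obtain ⟨σ, hσ0, hσ⟩ : ∃ σ : A, σ ≠ 0 ∧ ∀ a ∈ P, a * σ = 0 := by
    by_contra hno
    push Not at hno
    obtain ⟨ξ, hξ⟩ := hspan s₀ hs₀
    let T := Localization.AtPrime P
    let L := Localization.AtPrime q
    let W := LocalizedModule q.primeCompl N
    haveI : q.LiesOver P := ⟨hqP.symm⟩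
    letI algTL : Algebra T L := Localization.AtPrime.algebraOfLiesOver P q
    haveI : IsScalarTower A T L := IsScalarTower.of_algebraMap_eq fun a => by
      show _ = Localization.localRingHom P q (algebraMap A B) _ (algebraMap A T a)
      rw [Localization.localRingHom_to_map, ← IsScalarTower.algebraMap_apply]
    haveI : IsLocalHom (algebraMap T L) :=
      inferInstanceAs (IsLocalHom (Localization.localRingHom P q (algebraMap A B) Ideal.LiesOver.over))
    letI : Module T W := Module.compHom W (algebraMap T L)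
    haveI : IsScalarTower T L W := IsScalarTower.of_algebraMap_smul fun _ _ => rfl
    haveI : IsScalarTower A T W := IsScalarTower.of_algebraMap_smul fun a z => by
      show algebraMap T L (algebraMap A T a) • z = a • z
      rw [← IsScalarTower.algebraMap_apply, algebraMap_smul]
    haveI : Algebra.EssFiniteType A L :=
      haveI := Algebra.EssFiniteType.of_isLocalization L q.primeCompl
      Algebra.EssFiniteType.comp A B L
    haveI : Algebra.EssFiniteType T L := Algebra.EssFiniteType.of_comp A T L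
    haveI : Module.Flat A W := FlatInjLib.flat_of_isLocalizedModule q.primeCompl
      (LocalizedModule.mkLinearMap q.primeCompl N)
    haveI : Module.Flat T W := (Module.flat_iff_of_isLocalization T P.primeCompl W).2 inferInstance
    haveI : Module.Finite L W := inferInstance
    let K : Ideal A := (Submodule.span A {s₀}).annihilator
    have hK : ∀ a, a ∈ K ↔ a * s₀ = 0 := fun a => Submodule.mem_annihilator_span_singleton s₀ a
    have hKT : ∀ c, c ∈ K.map (algebraMap A T) ↔ ∃ t, t ∉ P ∧ ∃ k ∈ K, c * algebraMap A T t = algebraMap A T k := fun c => by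
      rw [IsLocalization.mem_map_algebraMap_iff P.primeCompl T]
      exact ⟨fun ⟨⟨k, t⟩, h⟩ => ⟨t, t.2, k, k.2, h⟩, fun ⟨t, ht, k, hk, h⟩ => ⟨⟨⟨k, hk⟩, ⟨t, ht⟩⟩, h⟩⟩
    have hKP : K ≤ P := fun a ha => hs1 a ((hK a).1 ha)
    let w : W := LocalizedModule.mkLinearMap q.primeCompl N ξ
    have hw : w ∈ K.map (algebraMap A T) • (⊤ : Submodule T W) := by
      refine mem_of_socle_zero L (K.map (algebraMap A T)) ?_ ?_ ?_ w ?_
      · rw [← Localization.AtPrime.map_eq_maximalIdeal]
        exact Ideal.map_mono hKP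
      · intro c hc
        obtain ⟨a, t, rfl⟩ := IsLocalization.exists_mk'_eq P.primeCompl c
        rw [IsLocalization.AtPrime.mk'_mem_maximal_iff T P] at hc
        obtain ⟨s, hs, k, hk⟩ := hs2 a hc
        refine ⟨k, (hKT _).2 ⟨((t : A)) ^ k * s, fun h => (hPp.mem_or_mem h).elim (fun h' => t.2 (hPp.mem_of_pow_mem k h')) hs,
          s * a ^ k, (hK _).2 hk, ?_⟩⟩
        rw [map_mul, map_mul, map_pow, map_pow, ← mul_assoc, ← mul_pow, IsLocalization.mk'_spec, mul_comm]
      · intro c hc
        obtain ⟨a, t, rfl⟩ := IsLocalization.exists_mk'_eq P.primeCompl c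
        by_contra hcK
        refine hno (a * s₀) (fun h0 => hcK ?_) |>.elim fun b hb => hb.2 ?_
        · exact IsLocalization.mk'_mem_iff.2 (Ideal.mem_map_of_mem _ ((hK a).2 h0))
        · have h1 := hc (algebraMap A T b) (by
            rw [← Localization.AtPrime.map_eq_maximalIdeal]; exact Ideal.mem_map_of_mem _ hb.1)
          rw [IsLocalization.mul_mk'_eq_mk'_of_mul, IsLocalization.mk'_mem_iff, hKT] at h1
          obtain ⟨s, hs, k, hk, hsk⟩ := h1
          rw [← map_mul, IsLocalization.eq_iff_exists P.primeCompl T] at hsk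
          obtain ⟨s', hs'⟩ := hsk
          have : (s' : A) * s * (b * (a * s₀)) = 0 := by
            linear_combination s₀ * hs' + (s' : A) * (hK k).1 hk
          by_contra hb0
          rcases hPp.mem_or_mem (hzd _ _ hb0 this) with h | h
          · exact s'.2 h
          · exact hs h
      · intro c hc
        obtain ⟨a, t, rfl⟩ := IsLocalization.exists_mk'_eq P.primeCompl c
        rw [IsLocalization.AtPrime.mk'_mem_maximal_iff T P] at hc
        have h2 : s₀ • (a • ξ) = 0 := by rw [smul_comm, ← hξ, ← hP]; exact hc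
        have h3 : algebraMap A T a • w ∈ K.map (algebraMap A T) • (⊤ : Submodule T W) := by
          rw [algebraMap_smul, ← LinearMap.map_smul_of_tower]
          refine Submodule.smul_induction_on (mem_annihilator_smul_top s₀ _ h2) (fun k hk n _ => ?_) fun y z hy hz => by
            rw [map_add]; exact add_mem hy hz
          rw [LinearMap.map_smul_of_tower, ← algebraMap_smul T k]
          exact Submodule.smul_mem_smul (Ideal.mem_map_of_mem _ hk) trivial
        rw [IsLocalization.mk'_eq_mul_mk'_one, mul_comm, mul_smul]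
        exact Submodule.smul_mem _ _ h3
    have h4 : LocalizedModule.mkLinearMap q.primeCompl N x = 0 := by
      rw [hξ, LinearMap.map_smul_of_tower, ← algebraMap_smul T s₀]
      refine Submodule.smul_induction_on (p := fun z => algebraMap A T s₀ • z = 0) hw (fun c hc z _ => ?_) fun y z hy hz => by rw [smul_add, hy, hz, add_zero]
      obtain ⟨t, ht, k, hk, hkc⟩ := (hKT c).1 hc
      have hu : IsUnit (algebraMap A T t) := IsLocalization.map_units T (⟨t, ht⟩ : P.primeCompl)
      refine hu.smul_eq_zero.1 ?_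
      rw [smul_smul, smul_smul,
        show algebraMap A T t * algebraMap A T s₀ * c = c * algebraMap A T t * algebraMap A T s₀ by ring,
        hkc, ← map_mul, (hK k).1 hk, map_zero, zero_smul]
    obtain ⟨b, hb⟩ := (IsLocalizedModule.eq_zero_iff q.primeCompl _).1 h4
    exact b.2 (hq.1.2 ((Submodule.mem_annihilator_span_singleton x _).2 hb))
  obtain ⟨ξ, hξ⟩ := hspan σ hσ0
  by_cases hPm : P = maximalIdeal A
  · have h1 : u ξ ∈ maximalIdeal A • (⊤ : Submodule A M) := by
      refine Submodule.smul_mono ?_ le_rfl (mem_annihilator_smul_top σ (u ξ) (by rw [← map_smul, ← hξ, hux]))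
      exact IsLocalRing.le_maximalIdeal fun h => hσ0 (by
        simpa using (Submodule.mem_annihilator_span_singleton σ (1 : A)).1 (h ▸ Submodule.mem_top))
    refine hx0 ?_
    rw [hξ]
    refine Submodule.smul_induction_on (hu ξ h1) (fun a ha n _ => ?_) fun y z hy hz => by
      rw [smul_add, hy, hz, add_zero]
    rw [smul_smul, mul_comm, hσ a (hPm ▸ ha), zero_smul]
  · haveI : Nontrivial (A ⧸ P) := Ideal.Quotient.nontrivial_iff.2 hPp.ne_top
    obtain ⟨B', N', _, _, _, _, _, _, _, π, _, _, _, _, hπs, hπ0, hπ⟩ := exists_quot (B := B) N P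
    haveI : IsLocalRing (A ⧸ P) := IsLocalRing.of_surjective' (Ideal.Quotient.mk P) Ideal.Quotient.mk_surjective
    haveI : IsLocalHom (Ideal.Quotient.mk P) := .of_surjective _ Ideal.Quotient.mk_surjective
    have hmne : maximalIdeal (A ⧸ P) ≠ ⊥ := fun h => hPm (by
      refine (le_antisymm (IsLocalRing.le_maximalIdeal hPp.ne_top) fun a ha => ?_)
      refine Ideal.Quotient.eq_zero_iff_mem.1 ?_
      rw [← Ideal.mem_bot, ← h]
      exact fun hu' => ha ((isUnit_map_iff (Ideal.Quotient.mk P) a).1 hu'))
    refine hx0 ?_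
    have h0 := eq_zero_of_divisible (A := A ⧸ P) (B := B') hmne (π ξ) fun ā hā => by
      obtain ⟨a, rfl⟩ := Ideal.Quotient.mk_surjective ā
      have haP : a ∉ P := fun h => hā (Ideal.Quotient.eq_zero_iff_mem.2 h)
      have hσa : σ * a ≠ 0 := fun h => haP (hzd a σ hσ0 (by rw [mul_comm]; exact h))
      obtain ⟨η, hη⟩ := hspan _ hσa
      have h1 : σ • (ξ - a • η) = 0 := by rw [smul_sub, ← hξ, smul_smul, ← hη, sub_self]
      have h2 : ξ - a • η ∈ P • (⊤ : Submodule A N) :=
        Submodule.smul_mono (fun k hk => hzd k σ hσ0 ((Submodule.mem_annihilator_span_singleton σ k).1 hk)) le_rfl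
          (mem_annihilator_smul_top σ _ h1)
      rw [← hπ0, map_sub, sub_eq_zero, hπ] at h2
      rw [h2]
      exact Submodule.smul_mem_smul (Ideal.mem_span_singleton_self _) trivial
    rw [hξ]
    refine Submodule.smul_induction_on ((hπ0 ξ).1 h0) (fun a ha n _ => ?_) fun y z hy hz => by
      rw [smul_add, hy, hz, add_zero]
    rw [smul_smul, mul_comm, hσ a ha, zero_smul]

set_option maxHeartbeats 800000 in
/-- Injectivity modulo every ideal. -/
theorem mem_smul_top_of_map_mem [Module.Flat A N] [Module.Flat A M] (u : N →ₗ[A] M)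
    (hu : ∀ z : N, u z ∈ maximalIdeal A • (⊤ : Submodule A M) → z ∈ maximalIdeal A • (⊤ : Submodule A N))
    (J : Ideal A) (x : N) (hux : u x ∈ J • (⊤ : Submodule A M)) : x ∈ J • (⊤ : Submodule A N) := by
  classical
  by_contra hx
  let Ω : Set (Ideal A) := {I | J ≤ I ∧ x ∉ I • (⊤ : Submodule A N)}
  obtain ⟨I, hJI, ⟨hI1, hI2⟩, hImax⟩ := zorn_le_nonempty₀ Ω (fun c hc hchain I₀ hI₀ => by
    refine ⟨sSup c, ⟨(hc hI₀).1.trans (le_sSup hI₀), fun hmem => ?_⟩, fun I hI => le_sSup hI⟩
    rw [sSup_eq_iSup', Submodule.iSup_smul] at hmem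
    haveI : Nonempty c := ⟨⟨I₀, hI₀⟩⟩
    have hdir : Directed (· ≤ ·) fun I : c => (I : Ideal A) • (⊤ : Submodule A N) := fun a b => by
      rcases hchain.total a.2 b.2 with h | h
      · exact ⟨b, Submodule.smul_mono_left h, le_rfl⟩
      · exact ⟨a, le_rfl, Submodule.smul_mono_left h⟩
    obtain ⟨I, hI⟩ := (Submodule.mem_iSup_of_directed _ hdir).1 hmem
    exact (hc I.2).2 hI) J ⟨le_rfl, hx⟩
  haveI : Nontrivial (A ⧸ I) := Ideal.Quotient.nontrivial_iff.2 fun h => hI2 (by
    rw [h, Submodule.top_smul]; trivial)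
  obtain ⟨B', N', _, _, _, _, _, _, _, π, _, _, _, _, hπs, hπ0, hπ⟩ := exists_quot (B := B) N I
  haveI : IsLocalRing (A ⧸ I) := IsLocalRing.of_surjective' (Ideal.Quotient.mk I) Ideal.Quotient.mk_surjective
  let M' := (A ⧸ I) ⊗[A] M
  let μ := TensorProduct.mk A (A ⧸ I) M 1
  have hμ : ∀ z, μ z = 0 ↔ z ∈ I • (⊤ : Submodule A M) := fun z => by
    rw [← LinearMap.mem_ker, LinearMap.ker_tensorProductMk]
  have hwell : ∀ z z', π z = π z' → μ (u z) = μ (u z') := fun z z' h => by
    rw [← sub_eq_zero, ← map_sub, ← map_sub, hμ]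
    have h1 : z - z' ∈ I • (⊤ : Submodule A N) := (hπ0 _).1 (by rw [map_sub, h, sub_self])
    have h2 := Submodule.mem_map_of_mem (f := u) h1
    rw [Submodule.map_smul''] at h2
    exact Submodule.smul_mono le_rfl le_top h2
  let lift := Function.surjInv hπs
  have hlift : ∀ y, π (lift y) = y := Function.surjInv_eq hπs
  let u' : N' →ₗ[A ⧸ I] M' :=
    { toFun := fun y => μ (u (lift y))
      map_add' := fun y y' => by
        rw [← map_add, ← map_add]
        exact hwell _ _ (by simp [hlift])
      map_smul' := fun ā y => by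
        obtain ⟨a, rfl⟩ := Ideal.Quotient.mk_surjective ā
        rw [hwell (lift (Ideal.Quotient.mk I a • y)) (a • lift y) (by rw [hπ, hlift, hlift]), map_smul, map_smul]
        exact (algebraMap_smul (A ⧸ I) a _).symm }
  have hu' : ∀ z, u' (π z) = μ (u z) := fun z => hwell _ _ (hlift _)
  refine hI2 ((hπ0 x).1 ?_)
  refine eq_zero_of_forall_mem B' (A := A ⧸ I) u' ?_ (π x) ?_ ?_
  · intro y hy
    obtain ⟨z, rfl⟩ := hπs y
    rw [hu'] at hy
    have hmap : maximalIdeal (A ⧸ I) = (maximalIdeal A).map (Ideal.Quotient.mk I) := by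
      rw [IsLocalRing.map_maximalIdeal_of_surjective (Ideal.Quotient.mk I) Ideal.Quotient.mk_surjective]
    have hz : u z ∈ maximalIdeal A • (⊤ : Submodule A M) := by
      have hIm : I ≤ maximalIdeal A := IsLocalRing.le_maximalIdeal fun h => hI2 (by rw [h, Submodule.top_smul]; trivial)
      obtain ⟨m, hm, hme⟩ : ∃ m ∈ maximalIdeal A • (⊤ : Submodule A M), μ m = μ (u z) := by
        refine Submodule.smul_induction_on hy (fun ā hā t _ => ?_) fun s t ⟨m, hm, hm'⟩ ⟨n, hn, hn'⟩ =>
          ⟨m + n, add_mem hm hn, by rw [map_add, hm', hn']⟩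
        rw [hmap, Ideal.mem_map_iff_of_surjective _ Ideal.Quotient.mk_surjective] at hā
        obtain ⟨a, ha, rfl⟩ := hā
        obtain ⟨m, rfl⟩ := TensorProduct.mk_surjective A M (A ⧸ I) Ideal.Quotient.mk_surjective t
        refine ⟨a • m, Submodule.smul_mem_smul ha trivial, ?_⟩
        rw [map_smul]
        exact (algebraMap_smul (A ⧸ I) a _).symm
      rw [← sub_add_cancel (u z) m]
      refine add_mem (Submodule.smul_mono hIm le_rfl ((hμ _).1 ?_)) hm
      rw [map_sub, hme, sub_self]
    refine Submodule.smul_induction_on (hu z hz) (fun a ha n _ => ?_) fun s t hs ht => by rw [map_add]; exact add_mem hs ht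
    rw [hπ]
    exact Submodule.smul_mem_smul (hmap ▸ Ideal.mem_map_of_mem _ ha) trivial
  · intro ā hā
    obtain ⟨a, rfl⟩ := Ideal.Quotient.mk_surjective ā
    have haI : a ∉ I := fun h => hā (Ideal.Quotient.eq_zero_iff_mem.2 h)
    have h1 : x ∈ (I ⊔ Ideal.span {a}) • (⊤ : Submodule A N) := by
      by_contra h
      exact haI (hImax ⟨hI1.trans le_sup_left, h⟩ le_sup_left (Ideal.mem_sup_right (Ideal.mem_span_singleton_self a)))
    refine Submodule.smul_induction_on h1 (fun c hc n _ => ?_) fun s t hs ht => by rw [map_add]; exact add_mem hs ht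
    rw [hπ]
    refine Submodule.smul_mem_smul ?_ trivial
    obtain ⟨i, hi, b, hb, rfl⟩ := Submodule.mem_sup.1 hc
    obtain ⟨r, rfl⟩ := Ideal.mem_span_singleton'.1 hb
    rw [map_add, Ideal.Quotient.eq_zero_iff_mem.2 hi, zero_add, map_mul]
    exact Ideal.mul_mem_left _ _ (Ideal.mem_span_singleton_self _)
  · rw [hu', hμ]
    exact Submodule.smul_mono hI1 le_rfl hux

/-- Universal injectivity of a base-linear map from a flat module. -/
theorem univInj_of_flat [Module.Flat A N] [Module.Flat A M] (u : N →ₗ[A] M)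
    (hu : ∀ z : N, u z ∈ maximalIdeal A • (⊤ : Submodule A M) → z ∈ maximalIdeal A • (⊤ : Submodule A N))
    (Q : Type u) [AddCommGroup Q] [Module A Q] : Function.Injective (LinearMap.rTensor Q u) :=
  univInj_of_forall_ideal u (fun J x => mem_smul_top_of_map_mem B u hu J x) Q

end AInjLib
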