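import Groth.Agent.AInjLib.FlatQuot
import Groth.Agent.DevissExLib.FlatShrink
import Groth.Agent.DevissFreeLib.Base
import Groth.Agent.FlatInjLib.AssFlat
import Groth.Agent.S4848
import Mathlib

/-!
# Flatness modulo an ideal holds modulo a finitely generated subideal
-/

set_option autoImplicit false
set_option linter.style.haveILetI false

universe u

open scoped TensorProduct

namespace AInjLib

attribute [local instance] Algebra.TensorProduct.rightAlgebra

set_option maxHeartbeats 800000 in
/-- The reduction of a localisation is the localisation of the reduction. -/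
theorem nonempty_bc_localized {R C X : Type u} [CommRing R] [CommRing C] [Algebra R C] [AddCommGroup X]
    [Module C X] [Module R X] [IsScalarTower R C X] (I : Ideal R) (T : Submonoid C) :
    Nonempty (LocalizedModule (Algebra.algebraMapSubmonoid ((R ⧸ I) ⊗[R] C) T) (((R ⧸ I) ⊗[R] C) ⊗[C] X)
      ≃ₗ[R ⧸ I] (R ⧸ I) ⊗[R] LocalizedModule T X) := by
  let C1 := (R ⧸ I) ⊗[R] C
  let l := LocalizedModule.mkLinearMap T X
  let ν : C1 ⊗[C] X →ₗ[C] C1 ⊗[C] LocalizedModule T X := l.lTensor C1
  haveI : IsLocalizedModule T (TensorProduct.AlgebraTensorModule.rTensor C C1 l) := inferInstance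
  haveI h1 : IsLocalizedModule T ν := by
    have e1 : ν = ((TensorProduct.comm C (LocalizedModule T X) C1).toLinearMap ∘ₗ
        (TensorProduct.AlgebraTensorModule.rTensor C C1 l)) ∘ₗ (TensorProduct.comm C C1 X).toLinearMap := by
      ext c x
      rfl
    haveI := IsLocalizedModule.of_linearEquiv T (TensorProduct.AlgebraTensorModule.rTensor C C1 l)
      (TensorProduct.comm C (LocalizedModule T X) C1)
    rw [e1]
    exact IsLocalizedModule.of_linearEquiv_right T _ (TensorProduct.comm C C1 X)
  haveI h2 : IsLocalizedModule T ((LocalizedModule.mkLinearMap (Algebra.algebraMapSubmonoid C1 T) (C1 ⊗[C] X)).restrictScalars C) :=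
    IsLocalizedModule.restrictScalars _ _
  let e : LocalizedModule (Algebra.algebraMapSubmonoid C1 T) (C1 ⊗[C] X) ≃ₗ[C] C1 ⊗[C] LocalizedModule T X :=
    IsLocalizedModule.linearEquiv T ((LocalizedModule.mkLinearMap (Algebra.algebraMapSubmonoid C1 T) (C1 ⊗[C] X)).restrictScalars C) ν
  let e' : LocalizedModule (Algebra.algebraMapSubmonoid C1 T) (C1 ⊗[C] X) ≃ₗ[R ⧸ I] C1 ⊗[C] LocalizedModule T X :=
    { e.toAddEquiv with
      map_smul' := fun ā z => by
        obtain ⟨a, rfl⟩ := Ideal.Quotient.mk_surjective ā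
        show e (algebraMap R (R ⧸ I) a • z) = algebraMap R (R ⧸ I) a • e z
        rw [algebraMap_smul (R ⧸ I) a z, ← algebraMap_smul C a z, map_smul, algebraMap_smul C a (e z), algebraMap_smul] }
  exact ⟨e'.trans (Algebra.IsPushout.cancelBaseChange R (R ⧸ I) C C1 (LocalizedModule T X))⟩

/-- Further localisations of flat modules are flat. -/
theorem flat_localized_of_le {Q C X : Type u} [CommRing Q] [CommRing C] [Algebra Q C] [AddCommGroup X] [Module C X]
    [Module Q X] [IsScalarTower Q C X] {T T' : Submonoid C} (h : T ≤ T') (hT : Module.Flat Q (LocalizedModule T X)) :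
    Module.Flat Q (LocalizedModule T' X) :=
  FlatInjLib.flat_of_isLocalizedModule T' (IsLocalizedModule.liftOfLE T T' h
    (LocalizedModule.mkLinearMap T X) (LocalizedModule.mkLinearMap T' X))

set_option maxHeartbeats 3200000 in
/-- A flattening is reached at a finitely generated ideal. -/
theorem exists_fg_le {R C X : Type u} [CommRing R] [CommRing C] [Algebra R C] [Algebra.FinitePresentation R C]
    [AddCommGroup X] [Module C X] [Module R X] [IsScalarTower R C X] [Module.FinitePresentation C X]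
    (x : Ideal C) [x.IsPrime] (I : Ideal R) (hI : I ≤ x.comap (algebraMap R C))
    (h : FQ I (LocalizedModule x.primeCompl X)) :
    ∃ I₀ : Ideal R, I₀.FG ∧ I₀ ≤ I ∧ FQ I₀ (LocalizedModule x.primeCompl X) := by
  classical
  let Q := R ⧸ I
  let C1 := Q ⊗[R] C
  let X1 := C1 ⊗[C] X
  let ε : C1 →+* C ⧸ x := (Algebra.TensorProduct.lift
    (Ideal.Quotient.liftₐ I (Algebra.ofId R (C ⧸ x)) fun a ha => by
      show algebraMap R (C ⧸ x) a = 0
      rw [IsScalarTower.algebraMap_apply R C (C ⧸ x)]
      exact Ideal.Quotient.eq_zero_iff_mem.2 (hI ha))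
    (IsScalarTower.toAlgHom R C (C ⧸ x)) fun _ _ => Commute.all _ _).toRingHom
  let x1 : Ideal C1 := RingHom.ker ε
  haveI : x1.IsPrime := RingHom.ker_isPrime ε
  have hsurj : Function.Surjective (algebraMap C C1) := by
    intro c
    induction c using TensorProduct.induction_on with
    | zero => exact ⟨0, map_zero _⟩
    | tmul q b =>
      obtain ⟨a, rfl⟩ := Ideal.Quotient.mk_surjective q
      refine ⟨a • b, ?_⟩
      show (1 : Q) ⊗ₜ[R] (a • b) = _
      rw [← TensorProduct.smul_tmul, Algebra.smul_def, mul_one]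
      rfl
    | add c c' hc hc' =>
      obtain ⟨b, rfl⟩ := hc; obtain ⟨b', rfl⟩ := hc'
      exact ⟨b + b', map_add _ _ _⟩
  have hε : ∀ c : C, ε (algebraMap C C1 c) = Ideal.Quotient.mk x c := fun c => by
    show Algebra.TensorProduct.lift _ _ _ ((1 : Q) ⊗ₜ[R] c) = _
    rw [Algebra.TensorProduct.lift_tmul, map_one, one_mul]
    rfl
  have hT : Algebra.algebraMapSubmonoid C1 x.primeCompl ≤ x1.primeCompl := by
    rintro _ ⟨c, hc, rfl⟩
    show ¬ ε (algebraMap C C1 c) = 0
    rw [hε]
    exact fun h0 => hc (Ideal.Quotient.eq_zero_iff_mem.1 h0)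
  haveI : Module.Flat Q ((R ⧸ I) ⊗[R] LocalizedModule x.primeCompl X) := h
  obtain ⟨e⟩ := nonempty_bc_localized (X := X) I x.primeCompl
  haveI : Module.Flat Q (LocalizedModule (Algebra.algebraMapSubmonoid C1 x.primeCompl) X1) :=
    Module.Flat.of_linearEquiv e
  have hat : FlatCA.FlatAt Q x1 X1 := flat_localized_of_le hT inferInstance
  obtain ⟨f, hf, hflat⟩ := DevissExLib.exists_flat_away X1 x1 hat
  obtain ⟨g, rfl⟩ := hsurj f
  have hgx : g ∉ x := fun hg => hf (by
    show ε (algebraMap C C1 g) = 0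
    rw [hε]
    exact Ideal.Quotient.eq_zero_iff_mem.2 hg)
  haveI := hflat
  haveI : Module.Flat Q (LocalizedModule (Submonoid.powers (algebraMap C C1 g)) X1) :=
    Module.Flat.of_linearEquiv ((LocalizedModule.equivTensorProduct (Submonoid.powers (algebraMap C C1 g)) X1).restrictScalars Q)
  let B0 := Localization.Away g
  let M0 := LocalizedModule (Submonoid.powers g) X
  obtain ⟨e'⟩ := nonempty_bc_localized (X := X) I (Submonoid.powers g)
  haveI : Module.Flat Q ((R ⧸ I) ⊗[R] M0) := by
    have hp : Algebra.algebraMapSubmonoid C1 (Submonoid.powers g) = Submonoid.powers (algebraMap C C1 g) :=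
      Submonoid.map_powers (algebraMap C C1).toMonoidHom g
    haveI : Module.Flat Q (LocalizedModule (Algebra.algebraMapSubmonoid C1 (Submonoid.powers g)) X1) := by
      rw [hp]; infer_instance
    exact Module.Flat.of_linearEquiv e'.symm
  haveI : Module.FinitePresentation B0 M0 := inferInstance
  haveI : Algebra.FinitePresentation C B0 := IsLocalization.Away.finitePresentation g
  haveI : Algebra.FinitePresentation R B0 := Algebra.FinitePresentation.trans R C B0
  -- the directed system
  let ι := Finset I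
  let J : ι → Ideal R := fun F => Ideal.span (Subtype.val '' (F : Set I))
  let G : ι → Type u := fun F => R ⧸ J F
  have hJI : ∀ F, J F ≤ I := fun F => Ideal.span_le.2 fun a ⟨b, _, hb⟩ => hb ▸ b.2
  have hJ : ∀ F F', F ≤ F' → J F ≤ J F' := fun F F' h => Ideal.span_mono (Set.image_mono h)
  let gs : ∀ F F', F ≤ F' → G F →ₐ[R] G F' := fun F F' h => Ideal.Quotient.factorₐ R (hJ F F' h)
  letI alg : ∀ F, Algebra (G F) Q := fun F => (Ideal.Quotient.factor (hJI F)).toAlgebra
  haveI : ∀ F, IsScalarTower R (G F) Q := fun F => IsScalarTower.of_algebraMap_eq fun _ => rfl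
  have hcolim : FlatCA.IsDirectedColimitRing G (fun i j h => (gs i j h).toRingHom) Q := by
    refine ⟨inferInstance, ⟨∅⟩, fun i => ?_, fun i j k hij hjk => ?_, fun i j h => ?_, fun a => ?_, fun i a ha => ?_⟩
    · exact Ideal.Quotient.ringHom_ext (RingHom.ext fun _ => rfl)
    · exact Ideal.Quotient.ringHom_ext (RingHom.ext fun _ => rfl)
    · exact Ideal.Quotient.ringHom_ext (RingHom.ext fun _ => rfl)
    · obtain ⟨r, rfl⟩ := Ideal.Quotient.mk_surjective a
      exact ⟨∅, Ideal.Quotient.mk _ r, rfl⟩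
    · obtain ⟨r, rfl⟩ := Ideal.Quotient.mk_surjective a
      have hr : r ∈ I := Ideal.Quotient.eq_zero_iff_mem.1 ha
      refine ⟨i ⊔ {⟨r, hr⟩}, le_sup_left, ?_⟩
      exact Ideal.Quotient.eq_zero_iff_mem.2 (Ideal.subset_span ⟨⟨r, hr⟩, Finset.mem_coe.2 (Finset.mem_union_right _ (Finset.mem_singleton_self _)), rfl⟩)
  obtain ⟨F, hF⟩ := (Groth.Agent.S4848.result G gs Q hcolim (B₀ := B0) M0).1 inferInstance
  refine ⟨J F, Submodule.fg_span ((F.finite_toSet).image _), hJI F, ?_⟩
  -- from the open set to the point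
  let l : M0 →ₗ[C] LocalizedModule x.primeCompl X := IsLocalizedModule.liftOfLE (Submonoid.powers g) x.primeCompl
    (Submonoid.powers_le.2 hgx) (LocalizedModule.mkLinearMap (Submonoid.powers g) X) (LocalizedModule.mkLinearMap x.primeCompl X)
  let C2 := (R ⧸ J F) ⊗[R] C
  haveI : Module.Flat (R ⧸ J F) (LocalizedModule (Algebra.algebraMapSubmonoid C2 (Submonoid.powers g)) (C2 ⊗[C] X)) := by
    obtain ⟨e2⟩ := nonempty_bc_localized (X := X) (J F) (Submonoid.powers g)
    haveI : Module.Flat (R ⧸ J F) ((R ⧸ J F) ⊗[R] M0) := hF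
    exact Module.Flat.of_linearEquiv e2
  obtain ⟨e3⟩ := nonempty_bc_localized (X := X) (J F) x.primeCompl
  have hle : Algebra.algebraMapSubmonoid C2 (Submonoid.powers g) ≤ Algebra.algebraMapSubmonoid C2 x.primeCompl := by
    rintro _ ⟨c, hc, rfl⟩
    exact ⟨c, Submonoid.powers_le.2 hgx hc, rfl⟩
  haveI : Module.Flat (R ⧸ J F) (LocalizedModule (Algebra.algebraMapSubmonoid C2 x.primeCompl) (C2 ⊗[C] X)) :=
    flat_localized_of_le (Q := R ⧸ J F) (C := C2) (X := C2 ⊗[C] X) hle inferInstance
  exact Module.Flat.of_linearEquiv e3.symm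

end AInjLib
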