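import Groth.Agent.AInjLib.FlatQuot
import Groth.Agent.DevissExLib.Complete
import Groth.Agent.FlatInjLib.EtaleTransfer
import Groth.Agent.FlatInjLib.ProjUniv
import Groth.Agent.FlatInjLib.AssFlat
import Mathlib

/-!
# The flattening ideal of a module with a complete dévissage
-/

set_option autoImplicit false
set_option linter.style.haveILetI false

universe u

open IsLocalRing
open scoped TensorProduct

namespace AInjLib

/-- Localisations along a map hitting all relevant denominators. -/
theorem nonempty_localized_equiv {R S C G : Type u} [CommRing R] [CommRing S] [CommRing C] [Algebra R S]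
    [Algebra S C] [AddCommGroup G] [Module C G] [Module S G] [IsScalarTower S C G] [Module R G]
    [IsScalarTower R S G] [Algebra R C] [IsScalarTower R S C] [IsScalarTower R C G]
    (z : Ideal C) [z.IsPrime] (x : Ideal S) [x.IsPrime] (hx : z.comap (algebraMap S C) = x)
    (hdvd : ∀ c : C, c ∉ z → ∃ s : S, s ∉ x ∧ ∃ c' : C, algebraMap S C s = c * c') :
    Nonempty (LocalizedModule x.primeCompl G ≃ₗ[R] LocalizedModule z.primeCompl G) := by
  let f := (LocalizedModule.mkLinearMap z.primeCompl G).restrictScalars S
  have hy : ∀ d : x.primeCompl, algebraMap S C d ∈ z.primeCompl := fun d hd =>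
    d.2 (hx ▸ (hd : (d : S) ∈ z.comap (algebraMap S C)))
  haveI : IsLocalizedModule x.primeCompl f :=
    { map_units := fun d => by
        have hu := IsLocalizedModule.map_units (LocalizedModule.mkLinearMap z.primeCompl G)
          (⟨_, hy d⟩ : z.primeCompl)
        rw [Module.End.isUnit_iff] at hu ⊢
        convert! hu using 1
        funext v
        show (d : S) • v = algebraMap S C (d : S) • v
        rw [algebraMap_smul]
      surj := fun w => by
        obtain ⟨⟨m, c⟩, hmc⟩ := IsLocalizedModule.surj z.primeCompl (LocalizedModule.mkLinearMap z.primeCompl G) w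
        obtain ⟨d, hd, c', hdc⟩ := hdvd c c.2
        refine ⟨(c' • m, ⟨d, hd⟩), ?_⟩
        show d • w = LocalizedModule.mkLinearMap z.primeCompl G (c' • m)
        rw [← algebraMap_smul C d w, hdc, mul_comm, mul_smul, map_smul]
        exact congrArg (c' • ·) hmc
      exists_of_eq := fun {m₁ m₂} hm => by
        obtain ⟨c, hc⟩ := IsLocalizedModule.exists_of_eq (S := z.primeCompl)
          (f := LocalizedModule.mkLinearMap z.primeCompl G) hm
        obtain ⟨d, hd, c', hdc⟩ := hdvd c c.2
        refine ⟨⟨d, hd⟩, ?_⟩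
        show d • m₁ = d • m₂
        rw [← algebraMap_smul C d m₁, ← algebraMap_smul C d m₂, hdc, mul_comm, mul_smul, mul_smul]
        exact congrArg (c' • ·) hc }
  exact ⟨(IsLocalizedModule.iso x.primeCompl f).restrictScalars R⟩

section Level

variable {A D G C : Type u} [CommRing A] [IsLocalRing A] [CommRing D] [Algebra A D] [Algebra.Smooth A D]
  [AddCommGroup G] [Module D G] [Module A G] [IsScalarTower A D G]
  [AddCommGroup C] [Module D C] [Module A C] [IsScalarTower A D C]

set_option maxHeartbeats 800000 in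
/-- One level of the flattening ideal. -/
theorem exists_ideal_level (hD : FlatCA.GeomIrredFibres A D)
    [((maximalIdeal A).map (algebraMap A D)).IsPrime] {r : ℕ} (α : (Fin r → D) →ₗ[D] G)
    (hα : Function.Injective (α.baseChange ((maximalIdeal A).map (algebraMap A D)).ResidueField))
    (g : G →ₗ[D] C) (hg : Function.Surjective g) (hex : Function.Exact α g)
    (y : Ideal D) [y.IsPrime] (hy : (maximalIdeal A).map (algebraMap A D) ≤ y)
    (I' : Ideal A) (hI' : ∀ J : Ideal A, J ≠ ⊤ → (FQ J (LocalizedModule y.primeCompl C) ↔ I' ≤ J)) :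
    ∃ I : Ideal A, ∀ J : Ideal A, J ≠ ⊤ → (FQ J (LocalizedModule y.primeCompl G) ↔ I ≤ J) := by
  classical
  let F := Fin r → D
  haveI : Module.Projective A F := DevissFreeLib.projective_pi_of_geomIrred hD r
  let ξ := (maximalIdeal A).map (algebraMap A D)
  let Gy := LocalizedModule y.primeCompl G
  let v : F →ₗ[A] Gy := ((LocalizedModule.mkLinearMap y.primeCompl G) ∘ₗ α).restrictScalars A
  let fy := (LocalizedModule.map y.primeCompl α).restrictScalars A
  let gy := (LocalizedModule.map y.primeCompl g).restrictScalars A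
  have hgy : Function.Surjective gy := fun z => by
    induction z using LocalizedModule.induction_on with
    | h c s => obtain ⟨m, rfl⟩ := hg c; exact ⟨LocalizedModule.mk m s, LocalizedModule.map_mk ..⟩
  have hexy : Function.Exact fy gy := LocalizedModule.map_exact y.primeCompl α g hex
  have hFy : ∀ J : Ideal A, FQ J (LocalizedModule y.primeCompl F) := fun J => by
    haveI : Module.Flat A (LocalizedModule y.primeCompl F) :=
      FlatInjLib.flat_of_isLocalizedModule y.primeCompl (LocalizedModule.mkLinearMap y.primeCompl F)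
    exact fq_of_flat J
  -- elements outside the point are regular
  have hreg : ∀ (s : D), s ∉ y → ∀ (J : Ideal A) (x : F), s • x ∈ J • (⊤ : Submodule A F) → x ∈ J • (⊤ : Submodule A F) := by
    intro s hs J x hx
    refine FlatInjLib.mem_smul_top_of_univInj ((LinearMap.lsmul D F s).restrictScalars A)
      (fun Q _ _ => FlatInjLib.univInj_of_projective _ (FlatInjLib.lTensor_injective_of_mem _ fun z hz => ?_) Q) J x hx
    rw [FlatInjLib.mem_smul_top_iff_map (B := D)] at hz ⊢
    refine FlatInjLib.mem_smul_top_of_components _ LinearMap.id z fun i => ?_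
    have h1 : s * z i ∈ ξ := by
      have h2 := Submodule.mem_map_of_mem (f := LinearMap.proj (R := D) (φ := fun _ : Fin r => D) i) hz
      rw [Submodule.map_smul''] at h2
      have h3 : ξ • (⊤ : Submodule D D) ≤ ξ := fun w hw =>
        Submodule.smul_induction_on hw (fun a ha b _ => Ideal.mul_mem_right b _ ha) fun a b ha hb => add_mem ha hb
      exact h3 (Submodule.smul_mono le_rfl le_top h2)
    exact ((inferInstance : ξ.IsPrime).mem_or_mem h1).resolve_left fun h => hs (hy h)
  have hsmul : ∀ (J : Ideal A) (d : D) (z : Gy), z ∈ J • (⊤ : Submodule A Gy) → d • z ∈ J • (⊤ : Submodule A Gy) :=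
    fun J d z hz => Submodule.smul_induction_on hz (fun a ha m _ => by
      rw [smul_comm]; exact Submodule.smul_mem_smul ha trivial) fun a b ha hb => by rw [smul_add]; exact add_mem ha hb
  -- injectivity at an ideal
  have hinj : ∀ J : Ideal A, J ≠ ⊤ → FQ J Gy → ∀ x : F, v x ∈ J • (⊤ : Submodule A Gy) → x ∈ J • (⊤ : Submodule A F) := by
    intro J hJ hG x hx
    haveI : Module.Flat (A ⧸ J) ((A ⧸ J) ⊗[A] Gy) := hG
    haveI : Nontrivial (A ⧸ J) := Ideal.Quotient.nontrivial_iff.2 hJ
    let v' := v.baseChange (A ⧸ J)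
    have hu := FlatInjLib.univInj_of_projective_of_flat v' (fun m hm z hz => by
      have hcm : m.comap (Ideal.Quotient.mk J) = maximalIdeal A :=
        IsLocalRing.eq_maximalIdeal (Ideal.comap_isMaximal_of_surjective _ Ideal.Quotient.mk_surjective)
      obtain ⟨z, rfl⟩ := TensorProduct.mk_surjective A F (A ⧸ J) Ideal.Quotient.mk_surjective z
      rw [TensorProduct.mk_apply, LinearMap.baseChange_tmul, tmul_mem_iff, hcm] at hz
      rw [TensorProduct.mk_apply, tmul_mem_iff, hcm]
      exact DevissFreeLib.mem_smul_top_of_baseChange _ α hα y.primeCompl (fun t ht htξ => ht (hy htξ))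
        (LocalizedModule.mkLinearMap y.primeCompl G) z hz) (A ⧸ J)
    have h0 : v' ((1 : A ⧸ J) ⊗ₜ[A] x) = 0 := by
      rw [LinearMap.baseChange_tmul, ← TensorProduct.mk_apply, ← LinearMap.mem_ker, LinearMap.ker_tensorProductMk]
      exact hx
    have h1 : (1 : A ⧸ J) ⊗ₜ[A] x = 0 :=
      (TensorProduct.lid (A ⧸ J) ((A ⧸ J) ⊗[A] F)).symm.injective ((hu (by simp [h0])).trans (map_zero _).symm)
    exact (LinearMap.ker_tensorProductMk (R := A) (Q := F) (I := J)).le h1
  -- from numerators to fractions
  have hloc : ∀ (J : Ideal A) (x : F) (s : y.primeCompl), x ∈ J • (⊤ : Submodule A F) →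
      LocalizedModule.mk x s ∈ J • (⊤ : Submodule A (LocalizedModule y.primeCompl F)) := by
    intro J x s hx
    refine Submodule.smul_induction_on hx (fun a ha m _ => ?_) fun m m' hm hm' => ?_
    · rw [show LocalizedModule.mk (a • m) s = a • LocalizedModule.mk m s by
        rw [← algebraMap_smul D a m, ← LocalizedModule.smul'_mk, algebraMap_smul]]
      exact Submodule.smul_mem_smul ha trivial
    · rw [show LocalizedModule.mk (m + m') s = LocalizedModule.mk m s + LocalizedModule.mk m' s by
        rw [LocalizedModule.mk_add_mk]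
        exact LocalizedModule.mk_eq.2 ⟨1, by simp [smul_add, smul_smul]⟩]
      exact add_mem hm hm'
  have hnum : ∀ (J : Ideal A) (x : F) (s : y.primeCompl),
      fy (LocalizedModule.mk x s) ∈ J • (⊤ : Submodule A Gy) → v x ∈ J • (⊤ : Submodule A Gy) := by
    intro J x s hx
    have h1 := hsmul J (s : D) _ hx
    rwa [show (s : D) • fy (LocalizedModule.mk x s) = v x by
      show (s : D) • LocalizedModule.map y.primeCompl α (LocalizedModule.mk x s) = LocalizedModule.mk (α x) 1
      rw [LocalizedModule.map_mk, LocalizedModule.smul'_mk, ← Submonoid.smul_def, LocalizedModule.mk_cancel]] at h1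
  choose c hc1 hc2 using fun x : F => FlatInjLib.exists_content_of_projective (A := A) x
  let I := I' ⊔ ⨆ x : {x : F // v x ∈ I' • (⊤ : Submodule A Gy)}, c x.1
  refine ⟨I, fun J hJ => ⟨fun hG => ?_, fun hIJ => ?_⟩⟩
  · have hC : I' ≤ J := (hI' J hJ).1 (fq_coker fy gy hgy hexy J hG fun K hJK w hw => by
      induction w using LocalizedModule.induction_on with
      | h x s =>
        refine hloc K x s ?_
        by_cases hK : K = ⊤
        · rw [hK, Submodule.top_smul]; trivial
        · exact hinj K hK (fq_mono hJK hG) x (hnum K x s hw))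
    refine sup_le hC (iSup_le fun x => hc2 _ _ (hinj J hJ hG _ ?_))
    exact Submodule.smul_mono hC le_rfl x.2
  · have hI'J : I' ≤ J := le_sup_left.trans hIJ
    have hI'top : I' ≠ ⊤ := fun h => hJ (top_le_iff.1 (h ▸ hI'J))
    refine fq_middle fy gy hgy hexy J (hFy J) ((hI' J hJ).2 hI'J) fun w hw => ?_
    obtain ⟨w', hw', hsub⟩ := exists_sub_mem fy gy hgy hexy I' ((hI' I' hI'top).2 le_rfl) J hI'J w hw
    rw [← sub_add_cancel w w']
    refine add_mem ?_ hw'
    generalize w - w' = t at hsub
    induction t using LocalizedModule.induction_on with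
    | h x s =>
      refine hloc J x s (Submodule.smul_mono ?_ le_rfl (hc1 x))
      exact (le_sup_right.trans hIJ).trans' (le_iSup (fun x : {x : F // v x ∈ I' • (⊤ : Submodule A Gy)} => c x.1)
        ⟨x, hnum I' x s hsub⟩)

end Level

set_option maxHeartbeats 800000 in
/-- The flattening ideal. -/
theorem exists_ideal_of_dev {A : Type u} [CommRing A] [IsLocalRing A] {S : Type u} [CommRing S] [Algebra A S]
    {N : Type u} [AddCommGroup N] [Module S N] {q : Ideal S} [hq : q.IsPrime]
    (h : DevissExLib.Dev A (maximalIdeal A) S N q) :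
    ∀ [Module A N] [IsScalarTower A S N],
      ∃ I : Ideal A, ∀ J : Ideal A, J ≠ ⊤ → (FQ J (LocalizedModule q.primeCompl N) ↔ I ≤ J) := by
  revert hq
  have key : ∀ {S : Type u} [CommRing S] [Algebra A S] {N : Type u} [AddCommGroup N] [Module S N] {q : Ideal S}
      [q.IsPrime] (E : DevissExLib.Step A (maximalIdeal A) S N q) [Module A N] [IsScalarTower A S N]
      (_ : ∀ [Module A (E.G ⧸ E.M)] [IsScalarTower A E.D (E.G ⧸ E.M)],
        ∃ I : Ideal A, ∀ J : Ideal A, J ≠ ⊤ → (FQ J (LocalizedModule E.y.primeCompl (E.G ⧸ E.M)) ↔ I ≤ J)),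
      ∃ I : Ideal A, ∀ J : Ideal A, J ≠ ⊤ → (FQ J (LocalizedModule q.primeCompl N) ↔ I ≤ J) := by
    intro S _ _ N _ _ q _ E _ _ hnext
    letI : Algebra A E.C := ((algebraMap E.D E.C).comp (algebraMap A E.D)).toAlgebra
    letI : Module A E.G := Module.compHom E.G (algebraMap A E.D)
    letI : Module A (E.G ⧸ E.M) := Module.compHom _ (algebraMap A E.D)
    haveI : IsScalarTower A E.D E.C := IsScalarTower.of_algebraMap_eq fun _ => rfl
    haveI : IsScalarTower A S E.C := IsScalarTower.of_algebraMap_eq fun a => (E.comm a).symm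
    haveI : IsScalarTower A E.D E.G := IsScalarTower.of_algebraMap_smul fun _ _ => rfl
    haveI : IsScalarTower A E.D (E.G ⧸ E.M) := IsScalarTower.of_algebraMap_smul fun _ _ => rfl
    haveI : IsScalarTower A E.C E.G := IsScalarTower.of_algebraMap_smul fun a x => by
      show algebraMap E.D E.C (algebraMap A E.D a) • x = algebraMap A E.D a • x
      rw [algebraMap_smul]
    haveI : IsScalarTower A S E.G := IsScalarTower.of_algebraMap_smul fun a x => by
      rw [← algebraMap_smul E.C (algebraMap A S a) x, ← IsScalarTower.algebraMap_apply, algebraMap_smul]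
    haveI := E.finDC
    haveI := E.isPrimeMap
    haveI : Algebra.Smooth A E.D := DevissExLib.smooth_of_smoothRelDim E.smooth
    obtain ⟨I', hI'⟩ := @hnext _ inferInstance
    obtain ⟨I, hI⟩ := exists_ideal_level E.geomIrred E.α E.bijective_α.1 E.M.mkQ (Submodule.mkQ_surjective _)
      (LinearMap.exact_iff.2 (by rw [Submodule.ker_mkQ, E.range_α])) E.y
      (Ideal.map_le_iff_le_comap.2 (Ideal.over_def E.y (maximalIdeal A)).le) I' hI'
    obtain ⟨eG⟩ := nonempty_localized_equiv (R := A) (G := E.G) E.z E.y (Ideal.over_def E.z E.y).symm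
      fun c hc => FlatInjLib.exists_dvd_of_unique E.z E.y E.uniq c hc
    obtain ⟨eS⟩ := nonempty_localized_equiv (R := A) (G := E.G) E.z q E.zq fun c hc => by
      obtain ⟨s, rfl⟩ := E.surj c
      exact ⟨s, fun h => hc (by rw [← E.zq] at h; exact h), 1, (mul_one _).symm⟩
    let f : N →ₗ[S] LocalizedModule q.primeCompl E.G := LocalizedModule.mkLinearMap q.primeCompl E.G ∘ₗ E.iso.some.toLinearMap
    haveI : IsLocalizedModule q.primeCompl f :=
      IsLocalizedModule.of_linearEquiv_right q.primeCompl (LocalizedModule.mkLinearMap q.primeCompl E.G) E.iso.some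
    let eN : LocalizedModule q.primeCompl N ≃ₗ[A] LocalizedModule q.primeCompl E.G :=
      (IsLocalizedModule.iso q.primeCompl f).restrictScalars A
    exact ⟨I, fun J hJ => (fq_congr (eN.trans (eS.trans eG.symm)) J).trans (hI J hJ)⟩
  induction h with
  | last S N q E hE =>
    intro hq _ _
    refine key E (fun {_} {_} => ⟨⊥, fun J _ => ⟨fun _ => bot_le, fun _ => ?_⟩⟩)
    haveI : Subsingleton (E.G ⧸ E.M) := by rw [hE]; infer_instance
    haveI : Subsingleton (LocalizedModule E.y.primeCompl (E.G ⧸ E.M)) := by
      refine subsingleton_of_forall_eq 0 fun z => ?_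
      induction z using LocalizedModule.induction_on with
      | h m s => rw [Subsingleton.elim m 0, LocalizedModule.zero_mk]
    exact fq_of_subsingleton J
  | cons S N q E hE ih =>
    intro hq _ _
    exact key E (ih (hq := E.hy))

end AInjLib
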