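import Groth.Agent.AInjLib.DevIdeal
import Groth.Agent.FlatInjLib.SemiLocal
import Groth.Agent.FlatInjLib.FinWeakAssFT
import Mathlib

/-!
# Flatness after a local extension of the base descends to a quotient of the base
-/

set_option autoImplicit false
set_option linter.style.haveILetI false

universe u

open IsLocalRing
open scoped TensorProduct

namespace AInjLib

attribute [local instance] Algebra.TensorProduct.rightAlgebra

/-- Elements of a flat module vanishing after a change of rings. -/
theorem mem_ker_smul_top {A A' X : Type u} [CommRing A] [CommRing A'] [Algebra A A'] [AddCommGroup X] [Module A X]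
    [Module.Flat A X] (x : X) (hx : (1 : A') ⊗ₜ[A] x = 0) :
    x ∈ RingHom.ker (algebraMap A A') • (⊤ : Submodule A X) := by
  let J := RingHom.ker (algebraMap A A')
  let ι : (A ⧸ J) →ₐ[A] A' := Ideal.Quotient.liftₐ J (Algebra.ofId A A') fun a ha => ha
  have hι : Function.Injective ι.toLinearMap := by
    refine (injective_iff_map_eq_zero _).2 fun q hq => ?_
    obtain ⟨a, rfl⟩ := Ideal.Quotient.mk_surjective q
    exact Ideal.Quotient.eq_zero_iff_mem.2 hq
  have h0 : (1 : A ⧸ J) ⊗ₜ[A] x = 0 := by
    apply Module.Flat.rTensor_preserves_injective_linearMap (M := X) ι.toLinearMap hι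
    rw [map_zero, LinearMap.rTensor_tmul, AlgHom.toLinearMap_apply, map_one, hx]
  exact (LinearMap.ker_tensorProductMk (R := A) (Q := X) (I := J)).le h0

/-- A prime over two compatible points. -/
theorem exists_prime_over {A A' D : Type u} [CommRing A] [IsLocalRing A] [CommRing A'] [IsLocalRing A']
    [Algebra A A'] [IsLocalHom (algebraMap A A')] [CommRing D] [Algebra A D]
    (y : Ideal D) [y.IsPrime] (hy : y.comap (algebraMap A D) = maximalIdeal A) :
    ∃ (t : Ideal (A' ⊗[A] D)) (_ : t.IsPrime), t.comap (algebraMap A' (A' ⊗[A] D)) = maximalIdeal A' ∧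
      t.comap (algebraMap D (A' ⊗[A] D)) = y := by
  haveI : y.LiesOver (maximalIdeal A) := ⟨hy.symm⟩
  let κ := (maximalIdeal A).ResidueField
  let K₁ := ResidueField A'
  let K₂ := y.ResidueField
  letI : Algebra κ K₂ := (Ideal.ResidueField.mapₐ (maximalIdeal A) y (Algebra.ofId A D) hy.symm).toRingHom.toAlgebra
  haveI : IsScalarTower A κ K₂ := IsScalarTower.of_algebraMap_eq fun a =>
    ((Ideal.ResidueField.mapₐ (maximalIdeal A) y (Algebra.ofId A D) hy.symm).commutes a).symm
  let k₁ : κ →+* K₁ := Ideal.ResidueField.lift _ (algebraMap A K₁)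
    (fun a ha => by
      rw [RingHom.mem_ker, IsScalarTower.algebraMap_apply A A' K₁]
      exact (residue_eq_zero_iff _).2 (map_nonunit _ _ ha))
    (fun a ha => (IsLocalRing.notMem_maximalIdeal.1 ha).map (algebraMap A K₁))
  letI : Algebra κ K₁ := k₁.toAlgebra
  haveI : IsScalarTower A κ K₁ := IsScalarTower.of_algebraMap_eq fun a =>
    (Ideal.ResidueField.lift_algebraMap ..).symm
  let Ω := K₁ ⊗[κ] K₂
  haveI : Nontrivial Ω := inferInstance
  obtain ⟨M, hM⟩ := Ideal.exists_maximal Ω
  let f₁ : A' →ₐ[A] Ω :=
    ((Algebra.TensorProduct.includeLeft : K₁ →ₐ[A] Ω)).comp (IsScalarTower.toAlgHom A A' K₁)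
  let f₂ : D →ₐ[A] Ω :=
    ((Algebra.TensorProduct.includeRight : K₂ →ₐ[κ] Ω).restrictScalars A).comp (IsScalarTower.toAlgHom A D K₂)
  let f : A' ⊗[A] D →ₐ[A] Ω := Algebra.TensorProduct.lift f₁ f₂ fun _ _ => Commute.all _ _
  refine ⟨M.comap f.toRingHom, inferInstance, ?_, ?_⟩
  · have h1 : f.toRingHom.comp (algebraMap A' (A' ⊗[A] D)) =
        (Algebra.TensorProduct.includeLeft : K₁ →ₐ[A] Ω).toRingHom.comp (residue A') := RingHom.ext fun a => by
      show f (a ⊗ₜ 1) = _
      simp [f, f₁]
      rfl
    rw [Ideal.comap_comap, h1, ← Ideal.comap_comap, Ideal.eq_bot_of_prime (M.comap _), ← RingHom.ker_eq_comap_bot,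
      ker_residue]
  · have h2 : f.toRingHom.comp (algebraMap D (A' ⊗[A] D)) =
        (Algebra.TensorProduct.includeRight : K₂ →ₐ[κ] Ω).toRingHom.comp (algebraMap D K₂) := RingHom.ext fun a => by
      show f ((1 : A') ⊗ₜ a) = _
      simp [f, f₁, f₂]
      exact one_mul _
    rw [Ideal.comap_comap, h2, ← Ideal.comap_comap, Ideal.eq_bot_of_prime (M.comap _), ← RingHom.ker_eq_comap_bot,
      Ideal.ker_algebraMap_residueField]

/-- Flatness of the base change at all primes over the closed point and a given prime. -/
def FAt (A A' : Type u) [CommRing A] [CommRing A'] [IsLocalRing A'] [Algebra A A'] (D : Type u) [CommRing D]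
    [Algebra A D] (G : Type u) [AddCommGroup G] [Module D G] (y : Ideal D) : Prop :=
  ∀ (t : Ideal (A' ⊗[A] D)) [t.IsPrime], t.comap (algebraMap A' (A' ⊗[A] D)) = maximalIdeal A' →
    t.comap (algebraMap D (A' ⊗[A] D)) = y → FlatCA.FlatAt A' t ((A' ⊗[A] D) ⊗[D] G)

section Semilinear

variable {R P S M N : Type u} [CommRing R] [CommRing P] [CommRing S] [Algebra R P] [Algebra R S]
  [AddCommGroup M] [Module P M] [Module R M] [IsScalarTower R P M]
  [AddCommGroup N] [Module S N] [Module R N] [IsScalarTower R S N]

theorem flatAt_of_semilinear_surjective (φ : P →ₐ[R] S) (hφ : Function.Surjective φ) (e : M ≃ₗ[R] N)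
    (he : ∀ p x, e (p • x) = φ p • e x) (t : Ideal S) [t.IsPrime] [(t.comap φ.toRingHom).IsPrime]
    (h : FlatCA.FlatAt R (t.comap φ.toRingHom) M) : FlatCA.FlatAt R t N := by
  letI := φ.toRingHom.toAlgebra
  letI : Module P N := Module.compHom _ φ.toRingHom
  haveI : IsScalarTower R P S := IsScalarTower.of_algebraMap_eq fun a => (φ.commutes a).symm
  haveI : IsScalarTower P S N := IsScalarTower.of_algebraMap_smul fun _ _ => rfl
  haveI : IsScalarTower R P N := IsScalarTower.of_algebraMap_smul fun a x => by
    show φ (algebraMap R P a) • x = a • x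
    rw [φ.commutes, algebraMap_smul]
  let e' : M ≃ₗ[P] N := { e with map_smul' := he }
  refine (FlatInjLib.flatAt_comap_iff (R := R) (P := P) (N := N) hφ t).1 ?_
  exact (FlatInjLib.flatAt_congr_of_surjective e'.toLinearMap e'.surjective _
    fun z hz => ⟨1, (inferInstance : (t.comap φ.toRingHom).IsPrime).one_notMem,
      by rw [one_smul]; exact e'.map_eq_zero_iff.1 hz⟩).1 h

theorem flatAt_of_semilinear_integral (φ : P →ₐ[R] S) (hφ : φ.toRingHom.IsIntegral) (e : M ≃ₗ[R] N)
    (he : ∀ p x, e (p • x) = φ p • e x) (t : Ideal P) [t.IsPrime]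
    (h : ∀ (Q : Ideal S) [Q.IsPrime], Q.comap φ.toRingHom = t → FlatCA.FlatAt R Q N) : FlatCA.FlatAt R t M := by
  letI := φ.toRingHom.toAlgebra
  letI : Module P N := Module.compHom _ φ.toRingHom
  haveI : Algebra.IsIntegral P S := ⟨hφ⟩
  haveI : IsScalarTower R P S := IsScalarTower.of_algebraMap_eq fun a => (φ.commutes a).symm
  haveI : IsScalarTower P S N := IsScalarTower.of_algebraMap_smul fun _ _ => rfl
  haveI : IsScalarTower R P N := IsScalarTower.of_algebraMap_smul fun a x => by
    show φ (algebraMap R P a) • x = a • x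
    rw [φ.commutes, algebraMap_smul]
  let e' : M ≃ₗ[P] N := { e with map_smul' := he }
  refine (FlatInjLib.flatAt_congr_of_surjective e'.toLinearMap e'.surjective t
    fun z hz => ⟨1, (inferInstance : t.IsPrime).one_notMem, by rw [one_smul]; exact e'.map_eq_zero_iff.1 hz⟩).2 ?_
  exact FlatInjLib.flatAt_of_forall_over (R := R) t fun Q _ hQ => h Q hQ.over.symm

end Semilinear

section Trans

variable {A A' D C : Type u} [CommRing A] [CommRing A'] [Algebra A A'] [CommRing D] [CommRing C]
  [Algebra A D] [Algebra A C] [Algebra D C] [IsScalarTower A D C] {G : Type u} [AddCommGroup G] [Module C G]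
  [Module D G] [IsScalarTower D C G] [Module A G] [IsScalarTower A D G] [IsScalarTower A C G]

/-- Base change does not depend on the algebra acting. -/
theorem exists_bc_equiv :
    ∃ e : (A' ⊗[A] D) ⊗[D] G ≃ₗ[A'] (A' ⊗[A] C) ⊗[C] G,
      ∀ d x, e (d • x) = Algebra.TensorProduct.map (AlgHom.id A' A') (IsScalarTower.toAlgHom A D C) d • e x := by
  let eD := Algebra.IsPushout.cancelBaseChange A A' D (A' ⊗[A] D) G
  let eC := Algebra.IsPushout.cancelBaseChange A A' C (A' ⊗[A] C) G
  let e := eD.trans eC.symm
  let φ := Algebra.TensorProduct.map (AlgHom.id A' A') (IsScalarTower.toAlgHom A D C)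
  have hgen : ∀ (a : A') (d : D) (g : G), e ((a ⊗ₜ[A] d) ⊗ₜ[D] g) = a • ((1 : A' ⊗[A] C) ⊗ₜ[C] (d • g)) := by
    intro a d g
    have h1 : (a ⊗ₜ[A] d) ⊗ₜ[D] g = a • ((1 : A' ⊗[A] D) ⊗ₜ[D] (d • g)) := by
      rw [← TensorProduct.smul_tmul, TensorProduct.smul_tmul', Algebra.smul_def d (1 : A' ⊗[A] D), mul_one]
      congr 1
      show _ = a • ((1 : A') ⊗ₜ[A] d)
      rw [TensorProduct.smul_tmul', smul_eq_mul, mul_one]
    rw [h1, map_smul]
    congr 1
    show eC.symm (eD _) = _
    rw [LinearEquiv.symm_apply_eq, Algebra.IsPushout.cancelBaseChange_tmul, Algebra.IsPushout.cancelBaseChange_tmul]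
  refine ⟨e, fun d x => ?_⟩
  induction x using TensorProduct.induction_on with
  | zero => simp
  | add x y hx hy => rw [smul_add, map_add, hx, hy, map_add, smul_add]
  | tmul p g =>
    induction p using TensorProduct.induction_on with
    | zero => simp
    | add p p' hp hp' => rw [TensorProduct.add_tmul, smul_add, map_add, hp, hp', map_add, smul_add]
    | tmul a' d' =>
      induction d using TensorProduct.induction_on with
      | zero => simp
      | add p p' hp hp' => rw [add_smul, map_add, hp, hp', map_add, add_smul]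
      | tmul a d =>
        rw [TensorProduct.smul_tmul', smul_eq_mul, Algebra.TensorProduct.tmul_mul_tmul, hgen, hgen,
          mul_smul a a', mul_smul d d']
        conv_rhs => rw [smul_comm]
        rw [smul_comm]
        congr 1
        rw [← algebraMap_smul C d (d' • g), TensorProduct.tmul_smul, Algebra.TensorProduct.map_tmul]
        rw [← algebraMap_smul (A' ⊗[A] C) (algebraMap D C d), ← algebraMap_smul (A' ⊗[A] C) a, smul_smul]
        congr 1
        show (a ⊗ₜ[A] (1 : C)) * ((1 : A') ⊗ₜ[A] algebraMap D C d) = a ⊗ₜ[A] algebraMap D C d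
        simp

variable [IsLocalRing A']

theorem fAt_of_surjective (hs : Function.Surjective (algebraMap D C)) (y : Ideal D) (z : Ideal C)
    (hz : z.comap (algebraMap D C) = y) (h : FAt A A' D G y) : FAt A A' C G z := by
  intro t ht h1 h2
  let φ := Algebra.TensorProduct.map (AlgHom.id A' A') (IsScalarTower.toAlgHom A D C)
  obtain ⟨e, he⟩ := exists_bc_equiv (A := A) (A' := A') (D := D) (C := C) (G := G)
  haveI : (t.comap φ.toRingHom).IsPrime := Ideal.IsPrime.comap _
  refine flatAt_of_semilinear_surjective φ
    (Algebra.TensorProduct.map_surjective (AlgHom.id A' A') (IsScalarTower.toAlgHom A D C) Function.surjective_id hs)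
    e he t (h _ ?_ ?_)
  · rw [Ideal.comap_comap, φ.toRingHom_eq_coe, φ.comp_algebraMap, h1]
  · rw [← hz, ← h2, Ideal.comap_comap, Ideal.comap_comap]
    congr 1

theorem fAt_of_finite [Module.Finite D C] (y : Ideal D) [y.IsPrime] (z : Ideal C)
    (huniq : ∀ (z₁ : Ideal C) [z₁.IsPrime], z₁.LiesOver y → z₁ = z) (h : FAt A A' C G z) : FAt A A' D G y := by
  intro t ht h1 h2
  let φ := Algebra.TensorProduct.map (AlgHom.id A' A') (IsScalarTower.toAlgHom A D C)
  obtain ⟨e, he⟩ := exists_bc_equiv (A := A) (A' := A') (D := D) (C := C) (G := G)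
  have hcomm : φ.toRingHom.comp (algebraMap D (A' ⊗[A] D)) = (algebraMap C (A' ⊗[A] C)).comp (algebraMap D C) :=
    RingHom.ext fun d => by
      show φ ((1 : A') ⊗ₜ d) = (1 : A') ⊗ₜ algebraMap D C d
      simp [φ]
  have hint : φ.toRingHom.IsIntegral := by
    intro w
    induction w using TensorProduct.induction_on with
    | zero => exact φ.toRingHom.isIntegralElem_zero
    | add p q hp hq => exact RingHom.IsIntegralElem.add _ hp hq
    | tmul a c =>
      rw [show a ⊗ₜ[A] c = φ (a ⊗ₜ[A] (1 : D)) * algebraMap C (A' ⊗[A] C) c by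
        show _ = φ (a ⊗ₜ[A] (1 : D)) * ((1 : A') ⊗ₜ[A] c)
        simp [φ]]
      refine RingHom.IsIntegralElem.mul _ φ.toRingHom.isIntegralElem_map ?_
      obtain ⟨p, hp, hp'⟩ := Algebra.IsIntegral.isIntegral (R := D) c
      refine ⟨p.map (algebraMap D (A' ⊗[A] D)), hp.map _, ?_⟩
      rw [Polynomial.eval₂_map, hcomm, ← Polynomial.hom_eval₂, hp', map_zero]
  refine flatAt_of_semilinear_integral φ hint e he t fun Q _ hQ => h Q ?_ ?_
  · rw [← h1, ← hQ, Ideal.comap_comap, φ.toRingHom_eq_coe, φ.comp_algebraMap]
  · refine huniq _ ⟨?_⟩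
    rw [← h2, ← hQ, Ideal.under_def, Ideal.comap_comap, Ideal.comap_comap, hcomm]

end Trans

section Level

variable {A D G C : Type u} [CommRing A] [IsLocalRing A] [CommRing D] [Algebra A D] [Algebra.Smooth A D]
  [AddCommGroup G] [Module D G] [Module A G] [IsScalarTower A D G]
  [AddCommGroup C] [Module D C] [Module A C] [IsScalarTower A D C]

omit [Algebra.Smooth A D] in
/-- The numerator of a fraction with image in a multiple. -/
theorem mem_numerator {r : ℕ} (α : (Fin r → D) →ₗ[D] G) (y : Ideal D) [y.IsPrime] (J : Ideal A) (x : Fin r → D)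
    (s : y.primeCompl)
    (hx : LocalizedModule.map y.primeCompl α (LocalizedModule.mk x s) ∈ J • (⊤ : Submodule A (LocalizedModule y.primeCompl G))) :
    LocalizedModule.mkLinearMap y.primeCompl G (α x) ∈ J • (⊤ : Submodule A (LocalizedModule y.primeCompl G)) := by
  rw [show LocalizedModule.mkLinearMap y.primeCompl G (α x) = (s : D) • LocalizedModule.map y.primeCompl α (LocalizedModule.mk x s) by
    show LocalizedModule.mk (α x) 1 = _
    rw [LocalizedModule.map_mk, LocalizedModule.smul'_mk, ← Submonoid.smul_def, LocalizedModule.mk_cancel]]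
  generalize LocalizedModule.map y.primeCompl α (LocalizedModule.mk x s) = w at hx
  exact Submodule.smul_induction_on hx (fun a ha m _ => by
    rw [smul_comm]; exact Submodule.smul_mem_smul ha trivial) fun a b ha hb => by rw [smul_add]; exact add_mem ha hb

omit [IsLocalRing A] [Algebra.Smooth A D] in
/-- A fraction whose numerator lies in a multiple. -/
theorem mem_fraction {F : Type u} [AddCommGroup F] [Module D F] [Module A F] [IsScalarTower A D F]
    (y : Ideal D) [y.IsPrime] (J : Ideal A) (x : F) (s : y.primeCompl) (hx : x ∈ J • (⊤ : Submodule A F)) :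
    LocalizedModule.mk x s ∈ J • (⊤ : Submodule A (LocalizedModule y.primeCompl F)) := by
  refine Submodule.smul_induction_on hx (fun a ha m _ => ?_) fun m m' hm hm' => ?_
  · rw [show LocalizedModule.mk (a • m) s = a • LocalizedModule.mk m s by
      rw [← algebraMap_smul D a m, ← LocalizedModule.smul'_mk, algebraMap_smul]]
    exact Submodule.smul_mem_smul ha trivial
  · rw [show LocalizedModule.mk (m + m') s = LocalizedModule.mk m s + LocalizedModule.mk m' s by
      rw [LocalizedModule.mk_add_mk]
      exact LocalizedModule.mk_eq.2 ⟨1, by simp [smul_add, smul_smul]⟩]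
    exact add_mem hm hm'

/-- Injectivity of the free part modulo an ideal over which the module is flat. -/
theorem inj_of_fq (hD : FlatCA.GeomIrredFibres A D) [((maximalIdeal A).map (algebraMap A D)).IsPrime] {r : ℕ}
    (α : (Fin r → D) →ₗ[D] G)
    (hα : Function.Injective (α.baseChange ((maximalIdeal A).map (algebraMap A D)).ResidueField))
    (y : Ideal D) [y.IsPrime] (hy : (maximalIdeal A).map (algebraMap A D) ≤ y)
    (J : Ideal A) (hJ : J ≠ ⊤) (hG : FQ J (LocalizedModule y.primeCompl G)) (x : Fin r → D)
    (hx : LocalizedModule.mkLinearMap y.primeCompl G (α x) ∈ J • (⊤ : Submodule A (LocalizedModule y.primeCompl G))) :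
    x ∈ J • (⊤ : Submodule A (Fin r → D)) := by
  let F := Fin r → D
  haveI : Module.Projective A F := DevissFreeLib.projective_pi_of_geomIrred hD r
  let Gy := LocalizedModule y.primeCompl G
  let v : F →ₗ[A] Gy := ((LocalizedModule.mkLinearMap y.primeCompl G) ∘ₗ α).restrictScalars A
  haveI : Module.Flat (A ⧸ J) ((A ⧸ J) ⊗[A] Gy) := hG
  haveI : Nontrivial (A ⧸ J) := Ideal.Quotient.nontrivial_iff.2 hJ
  let v' := v.baseChange (A ⧸ J)
  have hu := FlatInjLib.univInj_of_projective_of_flat v' (fun m hm z hz => by
    have hcm : m.comap (Ideal.Quotient.mk J) = maximalIdeal A :=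
      IsLocalRing.eq_maximalIdeal (Ideal.comap_isMaximal_of_surjective _ Ideal.Quotient.mk_surjective)
    obtain ⟨z, rfl⟩ := TensorProduct.mk_surjective A F (A ⧸ J) Ideal.Quotient.mk_surjective z
    rw [TensorProduct.mk_apply, LinearMap.baseChange_tmul, tmul_mem_iff, hcm] at hz
    rw [TensorProduct.mk_apply, tmul_mem_iff, hcm]
    exact DevissFreeLib.mem_smul_top_of_baseChange _ α hα y.primeCompl (fun t ht htξ => ht (hy htξ))
      (LocalizedModule.mkLinearMap y.primeCompl G) z hz) (A ⧸ J)
  have h0 : v' ((1 : A ⧸ J) ⊗ₜ[A] x) = 0 := by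
    rw [LinearMap.baseChange_tmul, ← TensorProduct.mk_apply, ← LinearMap.mem_ker, LinearMap.ker_tensorProductMk]
    exact hx
  have h1 : (1 : A ⧸ J) ⊗ₜ[A] x = 0 :=
    (TensorProduct.lid (A ⧸ J) ((A ⧸ J) ⊗[A] F)).symm.injective ((hu (by simp [h0])).trans (map_zero _).symm)
  exact (LinearMap.ker_tensorProductMk (R := A) (Q := F) (I := J)).le h1

/-- The cokernel of the free part is flat when the module is. -/
theorem fq_coker_level (hD : FlatCA.GeomIrredFibres A D) [((maximalIdeal A).map (algebraMap A D)).IsPrime] {r : ℕ}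
    (α : (Fin r → D) →ₗ[D] G)
    (hα : Function.Injective (α.baseChange ((maximalIdeal A).map (algebraMap A D)).ResidueField))
    (g : G →ₗ[D] C) (hg : Function.Surjective g) (hex : Function.Exact α g)
    (y : Ideal D) [y.IsPrime] (hy : (maximalIdeal A).map (algebraMap A D) ≤ y)
    (J : Ideal A) (hG : FQ J (LocalizedModule y.primeCompl G)) :
    FQ J (LocalizedModule y.primeCompl C) := by
  refine fq_coker ((LocalizedModule.map y.primeCompl α).restrictScalars A)
    ((LocalizedModule.map y.primeCompl g).restrictScalars A) (fun z => ?_)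
    (LocalizedModule.map_exact y.primeCompl α g hex) J hG fun K hJK w hw => ?_
  · induction z using LocalizedModule.induction_on with
    | h c s => obtain ⟨m, rfl⟩ := hg c; exact ⟨LocalizedModule.mk m s, LocalizedModule.map_mk ..⟩
  · induction w using LocalizedModule.induction_on with
    | h x s =>
      refine mem_fraction y K x s ?_
      by_cases hK : K = ⊤
      · rw [hK, Submodule.top_smul]; trivial
      · exact inj_of_fq hD α hα y hy K hK (fq_mono hJK hG) x (mem_numerator α y K x s hw)

/-- Injectivity at the generic point of the fibre survives a local change of the base. -/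
theorem injective_generic_baseChange {A' : Type u} [CommRing A'] [IsLocalRing A'] [Algebra A A']
    [IsLocalHom (algebraMap A A')] (hD : FlatCA.GeomIrredFibres A D)
    [((maximalIdeal A).map (algebraMap A D)).IsPrime]
    [((maximalIdeal A').map (algebraMap A' (A' ⊗[A] D))).IsPrime] {r : ℕ} (α : (Fin r → D) →ₗ[D] G)
    (hα : Function.Injective (α.baseChange ((maximalIdeal A).map (algebraMap A D)).ResidueField)) :
    Function.Injective (((α.baseChange (A' ⊗[A] D)).comp
      (TensorProduct.piScalarRight D (A' ⊗[A] D) (A' ⊗[A] D) (Fin r)).symm.toLinearMap).baseChange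
        ((maximalIdeal A').map (algebraMap A' (A' ⊗[A] D))).ResidueField) := by
  let D' := A' ⊗[A] D
  let ξ := (maximalIdeal A).map (algebraMap A D)
  let ξ' := (maximalIdeal A').map (algebraMap A' D')
  let K := ξ.ResidueField
  let K' := ξ'.ResidueField
  have hξ : ξ'.comap (algebraMap D D') = ξ := by
    refine le_antisymm ?_ (Ideal.map_le_iff_le_comap.2 fun a ha => ?_)
    · obtain ⟨t, ht, h1, h2⟩ := exists_prime_over (A' := A') ξ (DevissFreeLib.comap_map_eq hD (maximalIdeal A))
      exact (Ideal.comap_mono (Ideal.map_le_iff_le_comap.2 h1.ge)).trans h2.le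
    · rw [Ideal.mem_comap, Ideal.mem_comap, ← IsScalarTower.algebraMap_apply, IsScalarTower.algebraMap_apply A A' D']
      exact Ideal.mem_map_of_mem _ (map_nonunit _ _ ha)
  letI : Algebra K K' := (Ideal.ResidueField.mapₐ ξ ξ' (Algebra.ofId D D') hξ.symm).toRingHom.toAlgebra
  haveI : IsScalarTower D K K' := IsScalarTower.of_algebraMap_eq fun a =>
    ((Ideal.ResidueField.mapₐ ξ ξ' (Algebra.ofId D D') hξ.symm).commutes a).symm
  have h0 : Function.Injective ((α.baseChange K).baseChange K') :=
    Module.Flat.lTensor_preserves_injective_linearMap (M := K') (α.baseChange K) hα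
  let eF := TensorProduct.AlgebraTensorModule.cancelBaseChange D K K' K' (Fin r → D)
  let eG := TensorProduct.AlgebraTensorModule.cancelBaseChange D K K' K' G
  have h1 : Function.Injective (α.baseChange K') := by
    have : α.baseChange K' = eG.toLinearMap ∘ₗ (α.baseChange K).baseChange K' ∘ₗ eF.symm.toLinearMap := by
      ext x
      simp [eF, eG]
    rw [this]
    exact eG.injective.comp (h0.comp eF.symm.injective)
  let eF' := TensorProduct.AlgebraTensorModule.cancelBaseChange D D' K' K' (Fin r → D)
  let eG' := TensorProduct.AlgebraTensorModule.cancelBaseChange D D' K' K' G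
  have h2 : Function.Injective ((α.baseChange D').baseChange K') := by
    have : (α.baseChange D').baseChange K' = eG'.symm.toLinearMap ∘ₗ α.baseChange K' ∘ₗ eF'.toLinearMap := by
      ext x
      simp [eF', eG']
    rw [this]
    exact eG'.symm.injective.comp (h1.comp eF'.injective)
  rw [LinearMap.baseChange_comp]
  exact h2.comp ((TensorProduct.piScalarRight D D' D' (Fin r)).symm.baseChange D' K').injective

/-- One level of the descent of flatness. -/
theorem fq_of_fAt_level {A' : Type u} [CommRing A'] [IsLocalRing A'] [Algebra A A'] [IsLocalHom (algebraMap A A')]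
    (hD : FlatCA.GeomIrredFibres A D) [((maximalIdeal A).map (algebraMap A D)).IsPrime] {r : ℕ}
    (α : (Fin r → D) →ₗ[D] G)
    (hα : Function.Injective (α.baseChange ((maximalIdeal A).map (algebraMap A D)).ResidueField))
    (g : G →ₗ[D] C) (hg : Function.Surjective g) (hex : Function.Exact α g)
    (y : Ideal D) [y.IsPrime] (hy : y.comap (algebraMap A D) = maximalIdeal A)
    (hG : FAt A A' D G y)
    (hC : FAt A A' D C y → FQ (RingHom.ker (algebraMap A A')) (LocalizedModule y.primeCompl C)) :
    FQ (RingHom.ker (algebraMap A A')) (LocalizedModule y.primeCompl G) := by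
  classical
  let D' := A' ⊗[A] D
  let J := RingHom.ker (algebraMap A A')
  have hD' : FlatCA.GeomIrredFibres A' D' := DevissFreeLib.geomIrred_baseChange A' hD
  haveI : ((maximalIdeal A').map (algebraMap A' D')).IsPrime := DevissExLib.map_isPrime_of_geomIrred hD' _
  have hbot : (⊥ : Ideal A') ≠ ⊤ := bot_ne_top
  let α' : (Fin r → D') →ₗ[D'] D' ⊗[D] G :=
    (α.baseChange D').comp (TensorProduct.piScalarRight D D' D' (Fin r)).symm.toLinearMap
  have hα' : Function.Injective (α'.baseChange ((maximalIdeal A').map (algebraMap A' D')).ResidueField) :=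
    injective_generic_baseChange hD α hα
  let g' := g.baseChange D'
  have hg' : Function.Surjective g' := LinearMap.lTensor_surjective D' hg
  have hex' : Function.Exact α' g' := fun z => (lTensor_exact D' hex hg z).trans
    ⟨fun ⟨w, hw⟩ => ⟨TensorProduct.piScalarRight D D' D' (Fin r) w, (congrArg (α.baseChange D')
      (LinearEquiv.symm_apply_apply _ w)).trans hw⟩, fun ⟨w, hw⟩ => ⟨_, hw⟩⟩
  have hle : ∀ (t : Ideal D'), t.comap (algebraMap A' D') = maximalIdeal A' →
      (maximalIdeal A').map (algebraMap A' D') ≤ t := fun t h => Ideal.map_le_iff_le_comap.2 h.ge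
  have hC' : FAt A A' D C y := fun t ht h1 h2 => by
    refine flat_of_fq_bot (fq_coker_level hD' α' hα' g' hg' hex' t (hle t h1) ⊥ ?_)
    haveI : Module.Flat A' (LocalizedModule t.primeCompl (D' ⊗[D] G)) := hG t h1 h2
    exact fq_of_flat ⊥
  refine fq_middle ((LocalizedModule.map y.primeCompl α).restrictScalars A)
    ((LocalizedModule.map y.primeCompl g).restrictScalars A) (fun z => ?_)
    (LocalizedModule.map_exact y.primeCompl α g hex) J ?_ (hC hC') fun w hw => ?_
  · induction z using LocalizedModule.induction_on with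
    | h c s => obtain ⟨m, rfl⟩ := hg c; exact ⟨LocalizedModule.mk m s, LocalizedModule.map_mk ..⟩
  · haveI : Module.Projective A (Fin r → D) := DevissFreeLib.projective_pi_of_geomIrred hD r
    haveI : Module.Flat A (LocalizedModule y.primeCompl (Fin r → D)) :=
      FlatInjLib.flat_of_isLocalizedModule y.primeCompl (LocalizedModule.mkLinearMap y.primeCompl (Fin r → D))
    exact fq_of_flat J
  · induction w using LocalizedModule.induction_on with
    | h x s =>
      refine mem_fraction y J x s ?_
      obtain ⟨t, ht, h1, h2⟩ := exists_prime_over (A' := A') y hy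
      haveI : Module.Flat A' (LocalizedModule t.primeCompl (D' ⊗[D] G)) := hG t h1 h2
      let ℓ := LocalizedModule.mkLinearMap t.primeCompl (D' ⊗[D] G)
      let ψ₀ : G →ₗ[D] LocalizedModule t.primeCompl (D' ⊗[D] G) :=
        (ℓ.restrictScalars D).comp (TensorProduct.mk D D' G 1)
      have hu : ∀ c : y.primeCompl, IsUnit (algebraMap D (Module.End D (LocalizedModule t.primeCompl (D' ⊗[D] G))) c) := by
        intro c
        have hc : algebraMap D D' c ∈ t.primeCompl := fun hh => c.2 (h2 ▸ (hh : (c : D) ∈ t.comap (algebraMap D D')))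
        have h := IsLocalizedModule.map_units ℓ (⟨_, hc⟩ : t.primeCompl)
        rw [Module.End.isUnit_iff] at h ⊢
        convert! h using 1
        funext v
        show (c : D) • v = algebraMap D D' (c : D) • v
        rw [algebraMap_smul]
      let ψ := IsLocalizedModule.lift y.primeCompl (LocalizedModule.mkLinearMap y.primeCompl G) ψ₀ hu
      let x' : Fin r → D' := fun i => algebraMap D D' (x i)
      have h3 : α' x' = (1 : D') ⊗ₜ[D] α x := by
        have : (TensorProduct.piScalarRight D D' D' (Fin r)).symm x' = (1 : D') ⊗ₜ[D] x := by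
          rw [LinearEquiv.symm_apply_eq]
          funext i
          simp [x', Algebra.smul_def]
        show α.baseChange D' ((TensorProduct.piScalarRight D D' D' (Fin r)).symm x') = _
        rw [this, LinearMap.baseChange_tmul]
      have h4 : ℓ (α' x') = 0 := by
        rw [h3, show ℓ ((1 : D') ⊗ₜ[D] α x) = ψ (LocalizedModule.mkLinearMap y.primeCompl G (α x)) from
          (IsLocalizedModule.lift_apply y.primeCompl _ ψ₀ hu (α x)).symm]
        refine Submodule.smul_induction_on (p := fun z => ψ z = 0) (mem_numerator α y J x s hw) (fun a ha m _ => ?_)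
          fun a b ha hb => by rw [map_add, ha, hb, add_zero]
        rw [← algebraMap_smul D a m, map_smul, ← algebraMap_smul D' (algebraMap A D a) (ψ m),
          ← IsScalarTower.algebraMap_apply, IsScalarTower.algebraMap_apply A A' D',
          show algebraMap A A' a = 0 from ha, map_zero, zero_smul]
      have h5 : x' ∈ (⊥ : Ideal A') • (⊤ : Submodule A' (Fin r → D')) :=
        inj_of_fq hD' α' hα' t (hle t h1) ⊥ hbot (fq_of_flat ⊥) x' (by rw [h4]; exact zero_mem _)
      rw [Submodule.bot_smul, Submodule.mem_bot] at h5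
      rw [show x = ∑ i, LinearMap.single A (fun _ => D) i (x i) from (Finset.univ_sum_single x).symm]
      refine Submodule.sum_mem _ fun i _ => Submodule.smul_mono le_rfl le_top
        ((Submodule.map_smul'' J ⊤ (LinearMap.single A (fun _ => D) i)).le
          (Submodule.mem_map_of_mem (mem_ker_smul_top (A' := A') (x i) ?_)))
      exact congrFun h5 i

end Level

set_option maxHeartbeats 800000 in
/-- Flatness after a local extension of the base gives flatness modulo its kernel. -/
theorem fq_of_fAt {A : Type u} [CommRing A] [IsLocalRing A] {A' : Type u} [CommRing A'] [IsLocalRing A']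
    [Algebra A A'] [IsLocalHom (algebraMap A A')] {S : Type u} [CommRing S] [Algebra A S]
    {N : Type u} [AddCommGroup N] [Module S N] {q : Ideal S} [hq : q.IsPrime]
    (h : DevissExLib.Dev A (maximalIdeal A) S N q) :
    ∀ [Module A N] [IsScalarTower A S N], FAt A A' S N q →
      FQ (RingHom.ker (algebraMap A A')) (LocalizedModule q.primeCompl N) := by
  revert hq
  have key : ∀ {S : Type u} [CommRing S] [Algebra A S] {N : Type u} [AddCommGroup N] [Module S N] {q : Ideal S}
      [q.IsPrime] (E : DevissExLib.Step A (maximalIdeal A) S N q) [Module A N] [IsScalarTower A S N]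
      (_ : ∀ [Module A (E.G ⧸ E.M)] [IsScalarTower A E.D (E.G ⧸ E.M)], FAt A A' E.D (E.G ⧸ E.M) E.y →
        FQ (RingHom.ker (algebraMap A A')) (LocalizedModule E.y.primeCompl (E.G ⧸ E.M))),
      FAt A A' S N q → FQ (RingHom.ker (algebraMap A A')) (LocalizedModule q.primeCompl N) := by
    intro S _ _ N _ _ q _ E _ _ hnext hN
    letI : Algebra A E.C := ((algebraMap E.D E.C).comp (algebraMap A E.D)).toAlgebra
    letI : Module A E.G := Module.compHom E.G (algebraMap A E.D)
    letI : Module A (E.G ⧸ E.M) := Module.compHom _ (algebraMap A E.D)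
    haveI : IsScalarTower A E.D E.C := IsScalarTower.of_algebraMap_eq fun _ => rfl
    haveI : IsScalarTower A S E.C := IsScalarTower.of_algebraMap_eq fun a => (E.comm a).symm
    haveI : IsScalarTower A E.D E.G := IsScalarTower.of_algebraMap_smul fun _ _ => rfl
    haveI : IsScalarTower A E.D (E.G ⧸ E.M) := IsScalarTower.of_algebraMap_smul fun _ _ => rfl
    haveI : IsScalarTower A E.C E.G := IsScalarTower.of_algebraMap_smul fun a x => by
      show algebraMap E.D E.C (algebraMap A E.D a) • x = algebraMap A E.D a • x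
      rw [algebraMap_smul]
    haveI : IsScalarTower A S E.G := IsScalarTower.of_algebraMap_smul fun a x => by
      rw [← algebraMap_smul E.C (algebraMap A S a) x, ← IsScalarTower.algebraMap_apply, algebraMap_smul]
    haveI := E.finDC
    haveI := E.isPrimeMap
    haveI : Algebra.Smooth A E.D := DevissExLib.smooth_of_smoothRelDim E.smooth
    have hN' : FAt A A' S E.G q := fun t ht h1 h2 =>
      (FlatInjLib.flatAt_congr_of_surjective (R := A')
        (E.iso.some.baseChange S (A' ⊗[A] S)).toLinearMap (LinearEquiv.surjective _) t fun z hz =>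
          ⟨1, ht.one_notMem, by rw [one_smul]; exact (LinearEquiv.map_eq_zero_iff _).1 hz⟩).1 (hN t h1 h2)
    have hGy : FAt A A' E.D E.G E.y :=
      fAt_of_finite E.y E.z E.uniq (fAt_of_surjective E.surj q E.z E.zq hN')
    have hFQ := fq_of_fAt_level E.geomIrred E.α E.bijective_α.1 E.M.mkQ (Submodule.mkQ_surjective _)
      (LinearMap.exact_iff.2 (by rw [Submodule.ker_mkQ, E.range_α])) E.y (Ideal.over_def E.y (maximalIdeal A)).symm
      hGy (@hnext _ inferInstance)
    obtain ⟨eG⟩ := nonempty_localized_equiv (R := A) (G := E.G) E.z E.y (Ideal.over_def E.z E.y).symm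
      fun c hc => FlatInjLib.exists_dvd_of_unique E.z E.y E.uniq c hc
    obtain ⟨eS⟩ := nonempty_localized_equiv (R := A) (G := E.G) E.z q E.zq fun c hc => by
      obtain ⟨s, rfl⟩ := E.surj c
      exact ⟨s, fun h => hc (by rw [← E.zq] at h; exact h), 1, (mul_one _).symm⟩
    let f : N →ₗ[S] LocalizedModule q.primeCompl E.G := LocalizedModule.mkLinearMap q.primeCompl E.G ∘ₗ E.iso.some.toLinearMap
    haveI : IsLocalizedModule q.primeCompl f :=
      IsLocalizedModule.of_linearEquiv_right q.primeCompl (LocalizedModule.mkLinearMap q.primeCompl E.G) E.iso.some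
    let eN : LocalizedModule q.primeCompl N ≃ₗ[A] LocalizedModule q.primeCompl E.G :=
      (IsLocalizedModule.iso q.primeCompl f).restrictScalars A
    exact (fq_congr (eN.trans (eS.trans eG.symm)) _).2 hFQ
  induction h with
  | last S N q E hE =>
    intro hq _ _
    refine key E (fun {_} {_} _ => ?_)
    haveI : Subsingleton (E.G ⧸ E.M) := by rw [hE]; infer_instance
    haveI : Subsingleton (LocalizedModule E.y.primeCompl (E.G ⧸ E.M)) := by
      refine subsingleton_of_forall_eq 0 fun z => ?_
      induction z using LocalizedModule.induction_on with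
      | h m s => rw [Subsingleton.elim m 0, LocalizedModule.zero_mk]
    exact fq_of_subsingleton _
  | cons S N q E hE ih =>
    intro hq _ _
    exact key E (ih (hq := E.hy))

end AInjLib
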