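import Groth.Agent.RichLib.FlatColimit
import Groth.Agent.FlatLib.FibEssFP
import Groth.Prelude.Def_FlatCA
import Mathlib

/-!
# Flatness at the primes over a closed set passes to a stage of a colimit (essentially finite presentation)
-/

set_option autoImplicit false
set_option linter.style.haveILetI false

universe u

open scoped TensorProduct
open FlatLib

attribute [local instance] MvPolynomial.algebraMvPolynomial

namespace AInjLib.EssStage

set_option maxHeartbeats 800000 in
/-- A localised quotient has the same flat points as the model module. -/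
theorem flatAt_iff_model {P PG S SG G M₀ M MG : Type u} [CommRing P] [CommRing PG] [CommRing S] [CommRing SG]
    [CommRing G] [Algebra P S] [Algebra P PG] [Algebra S SG] [Algebra PG SG] [Algebra P SG]
    [IsScalarTower P S SG] [IsScalarTower P PG SG] [Algebra.IsPushout P S PG SG]
    [Algebra G PG] [Algebra G SG] [IsScalarTower G PG SG]
    [AddCommGroup M₀] [Module P M₀] [AddCommGroup M] [Module S M] [Module P M] [IsScalarTower P S M]
    [AddCommGroup MG] [Module SG MG] [Module S MG] [IsScalarTower S SG MG] [Module G MG] [IsScalarTower G SG MG]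
    (W : Submonoid P) (hW : ∀ w ∈ W, IsUnit (algebraMap P S w))
    (hS : ∀ s : S, ∃ p : P, ∃ w ∈ W, s * algebraMap P S w = algebraMap P S p)
    (f₀ : M₀ →ₗ[P] M) [IsLocalizedModule W f₀] (f : M →ₗ[S] MG) (hf : IsBaseChange SG f)
    [SMulCommClass P G PG] (q' : Ideal SG) [q'.IsPrime] :
    FlatCA.FlatAt G q' MG ↔
      PrimeSpectrum.comap (algebraMap PG SG) ⟨q', inferInstance⟩ ∈ flatLocus G PG (PG ⊗[P] M₀) := by
  classical
  haveI hps : Algebra.IsPushout P PG S SG := Algebra.IsPushout.symm inferInstance
  have hWG : ∀ w ∈ W, IsUnit (algebraMap P SG w) := fun w hw => by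
    rw [IsScalarTower.algebraMap_apply P S SG]
    exact (hW w hw).map _
  have hSG : ∀ s : SG, ∃ a : PG, ∃ w ∈ W, s * algebraMap P SG w = algebraMap PG SG a := by
    intro s
    refine hps.out.inductionOn s (fun s : SG => ∃ a : PG, ∃ w ∈ W, s * algebraMap P SG w = algebraMap PG SG a)
      ⟨0, 1, W.one_mem, by simp⟩ (fun x => ?_) (fun c x hx => ?_) fun x y hx hy => ?_
    · obtain ⟨p, w, hw, hpw⟩ := hS x
      refine ⟨algebraMap P PG p, w, hw, ?_⟩
      show algebraMap S SG x * algebraMap P SG w = _
      rw [IsScalarTower.algebraMap_apply P S SG, ← map_mul, hpw, ← IsScalarTower.algebraMap_apply,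
        ← IsScalarTower.algebraMap_apply]
    · obtain ⟨a, w, hw, haw⟩ := hx
      exact ⟨c * a, w, hw, by rw [Algebra.smul_def, map_mul, mul_assoc, haw]⟩
    · obtain ⟨a, w, hw, haw⟩ := hx
      obtain ⟨a', w', hw', haw'⟩ := hy
      refine ⟨a * algebraMap P PG w' + a' * algebraMap P PG w, w * w', W.mul_mem hw hw', ?_⟩
      simp only [map_add, map_mul, ← IsScalarTower.algebraMap_apply]
      rw [← haw, ← haw']
      ring
  letI : Module PG MG := Module.compHom MG (algebraMap PG SG)
  haveI : IsScalarTower PG SG MG := IsScalarTower.of_algebraMap_smul fun _ _ => rfl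
  haveI : IsScalarTower G PG MG := IsScalarTower.of_algebraMap_smul fun g m => by
    rw [← algebraMap_smul SG (algebraMap G PG g) m, ← IsScalarTower.algebraMap_apply, algebraMap_smul]
  letI : Module P MG := Module.compHom MG (algebraMap P SG)
  haveI : IsScalarTower P SG MG := IsScalarTower.of_algebraMap_smul fun _ _ => rfl
  haveI : IsScalarTower P PG MG := IsScalarTower.of_algebraMap_smul fun p m => by
    rw [← algebraMap_smul SG (algebraMap P PG p) m, ← IsScalarTower.algebraMap_apply, algebraMap_smul]
  haveI : IsScalarTower P S MG := IsScalarTower.of_algebraMap_smul fun p m => by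
    rw [← algebraMap_smul SG (algebraMap P S p) m, ← IsScalarTower.algebraMap_apply, algebraMap_smul]
  -- the model maps onto a localisation
  let eMG : (SG ⊗[S] M) ≃ₗ[PG] MG := hf.equiv.restrictScalars PG
  let E : (PG ⊗[P] M) ≃ₗ[PG] MG := (Algebra.IsPushout.cancelBaseChange P PG S SG M).symm ≪≫ₗ eMG
  let ψ : PG ⊗[P] M₀ →ₗ[PG] MG := E.toLinearMap ∘ₗ TensorProduct.AlgebraTensorModule.lTensor PG PG f₀
  haveI hψ : IsLocalizedModule W (ψ.restrictScalars P) := by
    haveI h1 : IsLocalizedModule W (f₀.lTensor PG) := by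
      haveI : IsLocalizedModule W (TensorProduct.AlgebraTensorModule.rTensor P PG f₀) := inferInstance
      have e1 : f₀.lTensor PG = ((TensorProduct.comm P M PG).toLinearMap ∘ₗ
          (TensorProduct.AlgebraTensorModule.rTensor P PG f₀)) ∘ₗ (TensorProduct.comm P PG M₀).toLinearMap :=
        TensorProduct.ext' fun c x => rfl
      haveI := IsLocalizedModule.of_linearEquiv W (TensorProduct.AlgebraTensorModule.rTensor P PG f₀)
        (TensorProduct.comm P M PG)
      rw [e1]
      exact IsLocalizedModule.of_linearEquiv_right W _ (TensorProduct.comm P PG M₀)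
    have e2 : ψ.restrictScalars P = (E.restrictScalars P).toLinearMap ∘ₗ f₀.lTensor PG :=
      TensorProduct.ext' fun c x => rfl
    rw [e2]
    exact IsLocalizedModule.of_linearEquiv W _ _
  let q : Ideal PG := q'.comap (algebraMap PG SG)
  let L := LocalizedModule q'.primeCompl MG
  let mk : MG →ₗ[SG] L := LocalizedModule.mkLinearMap q'.primeCompl MG
  let κ : PG ⊗[P] M₀ →ₗ[PG] L := (mk.restrictScalars PG) ∘ₗ ψ
  have hmem : ∀ {s : SG} {a : PG} {w : P}, s ∉ q' → w ∈ W → s * algebraMap P SG w = algebraMap PG SG a → a ∉ q := by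
    intro s a w hs hw h ha
    have ha' : algebraMap PG SG a ∈ q' := ha
    rw [← h] at ha'
    rcases (inferInstance : q'.IsPrime).mem_or_mem ha' with h1 | h1
    · exact hs h1
    · exact (inferInstance : q'.IsPrime).ne_top (Ideal.eq_top_of_isUnit_mem _ h1 (hWG w hw))
  haveI hκ : IsLocalizedModule q.primeCompl κ := by
    constructor
    · intro t
      have hu := IsLocalizedModule.map_units mk (⟨algebraMap PG SG t, t.2⟩ : q'.primeCompl)
      rw [Module.End.isUnit_iff] at hu ⊢
      have he : ⇑(algebraMap PG (Module.End PG L) t) =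
          ⇑(algebraMap SG (Module.End SG L) (algebraMap PG SG t)) := funext fun z => by
        simp [Module.algebraMap_end_apply]
      rw [he]
      exact hu
    · intro z
      obtain ⟨⟨m, ⟨s, hs⟩⟩, hz⟩ := IsLocalizedModule.surj q'.primeCompl mk z
      obtain ⟨a, w, hw, haw⟩ := hSG s
      obtain ⟨⟨n, ⟨w₂, hw₂⟩⟩, hn⟩ := IsLocalizedModule.surj W (ψ.restrictScalars P) m
      simp only [Submonoid.smul_def] at hz hn
      have hna : a * algebraMap P PG w₂ ∉ q := hmem (s := s) (w := w * w₂) hs (W.mul_mem hw hw₂) (by
        rw [map_mul, map_mul, ← IsScalarTower.algebraMap_apply, ← haw, mul_assoc])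
      refine ⟨⟨algebraMap P PG w • n, ⟨_, hna⟩⟩, ?_⟩
      show (a * algebraMap P PG w₂) • z = mk (ψ (algebraMap P PG w • n))
      have e1 : ψ n = algebraMap P SG w₂ • m := by
        rw [algebraMap_smul]
        exact hn.symm
      rw [map_smul, e1, ← algebraMap_smul SG (algebraMap P PG w), ← IsScalarTower.algebraMap_apply, smul_smul,
        map_smul, ← hz, smul_smul, ← algebraMap_smul SG (a * algebraMap P PG w₂) z, map_mul,
        ← IsScalarTower.algebraMap_apply, ← haw]
      congr 1
      ring
    · intro x y hxy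
      obtain ⟨⟨s, hs⟩, hsxy⟩ := IsLocalizedModule.exists_of_eq (S := q'.primeCompl) (f := mk) hxy
      obtain ⟨a, w, hw, haw⟩ := hSG s
      simp only [Submonoid.smul_def] at hsxy
      have h1 : ψ (a • x) = ψ (a • y) := by
        rw [map_smul, map_smul, ← algebraMap_smul SG a, ← algebraMap_smul SG a (ψ y), ← haw, mul_comm, mul_smul, mul_smul]
        exact congrArg _ hsxy
      obtain ⟨⟨w₂, hw₂⟩, h2⟩ := IsLocalizedModule.exists_of_eq (S := W) (f := ψ.restrictScalars P) h1
      simp only [Submonoid.smul_def] at h2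
      refine ⟨⟨a * algebraMap P PG w₂, hmem (s := s) (w := w * w₂) hs (W.mul_mem hw hw₂) (by
        rw [map_mul, map_mul, ← IsScalarTower.algebraMap_apply, ← haw, mul_assoc])⟩, ?_⟩
      show (a * algebraMap P PG w₂) • x = (a * algebraMap P PG w₂) • y
      rw [mul_comm, mul_smul, mul_smul, algebraMap_smul, algebraMap_smul]
      exact h2
  let N := PG ⊗[P] M₀
  haveI : IsScalarTower G PG N := TensorProduct.isScalarTower_left
  haveI hloc : IsLocalizedModule q.primeCompl (LocalizedModule.mkLinearMap q.primeCompl N) :=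
    localizedModuleIsLocalizedModule _
  show Module.Flat G L ↔ Module.Flat G (LocalizedModule q.primeCompl N)
  exact (flat_localized_iff (R := G) q.primeCompl κ).trans
    (flat_localized_iff (R := G) (M := N) (M' := LocalizedModule q.primeCompl N) q.primeCompl
      (LocalizedModule.mkLinearMap q.primeCompl N)).symm

end AInjLib.EssStage
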