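import Groth.Agent.AInjLib.SqZero
import Groth.Agent.FlatInjLib.Inj
import Mathlib

/-!
# Killing the flattening ideal
-/

set_option autoImplicit false
set_option linter.style.haveILetI false

universe u

open IsLocalRing
open scoped TensorProduct

namespace AInjLib

variable {R S : Type u} [CommRing R] [IsLocalRing R] [CommRing S] [Algebra R S]
  {N M L : Type u} [AddCommGroup N] [Module S N] [Module R N] [IsScalarTower R S N]
  [AddCommGroup M] [Module R M] [Module.Flat R M]
  [CommRing L] [Algebra S L] [Algebra R L] [IsScalarTower R S L] [Module.Flat S L]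

/-- An independent family of an ideal killed by the maximal ideal stays independent in a flat module. -/
theorem coeff_mem_of_flat (J : Ideal R) {d : ℕ} (a : Fin d → R) (ha : ∀ i, ∀ r ∈ maximalIdeal R, r * a i ∈ J)
    (hind : ∀ c : Fin d → R, ∑ i, c i * a i ∈ J → ∀ i, c i ∈ maximalIdeal R) (m : Fin d → M)
    (hm : ∑ i, a i • m i ∈ J • (⊤ : Submodule R M)) : ∀ i, m i ∈ maximalIdeal R • (⊤ : Submodule R M) := by
  classical
  let k := R ⧸ maximalIdeal R
  let φ : (Fin d → k) →ₗ[R] R ⧸ J := ∑ i,
    ((maximalIdeal R).liftQ (LinearMap.toSpanSingleton R (R ⧸ J) (Ideal.Quotient.mk J (a i))) (fun r hr => by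
      show r • Ideal.Quotient.mk J (a i) = 0
      exact Ideal.Quotient.eq_zero_iff_mem.2 (ha i r hr))).comp (LinearMap.proj i)
  have hφ : Function.Injective φ := (injective_iff_map_eq_zero φ).2 fun c hc => by
    choose r hr using fun i => Ideal.Quotient.mk_surjective (c i)
    funext i
    rw [← hr i]
    refine Ideal.Quotient.eq_zero_iff_mem.2 (hind r (Ideal.Quotient.eq_zero_iff_mem.1 ?_) i)
    rw [map_sum, ← hc, LinearMap.sum_apply]
    refine Finset.sum_congr rfl fun j _ => ?_
    rw [LinearMap.comp_apply, LinearMap.proj_apply, ← hr j]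
    rfl
  let z : M ⊗[R] (Fin d → k) := ∑ i, m i ⊗ₜ[R] Pi.single i (1 : k)
  have hz : φ.lTensor M z = 0 := by
    rw [map_sum]
    have h1 : ∀ i, φ.lTensor M (m i ⊗ₜ[R] Pi.single i (1 : k)) = (a i • m i) ⊗ₜ[R] (1 : R ⧸ J) := fun i => by
      rw [LinearMap.lTensor_tmul, TensorProduct.smul_tmul]
      congr 1
      rw [LinearMap.sum_apply, Finset.sum_eq_single i]
      · rw [LinearMap.comp_apply, LinearMap.proj_apply, Pi.single_eq_same]
        show (1 : R) • Ideal.Quotient.mk J (a i) = a i • (1 : R ⧸ J)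
        rw [one_smul, Algebra.smul_def, mul_one]
        rfl
      · intro j _ hj
        rw [LinearMap.comp_apply, LinearMap.proj_apply, Pi.single_eq_of_ne hj, map_zero]
      · exact fun h => absurd (Finset.mem_univ i) h
    rw [Finset.sum_congr rfl fun i _ => h1 i, ← TensorProduct.sum_tmul]
    refine (TensorProduct.comm R M (R ⧸ J)).injective ?_
    rw [map_zero, TensorProduct.comm_tmul]
    exact (LinearMap.ker_tensorProductMk (R := R) (Q := M) (I := J)).ge hm
  have h0 : z = 0 := Module.Flat.lTensor_preserves_injective_linearMap φ hφ (hz.trans (map_zero _).symm)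
  intro i
  have h1 := congrArg ((LinearMap.proj (R := R) (φ := fun _ : Fin d => k) i).lTensor M) h0
  rw [map_zero, map_sum, Finset.sum_eq_single i] at h1
  · rw [LinearMap.lTensor_tmul, LinearMap.proj_apply, Pi.single_eq_same] at h1
    have h2 := congrArg (TensorProduct.comm R M k) h1
    rw [map_zero, TensorProduct.comm_tmul] at h2
    exact (LinearMap.ker_tensorProductMk (R := R) (Q := M) (I := maximalIdeal R)).le h2
  · intro j _ hj
    rw [LinearMap.lTensor_tmul, LinearMap.proj_apply, Pi.single_eq_of_ne' hj, TensorProduct.tmul_zero]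
  · exact fun h => absurd (Finset.mem_univ i) h

set_option maxHeartbeats 800000 in
/-- The flattening ideal of a module mapping injectively modulo the maximal ideal to a flat module vanishes. -/
theorem ideal_eq_bot (u : N →ₗ[R] M) (Q : Ideal S) [Q.IsPrime]
    (hu : ∀ z : N, u z ∈ maximalIdeal R • (⊤ : Submodule R M) →
      ∃ s, s ∉ Q ∧ s • z ∈ maximalIdeal R • (⊤ : Submodule R N))
    (hL : ∀ s, s ∉ Q → IsUnit (algebraMap S L s))
    {Y : Type u} [AddCommGroup Y] [Module R Y] (η : Y ≃ₗ[R] L ⊗[S] N)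
    (I : Ideal R) (hfg : I.FG) (hI : ∀ J : Ideal R, J ≠ ⊤ → (FQ J Y ↔ I ≤ J)) : I = ⊥ := by
  classical
  let m := maximalIdeal R
  have hm : m ≠ ⊤ := (maximalIdeal.isMaximal R).ne_top
  have hIm : I ≤ m := (hI m hm).1 (by
    letI := Ideal.Quotient.field m
    exact inferInstanceAs (Module.Flat (R ⧸ m) ((R ⧸ m) ⊗[R] Y)))
  suffices h : I ≤ m • I from Submodule.eq_bot_of_le_smul_of_le_jacobson_bot m I hfg h
    (IsLocalRing.maximalIdeal_le_jacobson ⊥)
  let J : Ideal R := m • I
  have hJI : J ≤ I := Submodule.smul_le_right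
  have hJ : J ≠ ⊤ := fun h => hm (top_le_iff.1 (h ▸ (Ideal.mul_le_right.trans hIm : J ≤ m)))
  refine (hI J hJ).1 ?_
  haveI : Nontrivial (R ⧸ J) := Ideal.Quotient.nontrivial_iff.2 hJ
  haveI : IsLocalRing (R ⧸ J) := IsLocalRing.of_surjective' (Ideal.Quotient.mk J) Ideal.Quotient.mk_surjective
  have hmap : maximalIdeal (R ⧸ J) = m.map (Ideal.Quotient.mk J) :=
    (IsLocalRing.map_maximalIdeal_of_surjective _ Ideal.Quotient.mk_surjective).symm
  let Y₁ := (R ⧸ J) ⊗[R] Y
  let Ib := I.map (Ideal.Quotient.mk J)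
  show Module.Flat (R ⧸ J) Y₁
  refine flat_of_killed Ib ?_ ?_ ?_
  · intro r hr i hi
    rw [hmap, Ideal.mem_map_iff_of_surjective _ Ideal.Quotient.mk_surjective] at hr
    rw [Ideal.mem_map_iff_of_surjective _ Ideal.Quotient.mk_surjective] at hi
    obtain ⟨r, hr, rfl⟩ := hr
    obtain ⟨i, hi, rfl⟩ := hi
    rw [← map_mul]
    exact Ideal.Quotient.eq_zero_iff_mem.2 (Submodule.smul_mem_smul hr hi)
  · -- flatness modulo the ideal
    haveI : Module.Flat (R ⧸ I) ((R ⧸ I) ⊗[R] Y) := (hI I fun h => hm (top_le_iff.1 (h ▸ hIm))).2 le_rfl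
    let T := (R ⧸ J) ⧸ Ib
    letI : Algebra (R ⧸ I) T := (Ideal.Quotient.lift I (algebraMap R T) fun a ha => by
      show Ideal.Quotient.mk Ib (Ideal.Quotient.mk J a) = 0
      exact Ideal.Quotient.eq_zero_iff_mem.2 (Ideal.mem_map_of_mem _ ha)).toAlgebra
    haveI : IsScalarTower R (R ⧸ I) T := IsScalarTower.of_algebraMap_eq fun _ => rfl
    exact Module.Flat.of_linearEquiv
      ((TensorProduct.AlgebraTensorModule.cancelBaseChange R (R ⧸ J) T T Y).trans
        (TensorProduct.AlgebraTensorModule.cancelBaseChange R (R ⧸ I) T T Y).symm)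
  intro d e y he hind hsum
  choose a haI hae using fun i => (Ideal.mem_map_iff_of_surjective _ Ideal.Quotient.mk_surjective).1 (he i)
  choose y₀ hy₀ using fun i => TensorProduct.mk_surjective R Y (R ⧸ J) Ideal.Quotient.mk_surjective (y i)
  have hsum' : ∑ i, a i • y₀ i ∈ J • (⊤ : Submodule R Y) := by
    rw [← LinearMap.ker_tensorProductMk, LinearMap.mem_ker, map_sum, ← hsum]
    refine Finset.sum_congr rfl fun i _ => ?_
    rw [map_smul, hy₀, ← hae]
    exact (algebraMap_smul (R ⧸ J) (a i) _).symm
  have hindR : ∀ c : Fin d → R, ∑ i, c i * a i ∈ J → ∀ i, c i ∈ m := fun c hc i => by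
    have h1 : Ideal.Quotient.mk J (c i) ∈ maximalIdeal (R ⧸ J) := hind (fun i => Ideal.Quotient.mk J (c i)) (by
      simp only [← hae, ← map_mul, ← map_sum]
      exact Ideal.Quotient.eq_zero_iff_mem.2 hc) i
    exact fun hu => (mem_maximalIdeal _).1 h1 (hu.map _)
  have hma : ∀ i, ∀ r ∈ m, r * a i ∈ J := fun i r hr => Submodule.smul_mem_smul hr (haI i)
  suffices hy : ∀ i, y₀ i ∈ m • (⊤ : Submodule R Y) by
    intro i
    rw [← hy₀ i, TensorProduct.mk_apply, tmul_mem_iff]
    refine Submodule.smul_mono_left ?_ (hy i)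
    intro r hr
    show Ideal.Quotient.mk J r ∈ maximalIdeal (R ⧸ J)
    exact hmap ▸ Ideal.mem_map_of_mem _ hr
  -- the comparison with the source
  let SJ : Submodule S N := J.map (algebraMap R S) • ⊤
  let ψ : (Fin d → N) →ₗ[S] N ⧸ SJ := ∑ i, algebraMap R S (a i) • (SJ.mkQ ∘ₗ LinearMap.proj i)
  have hψ : ∀ w : Fin d → N, ψ w = SJ.mkQ (∑ i, a i • w i) := fun w => by
    rw [LinearMap.sum_apply, map_sum]
    refine Finset.sum_congr rfl fun i _ => ?_
    rw [LinearMap.smul_apply, LinearMap.comp_apply, LinearMap.proj_apply, ← algebraMap_smul S (a i) (w i), map_smul]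
  have hw : ∀ w ∈ LinearMap.ker ψ, ∃ s, s ∉ Q ∧ ∀ i, s • w i ∈ m • (⊤ : Submodule R N) := by
    intro w hw
    rw [LinearMap.mem_ker, hψ] at hw
    have h1 : ∑ i, a i • w i ∈ J • (⊤ : Submodule R N) :=
      (FlatInjLib.mem_smul_top_iff_map (B := S) J _).2 ((Submodule.Quotient.mk_eq_zero SJ).1 hw)
    have h2 : ∑ i, a i • u (w i) ∈ J • (⊤ : Submodule R M) := by
      have h3 := Submodule.mem_map_of_mem (f := u) h1
      rw [Submodule.map_smul''] at h3
      simp only [map_sum, map_smul] at h3
      exact Submodule.smul_mono le_rfl le_top h3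
    choose s hs hsw using fun i => hu _ (coeff_mem_of_flat J a hma hindR (fun i => u (w i)) h2 i)
    refine ⟨∏ i, s i, fun h => ?_, fun i => ?_⟩
    · obtain ⟨i, -, hi⟩ := Ideal.IsPrime.prod_mem_iff.1 h
      exact hs i hi
    · rw [← Finset.prod_erase_mul Finset.univ s (Finset.mem_univ i), mul_smul]
      refine Submodule.smul_induction_on (hsw i) (fun r hr n _ => ?_) fun p q hp hq => by rw [smul_add]; exact add_mem hp hq
      rw [smul_comm]
      exact Submodule.smul_mem_smul hr trivial
  let ι := (LinearMap.ker ψ).subtype.lTensor L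
  have hexL : Function.Exact ι (ψ.lTensor L) := Module.Flat.lTensor_exact L (LinearMap.exact_subtype_ker_map ψ)
  let z : L ⊗[S] (Fin d → N) := ∑ i, (LinearMap.single S (fun _ : Fin d => N) i).lTensor L (η (y₀ i))
  have hz : ψ.lTensor L z = 0 := by
    rw [map_sum]
    have h1 : ∀ i, ψ.lTensor L ((LinearMap.single S (fun _ : Fin d => N) i).lTensor L (η (y₀ i))) =
        SJ.mkQ.lTensor L (a i • η (y₀ i)) := fun i => by
      rw [← LinearMap.comp_apply, ← LinearMap.lTensor_comp,
        show ψ ∘ₗ LinearMap.single S (fun _ : Fin d => N) i = algebraMap R S (a i) • SJ.mkQ from LinearMap.ext fun n => by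
          rw [LinearMap.comp_apply, hψ, LinearMap.smul_apply, Finset.sum_eq_single i]
          · rw [LinearMap.single_apply, Pi.single_eq_same, ← algebraMap_smul S (a i) n, map_smul]
          · intro j _ hj; rw [LinearMap.single_apply, Pi.single_eq_of_ne hj, smul_zero]
          · exact fun h => absurd (Finset.mem_univ i) h,
        LinearMap.lTensor_smul, LinearMap.smul_apply, ← map_smul, algebraMap_smul]
    rw [Finset.sum_congr rfl fun i _ => h1 i, ← map_sum]
    have h2 : ∑ i, a i • η (y₀ i) ∈ J • (⊤ : Submodule R (L ⊗[S] N)) := by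
      have h3 := Submodule.mem_map_of_mem (f := η.toLinearMap) hsum'
      rw [Submodule.map_smul''] at h3
      simp only [LinearEquiv.coe_coe, map_sum, map_smul] at h3
      exact Submodule.smul_mono le_rfl le_top h3
    refine Submodule.smul_induction_on (p := fun t => SJ.mkQ.lTensor L t = 0) h2 (fun r hr t ht => ?_)
      fun p q hp hq => by rw [map_add, hp, hq, add_zero]
    clear ht
    induction t using TensorProduct.induction_on with
    | zero => rw [smul_zero, map_zero]
    | tmul l n =>
      rw [← algebraMap_smul S r (l ⊗ₜ[S] n), ← TensorProduct.tmul_smul, LinearMap.lTensor_tmul,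
        show SJ.mkQ (algebraMap R S r • n) = 0 from (Submodule.Quotient.mk_eq_zero SJ).2
          (Submodule.smul_mem_smul (Ideal.mem_map_of_mem _ hr) trivial), TensorProduct.tmul_zero]
    | add p q hp hq => rw [smul_add, map_add, hp, hq]; exact add_zero _
  obtain ⟨w, hw'⟩ := (hexL z).1 hz
  intro i
  have hy : η (y₀ i) = (LinearMap.proj (R := S) (φ := fun _ : Fin d => N) i).lTensor L z := by
    rw [map_sum, Finset.sum_eq_single i]
    · rw [← LinearMap.comp_apply, ← LinearMap.lTensor_comp, LinearMap.proj_comp_single_same, LinearMap.lTensor_id,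
        LinearMap.id_apply]
    · intro j _ hj
      rw [← LinearMap.comp_apply, ← LinearMap.lTensor_comp, LinearMap.proj_comp_single_ne S _ i j hj.symm,
        LinearMap.lTensor_zero, LinearMap.zero_apply]
    · exact fun h => absurd (Finset.mem_univ i) h
  have hgoal : η (y₀ i) ∈ m • (⊤ : Submodule R (L ⊗[S] N)) := by
    rw [hy, ← hw']
    clear hw'
    induction w using TensorProduct.induction_on with
    | zero => simp
    | tmul l wk =>
      obtain ⟨s, hs, hsw⟩ := hw wk wk.2
      obtain ⟨v, hv⟩ := (hL s hs).exists_right_inv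
      show (l ⊗ₜ[S] (wk : Fin d → N) i) ∈ _
      rw [show l = s • (v * l) by rw [Algebra.smul_def, ← mul_assoc, hv, one_mul], TensorProduct.smul_tmul]
      refine Submodule.smul_induction_on (hsw i) (fun r hr n _ => ?_) fun p q hp hq => by
        rw [TensorProduct.tmul_add]; exact add_mem hp hq
      rw [← algebraMap_smul S r n, TensorProduct.tmul_smul, algebraMap_smul]
      exact Submodule.smul_mem_smul hr trivial
    | add p q hp hq => rw [map_add, map_add]; exact add_mem hp hq
  have h4 := Submodule.mem_map_of_mem (f := η.symm.toLinearMap) hgoal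
  rw [Submodule.map_smul'', LinearEquiv.coe_coe, LinearEquiv.symm_apply_apply] at h4
  exact Submodule.smul_mono le_rfl le_top h4

end AInjLib
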