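import Groth.Prelude
import Groth.Agent.DevissExLib.LocalFree
import Mathlib

/-!
# A dévissage over the local ring of an étale neighbourhood
-/

set_option autoImplicit false
set_option linter.all false

universe u

open AlgebraicGeometry CategoryTheory
open scoped TensorProduct

namespace DevissExLib

/-- A dévissage exists over the local ring of an étale neighbourhood. -/
theorem exists_local_dev {R S : Type u} [CommRing R] [CommRing S] [Algebra R S] [Algebra.FinitePresentation R S]
    (N : Type u) [AddCommGroup N] [Module S N] [Module R N] [IsScalarTower R S N] [Module.Finite S N]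
    (p : Ideal R) [p.IsPrime] (q : Ideal S) [q.IsPrime] [q.LiesOver p] :
    ∃ (R' : Type u) (_ : CommRing R') (_ : Algebra R R') (p' : Ideal R') (_ : p'.IsPrime), FlatCA.IsEtaleNhd R R' p p' ∧
      ∀ (SA NA : Type u) [CommRing SA] [Algebra R SA] [Algebra S SA] [Algebra (Localization.AtPrime p') SA]
        [IsScalarTower R S SA] [IsScalarTower R (Localization.AtPrime p') SA]
        [Algebra.IsPushout R S (Localization.AtPrime p') SA]
        [AddCommGroup NA] [Module SA NA] [Module S NA] [IsScalarTower S SA NA]
        (f : N →ₗ[S] NA), IsBaseChange SA f →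
        ∃ (C : Type u) (_ : CommRing C) (_ : Algebra SA C) (_ : Algebra (Localization.AtPrime p') C)
          (_ : IsScalarTower (Localization.AtPrime p') SA C) (_ : Algebra S C) (_ : IsScalarTower S SA C)
          (x' : Ideal C) (_ : x'.IsPrime) (hx : x'.LiesOver q),
          x'.LiesOver (IsLocalRing.maximalIdeal (Localization.AtPrime p')) ∧
          Algebra.Etale SA C ∧ Algebra.FinitePresentation (Localization.AtPrime p') C ∧
          Function.Bijective (Ideal.ResidueField.mapₐ q x' (Algebra.ofId S C) hx.over) ∧
          (Dev (Localization.AtPrime p') (IsLocalRing.maximalIdeal (Localization.AtPrime p')) C (C ⊗[SA] NA) x' ∨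
            Subsingleton (C ⊗[SA] NA)) := by
  classical
  obtain ⟨R', S', _, _, _, _, _, _, _, _, p', q', _, _, ⟨hetR, hp'p, hbR⟩, ⟨hetS, hq'q, hbS⟩, hq'p', hcase⟩ :
      ∃ (R' S' : Type u) (_ : CommRing R') (_ : CommRing S') (_ : Algebra R R') (_ : Algebra S S') (_ : Algebra R' S')
        (_ : Algebra R S') (_ : IsScalarTower R R' S') (_ : IsScalarTower R S S')
        (p' : Ideal R') (q' : Ideal S') (_ : p'.IsPrime) (_ : q'.IsPrime),
        FlatCA.IsEtaleNhd R R' p p' ∧ FlatCA.IsEtaleNhd S S' q q' ∧ q'.LiesOver p' ∧
          (Dev R' p' S' (S' ⊗[S] N) q' ∨ Subsingleton (S' ⊗[S] N)) := by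
    let e := PrimeSpectrum.preimageEquivFiber R S ⟨p, inferInstance⟩
    let x := e ⟨⟨q, inferInstance⟩, PrimeSpectrum.ext (Ideal.over_def q p).symm⟩
    let ι : S →ₐ[R] p.Fiber S := Algebra.TensorProduct.includeRight
    have hxι : x.asIdeal.comap ι.toRingHom = q := congrArg (fun w => w.1.asIdeal) (e.symm_apply_apply _)
    have hxq : x.asIdeal = FlatCA.fiberIdeal p q := by
      refine le_antisymm (fun f hf => ?_) (Ideal.map_le_iff_le_comap.2 hxι.ge)
      obtain ⟨t, ht, s, hs⟩ := FibAssLib.exists_incl_eq p f
      have hs' : s ∈ q := by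
        rw [← hxι]
        show FibAssLib.incl S p s ∈ x.asIdeal
        rw [← hs]
        exact x.asIdeal.mul_mem_left _ hf
      refine (Ideal.unit_mul_mem_iff_mem _ (FibAssLib.isUnit_incl p ht)).1 ?_
      rw [hs]
      exact Ideal.mem_map_of_mem _ hs'
    by_cases hsupp : x ∈ Module.support (p.Fiber S) (FlatCA.fiberMod p S N)
    · obtain ⟨n, hn⟩ := exists_localDim_support N p x hsupp
      obtain ⟨R', S', i1, i2, i3, i4, i5, i6, i7, i8, p', q', i9, i10, h1, h2, h3, h4⟩ :=
        exists_dev n N p q x hxq hsupp hn
      exact ⟨R', S', i1, i2, i3, i4, i5, i6, i7, i8, p', q', i9, i10, h1, h2, h3, Or.inl h4⟩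
    · rw [mem_support_fiberMod_iff] at hsupp
      have hq : (⟨q, inferInstance⟩ : PrimeSpectrum S) ∉ Module.support S N := by
        convert! hsupp using 2
        exact PrimeSpectrum.ext hxι.symm
      rw [Module.support_eq_zeroLocus, PrimeSpectrum.mem_zeroLocus, SetLike.coe_subset_coe,
        SetLike.not_le_iff_exists] at hq
      obtain ⟨f, hf, hfq⟩ := hq
      obtain ⟨q', _, hq'q, hnS⟩ := exists_away_prime f q hfq
      let S' := Localization.Away f
      haveI : p.LiesOver p := ⟨Ideal.ext fun _ => Iff.rfl⟩
      haveI : q'.LiesOver p := ⟨by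
        show p = q'.comap (algebraMap R S')
        rw [IsScalarTower.algebraMap_eq R S S', ← Ideal.comap_comap, hq'q]
        exact Ideal.over_def q p⟩
      refine ⟨R, S', inferInstance, inferInstance, inferInstance, inferInstance, inferInstance, inferInstance,
        inferInstance, inferInstance, p, q', inferInstance, inferInstance,
        ⟨inferInstance, inferInstance, bijective_mapₐ_of_surjective inferInstance fun z => ⟨z, RingHom.congr_fun
          (Ideal.ResidueField.ringHom_ext (g := RingHom.id p.ResidueField)
            (f := (Ideal.ResidueField.mapₐ p p (Algebra.ofId R R) (Ideal.over_def p p)).toRingHom)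
            (RingHom.ext fun r => by simp)) z⟩⟩, hnS, inferInstance, Or.inr (subsingleton_of_forall_eq 0 fun z => ?_)⟩
      induction z using TensorProduct.induction_on with
      | zero => rfl
      | add a b ha hb => rw [ha, hb, add_zero]
      | tmul a m =>
        obtain ⟨w, hw⟩ := IsLocalization.Away.algebraMap_isUnit (S := S') f
        rw [show a = (a * ↑w⁻¹) * algebraMap S S' f by rw [← hw, mul_assoc, Units.inv_mul, mul_one],
          ← Algebra.commutes, ← Algebra.smul_def, TensorProduct.smul_tmul, Module.mem_annihilator.1 hf,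
          TensorProduct.tmul_zero]
  haveI := hetR
  haveI := hetS
  haveI := hp'p
  haveI := hq'q
  haveI := hq'p'
  refine ⟨R', inferInstance, inferInstance, p', inferInstance, ⟨hetR, hp'p, hbR⟩, ?_⟩
  intro SA NA _ _ _ _ _ _ _ _ _ _ _ f hf
  let A := Localization.AtPrime p'
  let T := R' ⊗[R] S
  letI algST : Algebra S T := Algebra.TensorProduct.rightAlgebra
  haveI : IsScalarTower R S T := IsScalarTower.of_algebraMap_eq fun a =>
    ((Algebra.TensorProduct.includeRight : S →ₐ[R] T).commutes a).symm
  let ψ : T →ₐ[R'] S' :=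
    Algebra.TensorProduct.lift (Algebra.ofId R' S') (IsScalarTower.toAlgHom R S S') fun _ _ => Commute.all _ _
  letI algTS' : Algebra T S' := ψ.toRingHom.toAlgebra
  haveI : IsScalarTower R' T S' := IsScalarTower.of_algebraMap_eq fun a => (ψ.commutes a).symm
  haveI : IsScalarTower S T S' := IsScalarTower.of_algebraMap_eq fun a => by
    show algebraMap S S' a = ψ ((1 : R') ⊗ₜ[R] a)
    refine ((Algebra.TensorProduct.lift_tmul _ _ _ _ _).trans ?_).symm
    rw [map_one, one_mul]
    rfl
  haveI : Algebra.IsPushout R R' S T := inferInstanceAs (Algebra.IsPushout R R' S (R' ⊗[R] S))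
  haveI : Algebra.Etale S T := RingHom.etale_algebraMap.1
    (RingHom.Etale.isStableUnderBaseChange R R' S T (RingHom.etale_algebraMap.2 inferInstance))
  haveI : Algebra.Etale T S' := Algebra.Etale.of_restrictScalars S T S'
  haveI : Algebra.FinitePresentation R S' := Algebra.FinitePresentation.trans R S S'
  haveI : Algebra.FinitePresentation R' S' := Algebra.FinitePresentation.of_restrict_scalars_finitePresentation R R' S'
  letI algR'SA : Algebra R' SA := ((algebraMap A SA).comp (algebraMap R' A)).toAlgebra
  haveI : IsScalarTower R' A SA := IsScalarTower.of_algebraMap_eq fun _ => rfl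
  haveI : IsScalarTower R R' SA := IsScalarTower.of_algebraMap_eq fun a => by
    show algebraMap R SA a = algebraMap A SA (algebraMap R' A (algebraMap R R' a))
    rw [← IsScalarTower.algebraMap_apply R R' A, ← IsScalarTower.algebraMap_apply R A SA]
  let χ : T →ₐ[R'] SA :=
    Algebra.TensorProduct.lift (Algebra.ofId R' SA) (IsScalarTower.toAlgHom R S SA) fun _ _ => Commute.all _ _
  letI algTSA : Algebra T SA := χ.toRingHom.toAlgebra
  haveI : IsScalarTower R' T SA := IsScalarTower.of_algebraMap_eq fun a => (χ.commutes a).symm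
  haveI : IsScalarTower S T SA := IsScalarTower.of_algebraMap_eq fun a => by
    show algebraMap S SA a = χ ((1 : R') ⊗ₜ[R] a)
    refine ((Algebra.TensorProduct.lift_tmul _ _ _ _ _).trans ?_).symm
    rw [map_one, one_mul]
    rfl
  haveI : IsScalarTower R T SA := IsScalarTower.of_algebraMap_eq fun a => by
    rw [IsScalarTower.algebraMap_apply R R' T, ← IsScalarTower.algebraMap_apply R' T SA,
      ← IsScalarTower.algebraMap_apply R R' SA]
  haveI hpo0 : Algebra.IsPushout R A S SA := Algebra.IsPushout.symm inferInstance
  haveI hpoT : Algebra.IsPushout R' A T SA := (Algebra.IsPushout.comp_iff R R' S T).1 hpo0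
  let C := A ⊗[R'] S'
  letI algS'C : Algebra S' C := Algebra.TensorProduct.rightAlgebra
  haveI : IsScalarTower R' S' C := IsScalarTower.of_algebraMap_eq fun a =>
    ((Algebra.TensorProduct.includeRight : S' →ₐ[R'] C).commutes a).symm
  haveI hpoC : Algebra.IsPushout R' A S' C := inferInstanceAs (Algebra.IsPushout R' A S' (A ⊗[R'] S'))
  letI algTC : Algebra T C := ((algebraMap S' C).comp (algebraMap T S')).toAlgebra
  haveI : IsScalarTower T S' C := IsScalarTower.of_algebraMap_eq fun _ => rfl
  haveI : IsScalarTower R' T C := IsScalarTower.of_algebraMap_eq fun a => by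
    show algebraMap R' C a = algebraMap S' C (algebraMap T S' (algebraMap R' T a))
    rw [← IsScalarTower.algebraMap_apply R' T S', ← IsScalarTower.algebraMap_apply R' S' C]
  haveI : Algebra.IsPushout R' T A SA := hpoT.symm
  let φ : SA →ₐ[R'] C :=
    (Algebra.TensorProduct.lift (IsScalarTower.toAlgHom R' T C) (IsScalarTower.toAlgHom R' A C)
      fun _ _ => Commute.all _ _).comp
      ((Algebra.IsPushout.equiv R' T A SA).symm.toAlgHom.restrictScalars R')
  letI algSAC : Algebra SA C := φ.toRingHom.toAlgebra
  haveI : IsScalarTower A SA C := IsScalarTower.of_algebraMap_eq fun a => by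
    show algebraMap A C a = φ (algebraMap A SA a)
    have h1 : (Algebra.IsPushout.equiv R' T A SA).symm (algebraMap A SA a) = (1 : T) ⊗ₜ[R'] a := by
      rw [AlgEquiv.symm_apply_eq, Algebra.IsPushout.equiv_tmul, map_one, one_mul]
    simp [φ, h1]
  haveI : IsScalarTower T SA C := IsScalarTower.of_algebraMap_eq fun a => by
    show algebraMap T C a = φ (algebraMap T SA a)
    simp [φ]
  haveI : IsScalarTower R' S' C := inferInstance
  haveI hpoSC : Algebra.IsPushout T SA S' C := by
    haveI : Algebra.IsPushout R' T A SA := hpoT.symm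
    exact (Algebra.IsPushout.comp_iff R' T A SA).1 (hpoC.symm)|>.symm
  haveI : Algebra.IsPushout T S' SA C := hpoSC.symm
  haveI : Algebra.Etale SA C := RingHom.etale_algebraMap.1
    (RingHom.Etale.isStableUnderBaseChange T S' SA C (RingHom.etale_algebraMap.2 inferInstance))
  letI algSC : Algebra S C := ((algebraMap S' C).comp (algebraMap S S')).toAlgebra
  haveI : IsScalarTower S S' C := IsScalarTower.of_algebraMap_eq fun _ => rfl
  haveI : IsScalarTower S T C := IsScalarTower.of_algebraMap_eq fun a => by
    show algebraMap S' C (algebraMap S S' a) = algebraMap T C (algebraMap S T a)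
    rw [IsScalarTower.algebraMap_apply S T S', ← IsScalarTower.algebraMap_apply T S' C]
  haveI : IsScalarTower S SA C := IsScalarTower.of_algebraMap_eq (R := S) (S := SA) (A := C) fun a => by
    rw [IsScalarTower.algebraMap_apply S T SA, ← IsScalarTower.algebraMap_apply T SA C,
      ← IsScalarTower.algebraMap_apply S T C]
  -- the point
  let m := IsLocalRing.maximalIdeal A
  haveI : m.LiesOver p' := ⟨(IsLocalization.AtPrime.comap_maximalIdeal A p').symm⟩
  have hresA : Function.Surjective (Ideal.ResidueField.mapₐ p' m (Algebra.ofId R' A) (Ideal.over_def m p')) :=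
    ((RingHom.surjectiveOnStalks_of_isLocalization p'.primeCompl A).residueFieldMap_bijective _ _ _).2
  obtain ⟨x', hx'I, hx'm, hxq', hres⟩ := exists_prime_tensor p' m q' hresA
  haveI := hx'I
  haveI := hx'm
  haveI hx'q' : x'.LiesOver q' := ⟨hxq'⟩
  haveI hx'q : x'.LiesOver q := Ideal.LiesOver.trans x' q' q
  -- the module
  let M₀ := S' ⊗[S] N
  let M := C ⊗[SA] NA
  let g : N →ₗ[S] M := (TensorProduct.mk SA C NA 1).restrictScalars S ∘ₗ f
  have hg : IsBaseChange C g := hf.comp (TensorProduct.isBaseChange SA NA C)
  let e : C ⊗[S'] M₀ ≃ₗ[C] M :=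
    (TensorProduct.AlgebraTensorModule.cancelBaseChange S S' C C N).trans hg.equiv
  have hcase' : Dev A m C M x' ∨ Subsingleton M := by
    rcases hcase with hdev | hsub
    · haveI : IsScalarTower R' A C := inferInstance
      let f₁ : M₀ →ₗ[S'] C ⊗[S'] M₀ := TensorProduct.mk S' C M₀ 1
      have hdevA : Dev A m C (C ⊗[S'] M₀) x' :=
        hdev.baseChange' m inferInstance hresA C x' (Ideal.over_def x' m).symm hxq'.symm f₁
          (TensorProduct.isBaseChange S' M₀ C)
      exact Or.inl (Dev.congr (N := C ⊗[S'] M₀) (N₁ := M) e hdevA)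
    · haveI := hsub
      exact Or.inr e.symm.injective.subsingleton
  exact ⟨C, inferInstance, inferInstance, inferInstance, inferInstance, algSC, inferInstance, x', inferInstance,
    hx'q, hx'm, inferInstance, inferInstance, bijective_mapₐ_of_surjective hx'q
      (surjective_residue_comp q q' x' hbS.2 hres), hcase'⟩

end DevissExLib
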