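import Groth.Agent.AInjLib.Core
import Groth.Agent.AInjLib.DevIdeal
import Groth.Agent.AInjLib.Descent
import Groth.Agent.AInjLib.LocalDev
import Groth.Agent.AInjLib.FlatLoc
import Groth.Agent.DvrFlatLib.Valuative

/-!
# Flatness from injectivity modulo the maximal ideal
-/

set_option autoImplicit false
set_option linter.style.haveILetI false

universe u

open IsLocalRing
open scoped TensorProduct

namespace AInjLib

attribute [local instance] Algebra.TensorProduct.rightAlgebra

set_option maxHeartbeats 1600000 in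
/-- Injectivity modulo the maximal ideal after a base change with trivial residue extension. -/
theorem exists_hyp_baseChange {A A' S : Type u} [CommRing A] [IsLocalRing A] [CommRing A'] [IsLocalRing A']
    [Algebra A A'] (hmm : maximalIdeal A = (maximalIdeal A').comap (algebraMap A A'))
    (hdig : ∀ a : A', ∃ b : A, a - algebraMap A A' b ∈ maximalIdeal A') [CommRing S] [Algebra A S]
    (N : Type u) [AddCommGroup N] [Module S N] [Module A N] [IsScalarTower A S N]
    (M : Type u) [AddCommGroup M] [Module A M] [Module.Flat A M] (u : N →ₗ[A] M) (Q : Ideal S)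
    (hu : ∀ z : N, u z ∈ maximalIdeal A • (⊤ : Submodule A M) →
      ∃ s, s ∉ Q ∧ s • z ∈ maximalIdeal A • (⊤ : Submodule A N))
    (QA : Ideal (A' ⊗[A] S)) (hsQ : ∀ s : S, s ∉ Q → algebraMap S (A' ⊗[A] S) s ∉ QA) :
    ∃ u' : (A' ⊗[A] S) ⊗[S] N →ₗ[A'] A' ⊗[A] M, ∀ z, u' z ∈ maximalIdeal A' • (⊤ : Submodule A' (A' ⊗[A] M)) →
      ∃ s, s ∉ QA ∧ s • z ∈ maximalIdeal A' • (⊤ : Submodule A' ((A' ⊗[A] S) ⊗[S] N)) := by
  classical
  let m' := maximalIdeal A'
  let SA := A' ⊗[A] S
  let NA := SA ⊗[S] N
  haveI : Algebra.IsPushout A A' S SA := inferInstanceAs (Algebra.IsPushout A A' S (A' ⊗[A] S))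
  haveI : IsScalarTower A' SA NA := TensorProduct.isScalarTower_left
  let M' := A' ⊗[A] M
  let e := (Algebra.IsPushout.cancelBaseChange A A' S SA N)
  let u' : NA →ₗ[A'] M' := (u.baseChange A').comp e.toLinearMap
  refine ⟨u', ?_⟩
  have hdecN : ∀ z : NA, ∃ z₀ : N, z - (1 : SA) ⊗ₜ[S] z₀ ∈ m' • (⊤ : Submodule A' NA) := by
    intro z
    obtain ⟨z, rfl⟩ := e.symm.surjective z
    induction z using TensorProduct.induction_on with
    | zero => exact ⟨0, by simp⟩
    | tmul a n =>
      obtain ⟨b, hb⟩ := hdig a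
      refine ⟨b • n, ?_⟩
      have e1 : e.symm ((1 : A') ⊗ₜ[A] (b • n)) = (1 : SA) ⊗ₜ[S] (b • n) :=
        Algebra.IsPushout.cancelBaseChange_symm_tmul A A' S SA N _ _ |>.trans (by simp)
      rw [← e1, ← map_sub, ← TensorProduct.smul_tmul, ← TensorProduct.sub_tmul, Algebra.smul_def, mul_one,
        show (a - algebraMap A A' b) ⊗ₜ[A] n = (a - algebraMap A A' b) • ((1 : A') ⊗ₜ[A] n) by
          rw [TensorProduct.smul_tmul', smul_eq_mul, mul_one],
        map_smul]
      exact Submodule.smul_mem_smul hb trivial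
    | add p q hp hq =>
      obtain ⟨p₀, hp⟩ := hp
      obtain ⟨q₀, hq⟩ := hq
      exact ⟨p₀ + q₀, by rw [TensorProduct.tmul_add, map_add, add_sub_add_comm]; exact add_mem hp hq⟩
  intro z hz
  obtain ⟨z₀, hz₀⟩ := hdecN z
  have h1 : u' ((1 : SA) ⊗ₜ[S] z₀) ∈ m' • (⊤ : Submodule A' M') := by
    have h2 := Submodule.mem_map_of_mem (f := u') hz₀
    rw [Submodule.map_smul'', map_sub] at h2
    have h3 := sub_mem hz (Submodule.smul_mono le_rfl le_top h2)
    rwa [sub_sub_cancel] at h3
  rw [show u' ((1 : SA) ⊗ₜ[S] z₀) = (1 : A') ⊗ₜ[A] u z₀ by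
    show u.baseChange A' (e ((1 : SA) ⊗ₜ[S] z₀)) = _
    rw [Algebra.IsPushout.cancelBaseChange_tmul, LinearMap.baseChange_tmul]] at h1
  have h4 : u z₀ ∈ maximalIdeal A • (⊤ : Submodule A M) := by
    let j : A ⧸ maximalIdeal A →ₗ[A] A' ⧸ m' :=
      (Ideal.quotientMapₐ m' (IsScalarTower.toAlgHom A A A' : A →ₐ[A] A') hmm.le).toLinearMap
    have hj : Function.Injective j := Ideal.quotientMap_injective' (H := hmm.le) hmm.ge
    refine (LinearMap.ker_tensorProductMk (R := A) (Q := M) (I := maximalIdeal A)).le ?_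
    refine Module.Flat.rTensor_preserves_injective_linearMap (M := M) j hj ?_
    rw [map_zero, TensorProduct.mk_apply, LinearMap.rTensor_tmul]
    have h5 : ∀ t ∈ m' • (⊤ : Submodule A' M'), (Ideal.Quotient.mkₐ A m').toLinearMap.rTensor M t = 0 := fun t ht => by
      refine Submodule.smul_induction_on (p := fun t => (Ideal.Quotient.mkₐ A m').toLinearMap.rTensor M t = 0) ht
        (fun r hr t ht' => ?_) fun p q hp hq => by rw [map_add, hp, hq, add_zero]
      clear ht'
      induction t using TensorProduct.induction_on with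
      | zero => rw [smul_zero, map_zero]
      | tmul a b =>
        rw [TensorProduct.smul_tmul', LinearMap.rTensor_tmul,
          show (Ideal.Quotient.mkₐ A m').toLinearMap (r • a) = 0 from
            Ideal.Quotient.eq_zero_iff_mem.2 (Ideal.mul_mem_right _ _ hr), TensorProduct.zero_tmul]
      | add p q hp hq => rw [smul_add, map_add, hp, hq, add_zero]
    have h6 := h5 _ h1
    rw [LinearMap.rTensor_tmul] at h6
    rw [show j 1 = (Ideal.Quotient.mkₐ A m').toLinearMap (1 : A') from
      (map_one (Ideal.quotientMapₐ m' (IsScalarTower.toAlgHom A A A' : A →ₐ[A] A') hmm.le)).trans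
        (map_one (Ideal.Quotient.mkₐ A m')).symm]
    exact h6
  obtain ⟨s, hs, hsz⟩ := hu z₀ h4
  refine ⟨algebraMap S SA s, hsQ s hs, ?_⟩
  have hsm : ∀ w ∈ m' • (⊤ : Submodule A' NA), algebraMap S SA s • w ∈ m' • (⊤ : Submodule A' NA) := fun w hw =>
    Submodule.smul_induction_on hw (fun r hr n _ => by rw [smul_comm]; exact Submodule.smul_mem_smul hr trivial)
      fun p q hp hq => by rw [smul_add]; exact add_mem hp hq
  rw [← sub_add_cancel z ((1 : SA) ⊗ₜ[S] z₀), smul_add]
  refine add_mem (hsm _ hz₀) ?_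
  rw [algebraMap_smul, ← TensorProduct.tmul_smul]
  refine Submodule.smul_induction_on hsz (fun r hr n _ => ?_) fun p q hp hq => by
    rw [TensorProduct.tmul_add]; exact add_mem hp hq
  rw [← algebraMap_smul S r n, TensorProduct.tmul_smul, algebraMap_smul, ← algebraMap_smul A' r ((1 : SA) ⊗ₜ[S] n)]
  exact Submodule.smul_mem_smul (hmm.le hr) trivial

set_option maxHeartbeats 3200000 in
/-- The finitely presented case, given a dévissage over a local extension. -/
theorem flatAt_aux {A A' S : Type u} [CommRing A] [IsLocalRing A] [CommRing A'] [IsLocalRing A'] [Algebra A A']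
    [Module.Flat A A'] (hmm : maximalIdeal A = (maximalIdeal A').comap (algebraMap A A'))
    (hdig : ∀ a : A', ∃ b : A, a - algebraMap A A' b ∈ maximalIdeal A') [CommRing S] [Algebra A S]
    [Algebra.FinitePresentation A S] (N : Type u) [AddCommGroup N] [Module S N] [Module A N] [IsScalarTower A S N]
    [Module.FinitePresentation S N] (M : Type u) [AddCommGroup M] [Module A M] [Module.Flat A M]
    (u : N →ₗ[A] M) (Q : Ideal S) [Q.IsPrime]
    (hu : ∀ z : N, u z ∈ maximalIdeal A • (⊤ : Submodule A M) →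
      ∃ s, s ∉ Q ∧ s • z ∈ maximalIdeal A • (⊤ : Submodule A N))
    (hloc : ∀ (SA NA : Type u) [CommRing SA] [Algebra A SA] [Algebra S SA] [Algebra A' SA]
        [IsScalarTower A S SA] [IsScalarTower A A' SA] [Algebra.IsPushout A S A' SA]
        [AddCommGroup NA] [Module SA NA] [Module S NA] [IsScalarTower S SA NA]
        (f : N →ₗ[S] NA), IsBaseChange SA f →
        ∃ (C : Type u) (_ : CommRing C) (_ : Algebra SA C) (_ : Algebra A' C)
          (_ : IsScalarTower A' SA C) (_ : Algebra S C) (_ : IsScalarTower S SA C)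
          (x' : Ideal C) (_ : x'.IsPrime) (_ : x'.LiesOver Q),
          x'.LiesOver (maximalIdeal A') ∧
          Algebra.Etale SA C ∧ Algebra.FinitePresentation A' C ∧
          (DevissExLib.Dev A' (maximalIdeal A') C (C ⊗[SA] NA) x' ∨ Subsingleton (C ⊗[SA] NA))) :
    FlatCA.FlatAt A Q N := by
  classical
  let m' := maximalIdeal A'
  let SA := A' ⊗[A] S
  haveI : Algebra.IsPushout A A' S SA := inferInstanceAs (Algebra.IsPushout A A' S (A' ⊗[A] S))
  haveI : Algebra.IsPushout A S A' SA := Algebra.IsPushout.symm inferInstance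
  let NA := SA ⊗[S] N
  obtain ⟨C, _, _, _, _, _, _, x', _, hx, hx'm, hetC, hfpC, hcase⟩ :=
    hloc SA NA (TensorProduct.mk S SA N 1) (TensorProduct.isBaseChange S N SA)
  haveI := hx
  haveI := hx'm
  haveI := hetC
  haveI := hfpC
  let X := C ⊗[SA] NA
  haveI : IsScalarTower A' SA NA := TensorProduct.isScalarTower_left
  haveI : IsScalarTower A' C X := TensorProduct.isScalarTower_left
  letI : Algebra A C := ((algebraMap A' C).comp (algebraMap A A')).toAlgebra
  haveI : IsScalarTower A A' C := IsScalarTower.of_algebraMap_eq fun _ => rfl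
  haveI : IsScalarTower A SA C := IsScalarTower.of_algebraMap_eq fun a => by
    show algebraMap A' C (algebraMap A A' a) = algebraMap SA C (algebraMap A SA a)
    rw [IsScalarTower.algebraMap_apply A A' SA, ← IsScalarTower.algebraMap_apply A' SA C]
  haveI : IsScalarTower A S C := IsScalarTower.of_algebraMap_eq fun a => by
    rw [IsScalarTower.algebraMap_apply A SA C, IsScalarTower.algebraMap_apply A S SA,
      ← IsScalarTower.algebraMap_apply S SA C]
  let L := Localization.AtPrime x'
  haveI : Module.Flat SA C := inferInstance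
  haveI : Module.Flat C L := IsLocalization.flat L x'.primeCompl
  haveI : Module.Flat SA L := Module.Flat.trans SA C L
  let Y := LocalizedModule x'.primeCompl X
  let η : Y ≃ₗ[A'] L ⊗[SA] NA :=
    ((LocalizedModule.equivTensorProduct x'.primeCompl X).trans
      (TensorProduct.AlgebraTensorModule.cancelBaseChange SA C L L NA)).restrictScalars A'
  have hYflat : Module.Flat A' Y := by
    rcases hcase with hdev | hsub
    · obtain ⟨I, hI⟩ := exists_ideal_of_dev hdev
      haveI : Module.FinitePresentation SA NA := inferInstance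
      haveI : Module.FinitePresentation C X := inferInstance
      have hm' : m' ≠ ⊤ := (maximalIdeal.isMaximal A').ne_top
      have hIm : I ≤ m' := (hI m' hm').1 (by
        letI := Ideal.Quotient.field m'
        exact inferInstanceAs (Module.Flat (A' ⧸ m') ((A' ⧸ m') ⊗[A'] Y)))
      have hIne : I ≠ ⊤ := fun h => hm' (top_le_iff.1 (h ▸ hIm))
      obtain ⟨I₀, hfg, hI₀, hI₀'⟩ := exists_fg_le (C := C) (X := X) x' I (hIm.trans hx'm.over.le) ((hI I hIne).2 le_rfl)
      have hII : I = I₀ := le_antisymm ((hI I₀ fun h => hIne (top_le_iff.1 (h ▸ hI₀))).1 hI₀') hI₀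
      let QA : Ideal SA := x'.comap (algebraMap SA C)
      obtain ⟨u', hu'⟩ := exists_hyp_baseChange hmm hdig N M u Q hu QA fun s hs hmem => hs (hx.over.symm.le (by
        show algebraMap S C s ∈ x'
        rw [IsScalarTower.algebraMap_apply S SA C]
        exact hmem))
      have hLu : ∀ s, s ∉ QA → IsUnit (algebraMap SA L s) := fun s hs => by
        rw [IsScalarTower.algebraMap_apply SA C L]
        exact IsLocalization.map_units L (⟨_, hs⟩ : x'.primeCompl)
      haveI : QA.IsPrime := Ideal.IsPrime.comap _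
      have hbot : I = ⊥ := ideal_eq_bot (L := L) u' QA hu' hLu η I (hII ▸ hfg) hI
      exact flat_of_fq_bot ((hI ⊥ bot_ne_top).2 hbot.le)
    · haveI := hsub
      haveI : Subsingleton Y := by
        refine subsingleton_of_forall_eq 0 fun z => ?_
        induction z using LocalizedModule.induction_on with
        | h m s => rw [Subsingleton.elim m 0, LocalizedModule.zero_mk]
      infer_instance
  -- descent
  haveI : Module.Flat S L := by
    haveI : Module.Flat S SA := Module.Flat.isBaseChange (R := A) (M := A') S SA (Algebra.IsPushout.out (R := A) (S := S) (R' := A') (S' := SA))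
    exact Module.Flat.trans S SA L
  haveI : Module.Flat A' (L ⊗[SA] NA) := Module.Flat.of_linearEquiv η.symm
  haveI : Module.Flat A (L ⊗[S] N) := by
    haveI : Module.Flat A (L ⊗[SA] NA) := Module.Flat.trans A A' _
    exact Module.Flat.of_linearEquiv
      ((TensorProduct.AlgebraTensorModule.cancelBaseChange S SA L L N).restrictScalars A).symm
  let p₁ : PrimeSpectrum L := ⟨maximalIdeal L, inferInstance⟩
  have hp₁ : PrimeSpectrum.comap (algebraMap S L) p₁ = ⟨Q, inferInstance⟩ := PrimeSpectrum.ext (by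
    show (maximalIdeal L).comap (algebraMap S L) = Q
    rw [IsScalarTower.algebraMap_eq S C L, ← Ideal.comap_comap]
    exact (congrArg (Ideal.comap _) (IsLocalization.AtPrime.comap_maximalIdeal L x')).trans hx.over.symm)
  exact DvrFlatLib.mem_flatLocus_of_flat_algebra _ p₁ hp₁
    (FlatInjLib.flat_of_isLocalizedModule p₁.asIdeal.primeCompl (LocalizedModule.mkLinearMap p₁.asIdeal.primeCompl (L ⊗[S] N)))

set_option maxHeartbeats 3200000 in
/-- The finitely presented case. -/
theorem flatAt_of_injective_mod {A S : Type u} [CommRing A] [IsLocalRing A] [CommRing S] [Algebra A S]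
    [Algebra.FinitePresentation A S] (N : Type u) [AddCommGroup N] [Module S N] [Module A N] [IsScalarTower A S N]
    [Module.FinitePresentation S N] (M : Type u) [AddCommGroup M] [Module A M] [Module.Flat A M]
    (u : N →ₗ[A] M) (Q : Ideal S) [Q.IsPrime] [Q.LiesOver (maximalIdeal A)]
    (hu : ∀ z : N, u z ∈ maximalIdeal A • (⊤ : Submodule A M) →
      ∃ s, s ∉ Q ∧ s • z ∈ maximalIdeal A • (⊤ : Submodule A N)) : FlatCA.FlatAt A Q N := by
  classical
  obtain ⟨R', _, _, p', _, ⟨hetR, hp'm, hbR⟩, hloc⟩ := DevissExLib.exists_local_dev N (maximalIdeal A) Q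
  haveI := hetR
  haveI := hp'm
  let A' := Localization.AtPrime p'
  let m' := maximalIdeal A'
  haveI : Module.Flat A R' := inferInstance
  haveI : Module.Flat R' A' := IsLocalization.flat A' p'.primeCompl
  haveI : Module.Flat A A' := Module.Flat.trans A R' A'
  haveI : m'.LiesOver p' := ⟨(IsLocalization.AtPrime.comap_maximalIdeal A' p').symm⟩
  haveI hm'm : m'.LiesOver (maximalIdeal A) := Ideal.LiesOver.trans m' p' (maximalIdeal A)
  have hres : Function.Surjective (Ideal.ResidueField.map (maximalIdeal A) m' (algebraMap A A') hm'm.over) :=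
    DevissExLib.surjective_residue_comp (maximalIdeal A) p' m' hbR.2
      ((RingHom.surjectiveOnStalks_of_isLocalization p'.primeCompl A').residueFieldMap_bijective _ _ _).2
  have hdig : ∀ a : A', ∃ b : A, a - algebraMap A A' b ∈ m' := fun a => by
    obtain ⟨x, hx⟩ := hres (algebraMap A' m'.ResidueField a)
    obtain ⟨b, rfl⟩ := Ideal.algebraMap_residueField_surjective (maximalIdeal A) x
    refine ⟨b, Ideal.algebraMap_residueField_eq_zero.1 ?_⟩
    rw [map_sub, ← hx, Ideal.ResidueField.map_algebraMap, sub_self]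
  refine flatAt_aux (A' := A') hm'm.over hdig N M u Q hu ?_
  intro SA NA _ _ _ _ _ _ _ _ _ _ _ f hf
  obtain ⟨C, i1, i2, i3, i4, i5, i6, x', i7, hx, h1, h2, h3, -, h4⟩ := hloc SA NA f hf
  exact ⟨C, i1, i2, i3, i4, i5, i6, x', i7, hx, h1, h2, h3, h4⟩

set_option maxHeartbeats 1600000 in
/-- Flatness. -/
theorem flat_of_injective_mod {A B : Type u} [CommRing A] [CommRing B] [IsLocalRing A] [IsLocalRing B] [Algebra A B]
    [IsLocalHom (algebraMap A B)] [Algebra.EssFiniteType A B]
    {N M : Type u} [AddCommGroup N] [Module B N] [Module A N] [IsScalarTower A B N] [Module.Finite B N]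
    [AddCommGroup M] [Module A M] [Module.Flat A M] (u : N →ₗ[A] M)
    (hu : ∀ z : N, u z ∈ maximalIdeal A • (⊤ : Submodule A M) → z ∈ maximalIdeal A • (⊤ : Submodule A N)) :
    Module.Flat A N := by
  classical
  obtain ⟨d, π, hπ⟩ := FlatInjLib.exists_presentation A B
  let S := MvPolynomial (Fin d) A
  letI : Algebra S B := π.toRingHom.toAlgebra
  haveI : IsScalarTower A S B := IsScalarTower.of_algebraMap_eq fun a => (π.commutes a).symm
  letI : Module S N := Module.compHom N π.toRingHom
  haveI : IsScalarTower S B N := IsScalarTower.of_algebraMap_smul fun _ _ => rfl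
  haveI : IsScalarTower A S N := IsScalarTower.of_algebraMap_smul fun a n => by
    show π (algebraMap A S a) • n = a • n
    rw [AlgHom.commutes, algebraMap_smul]
  obtain ⟨r, e, he⟩ := Module.Finite.exists_fin (R := B) (M := N)
  let p : (Fin r → S) →ₗ[S] N := Fintype.linearCombination S e
  let Q : Ideal S := (maximalIdeal B).comap (algebraMap S B)
  haveI : (maximalIdeal B).LiesOver (maximalIdeal A) :=
    ⟨Ideal.ext fun a => ⟨fun ha => map_nonunit (algebraMap A B) a ha, fun ha hu' => ha (hu'.map _)⟩⟩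
  haveI : Q.LiesOver (maximalIdeal A) := ⟨by
    show maximalIdeal A = ((maximalIdeal B).comap (algebraMap S B)).comap (algebraMap A S)
    rw [Ideal.comap_comap, ← IsScalarTower.algebraMap_eq]
    exact Ideal.over_def (maximalIdeal B) (maximalIdeal A)⟩
  have hQu : ∀ s : S, s ∉ Q → IsUnit (algebraMap S B s) := fun s hs => IsLocalRing.notMem_maximalIdeal.1 hs
  have hfrac : ∀ b : B, ∃ t f : S, t ∉ Q ∧ algebraMap S B t * b = algebraMap S B f := fun b => by
    obtain ⟨t, f, ht, htf⟩ := hπ b
    exact ⟨t, f, fun h => (mem_maximalIdeal _).1 h ht, htf⟩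
  have hclear : ∀ n : N, ∃ t : S, t ∉ Q ∧ ∃ v, t • n = p v := fun n => by
    obtain ⟨c, hc⟩ := (Submodule.mem_span_range_iff_exists_fun B).1 (he ▸ (Submodule.mem_top : n ∈ (⊤ : Submodule B N)))
    choose t g ht htg using fun i => hfrac (c i)
    refine ⟨∏ i, t i, fun h => ?_, fun i => (∏ j ∈ Finset.univ.erase i, t j) * g i, ?_⟩
    · obtain ⟨i, -, hi⟩ := Ideal.IsPrime.prod_mem_iff.1 h
      exact ht i hi
    · rw [← hc, Finset.smul_sum, Fintype.linearCombination_apply]
      refine Finset.sum_congr rfl fun i _ => ?_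
      rw [← algebraMap_smul B (∏ i, t i), smul_smul, ← Finset.prod_erase_mul Finset.univ t (Finset.mem_univ i),
        map_mul, mul_assoc, htg, ← map_mul, algebraMap_smul]
  -- finitely many relations
  let Sb := MvPolynomial (Fin d) (ResidueField A)
  let red : S →+* Sb := MvPolynomial.map (residue A)
  have red_surj : Function.Surjective red := MvPolynomial.map_surjective _ residue_surjective
  let redF : (Fin r → S) → (Fin r → Sb) := fun f j => red (f j)
  let Kb : Submodule Sb (Fin r → Sb) :=
    { carrier := redF '' (LinearMap.ker p : Set (Fin r → S))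
      add_mem' := by
        rintro _ _ ⟨f, hf, rfl⟩ ⟨f', hf', rfl⟩
        exact ⟨f + f', add_mem (S := Submodule S (Fin r → S)) hf hf', funext fun j => map_add red _ _⟩
      zero_mem' := ⟨0, zero_mem (LinearMap.ker p), funext fun j => map_zero red⟩
      smul_mem' := by
        rintro a _ ⟨f, hf, rfl⟩
        obtain ⟨a, rfl⟩ := red_surj a
        exact ⟨a • f, Submodule.smul_mem (LinearMap.ker p) a hf, funext fun j => map_mul red _ _⟩ }
  obtain ⟨ν, gb, hgb⟩ := Submodule.fg_iff_exists_fin_generating_family.1 (IsNoetherian.noetherian Kb)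
  choose gl hgl hglr using fun l => (hgb ▸ Submodule.subset_span ⟨l, rfl⟩ : gb l ∈ Kb)
  let R0 : Submodule S (Fin r → S) := Submodule.span S (Set.range gl)
  have hR0 : R0 ≤ LinearMap.ker p := Submodule.span_le.2 (by rintro _ ⟨l, rfl⟩; exact hgl l)
  let N0 := (Fin r → S) ⧸ R0
  let q0 : N0 →ₗ[S] N := R0.liftQ p hR0
  haveI : Module.FinitePresentation S N0 :=
    Module.finitePresentation_of_surjective R0.mkQ R0.mkQ_surjective
      (by rw [Submodule.ker_mkQ]; exact Submodule.fg_span (Set.finite_range gl))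
  let u0 : N0 →ₗ[A] M := u ∘ₗ q0.restrictScalars A
  have hker : ∀ v ∈ LinearMap.ker p, R0.mkQ v ∈ maximalIdeal A • (⊤ : Submodule A N0) := fun v hv => by
    obtain ⟨c, hc⟩ := (Submodule.mem_span_range_iff_exists_fun Sb).1
      (hgb.ge (⟨v, hv, rfl⟩ : redF v ∈ Kb))
    choose c' hc' using fun l => red_surj (c l)
    let w := v - ∑ l, c' l • gl l
    have hw : R0.mkQ w = R0.mkQ v := by
      rw [map_sub, sub_eq_self]
      exact (Submodule.Quotient.mk_eq_zero R0).2 (sum_mem fun l _ => Submodule.smul_mem _ _ (Submodule.subset_span ⟨l, rfl⟩))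
    rw [← hw, FlatInjLib.mem_smul_top_iff_map (B := S)]
    have hwi : ∀ i, w i ∈ (maximalIdeal A).map (algebraMap A S) := fun i => by
      have hk : RingHom.ker red = (maximalIdeal A).map (algebraMap A S) := by
        rw [MvPolynomial.ker_map, IsLocalRing.ker_residue]
        rfl
      rw [← hk, RingHom.mem_ker]
      have h1 := congrFun hc i
      rw [Finset.sum_apply] at h1
      simp only [w, Pi.sub_apply, Finset.sum_apply, Pi.smul_apply, smul_eq_mul, map_sub, map_sum, map_mul]
      rw [sub_eq_zero]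
      refine h1.symm.trans (Finset.sum_congr rfl fun l _ => ?_)
      rw [hc', ← hglr l]
      rfl
    exact FlatInjLib.mem_smul_top_of_components _ R0.mkQ w hwi
  have hq0m : ∀ z : N0, q0 z ∈ maximalIdeal A • (⊤ : Submodule A N) →
      ∃ s, s ∉ Q ∧ s • z ∈ maximalIdeal A • (⊤ : Submodule A N0) := by
    intro z hz
    obtain ⟨s, hs, v, hv, hsv⟩ : ∃ s, s ∉ Q ∧ ∃ v ∈ maximalIdeal A • (⊤ : Submodule A N0), s • q0 z = q0 v := by
      refine Submodule.smul_induction_on (p := fun n => ∃ s, s ∉ Q ∧ ∃ v ∈ maximalIdeal A • (⊤ : Submodule A N0), s • n = q0 v)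
        hz (fun a ha n _ => ?_) fun n n' ⟨s, hs, v, hv, hsv⟩ ⟨s', hs', v', hv', hsv'⟩ => ?_
      · obtain ⟨t, ht, v, hv⟩ := hclear n
        exact ⟨t, ht, a • R0.mkQ v, Submodule.smul_mem_smul ha trivial, by
          rw [smul_comm, hv, LinearMap.map_smul_of_tower]; rfl⟩
      · have hsm : ∀ (c : S), ∀ w ∈ maximalIdeal A • (⊤ : Submodule A N0), c • w ∈ maximalIdeal A • (⊤ : Submodule A N0) :=
          fun c w hw => Submodule.smul_induction_on hw (fun a ha m _ => by
            rw [smul_comm]; exact Submodule.smul_mem_smul ha trivial) fun p q hp hq => by rw [smul_add]; exact add_mem hp hq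
        refine ⟨s * s', fun h => ((inferInstance : Q.IsPrime).mem_or_mem h).elim hs hs', s' • v + s • v',
          add_mem (hsm _ _ hv) (hsm _ _ hv'), ?_⟩
        rw [map_add, map_smul, map_smul, smul_add, ← hsv, ← hsv', smul_smul, smul_smul, mul_comm s' s]
    refine ⟨s, hs, ?_⟩
    obtain ⟨y, hy⟩ := R0.mkQ_surjective (s • z - v)
    have hy0 : y ∈ LinearMap.ker p := by
      rw [LinearMap.mem_ker, show p y = q0 (R0.mkQ y) from rfl, hy, map_sub, map_smul, hsv, sub_self]
    have h1 := hker y hy0
    rw [hy] at h1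
    have h2 := add_mem h1 hv
    rwa [sub_add_cancel] at h2
  have hflat : FlatCA.FlatAt A Q N0 := flatAt_of_injective_mod N0 M u0 Q fun z hz => hq0m z (hu _ hz)
  -- the local comparison
  let B' := Localization.AtPrime Q
  let N' := LocalizedModule Q.primeCompl N0
  haveI : Module.Flat A N' := hflat
  haveI : Module.Finite B' N' := inferInstance
  haveI : Algebra.EssFiniteType A B' :=
    haveI := Algebra.EssFiniteType.of_isLocalization B' Q.primeCompl
    Algebra.EssFiniteType.comp A S B'
  haveI : IsLocalHom (algebraMap A B') := ⟨fun a ha => by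
    rw [IsScalarTower.algebraMap_apply A S B', IsLocalization.AtPrime.isUnit_to_map_iff B' Q] at ha
    exact IsLocalRing.notMem_maximalIdeal.1 fun h => ha ((Ideal.over_def Q (maximalIdeal A)).le h)⟩
  have hunit : ∀ s : Q.primeCompl, IsUnit (algebraMap S (Module.End S N) s) := fun s => by
    rw [Module.End.isUnit_iff]
    obtain ⟨w, hw⟩ := hQu s s.2
    refine ⟨fun a b hab => ?_, fun a => ⟨(↑w⁻¹ : B) • a, ?_⟩⟩
    · have h2 : algebraMap S B (s : S) • a = algebraMap S B (s : S) • b := by
        simpa only [Module.algebraMap_end_apply, algebraMap_smul] using hab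
      rw [← hw] at h2
      simpa only [smul_smul, Units.inv_mul, one_smul] using congrArg ((↑w⁻¹ : B) • ·) h2
    · rw [Module.algebraMap_end_apply, ← algebraMap_smul B (s : S), ← hw, smul_smul, Units.mul_inv, one_smul]
  let l := LocalizedModule.mkLinearMap Q.primeCompl N0
  let θ : N' →ₗ[S] N := IsLocalizedModule.lift Q.primeCompl l q0 hunit
  have hθ : ∀ z, θ (l z) = q0 z := IsLocalizedModule.lift_apply Q.primeCompl l q0 hunit
  have hθs : Function.Surjective θ := fun n => by
    obtain ⟨t, ht, v, hv⟩ := hclear n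
    refine ⟨LocalizedModule.mk (R0.mkQ v) ⟨t, ht⟩, ?_⟩
    refine ((Module.End.isUnit_iff _).1 (hunit ⟨t, ht⟩)).1 ?_
    show t • θ _ = t • n
    rw [← map_smul, hv, LocalizedModule.smul'_mk, show t • R0.mkQ v = (⟨t, ht⟩ : Q.primeCompl) • R0.mkQ v from rfl,
      LocalizedModule.mk_cancel]
    exact hθ _
  have hum : ∀ z : N', (u ∘ₗ θ.restrictScalars A) z ∈ maximalIdeal A • (⊤ : Submodule A M) →
      z ∈ maximalIdeal A • (⊤ : Submodule A N') := by
    intro z hz
    have h1 := hu _ hz
    induction z using LocalizedModule.induction_on with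
    | h z₀ t =>
      have h2 : q0 z₀ ∈ maximalIdeal A • (⊤ : Submodule A N) := by
        rw [← hθ, show l z₀ = (t : S) • LocalizedModule.mk z₀ t by
          rw [LocalizedModule.smul'_mk, ← Submonoid.smul_def, LocalizedModule.mk_cancel]; rfl, map_smul]
        refine Submodule.smul_induction_on h1 (fun a ha n _ => ?_) fun p q hp hq => by rw [smul_add]; exact add_mem hp hq
        rw [smul_comm]
        exact Submodule.smul_mem_smul ha trivial
      obtain ⟨s, hs, hsz⟩ := hq0m z₀ h2
      have h3 : LocalizedModule.mk (s • z₀) (⟨s, hs⟩ * t) = LocalizedModule.mk z₀ t :=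
        LocalizedModule.mk_cancel_common_left ⟨s, hs⟩ t z₀
      rw [← h3]
      refine Submodule.smul_induction_on hsz (fun a ha n _ => ?_) fun p q hp hq => ?_
      · rw [show LocalizedModule.mk (a • n) (⟨s, hs⟩ * t) = a • LocalizedModule.mk n (⟨s, hs⟩ * t) by
          rw [← algebraMap_smul S a n, ← LocalizedModule.smul'_mk, algebraMap_smul]]
        exact Submodule.smul_mem_smul ha trivial
      · rw [show LocalizedModule.mk (p + q) (⟨s, hs⟩ * t) = LocalizedModule.mk p (⟨s, hs⟩ * t) + LocalizedModule.mk q (⟨s, hs⟩ * t) by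
          rw [LocalizedModule.mk_add_mk]; exact LocalizedModule.mk_eq.2 ⟨1, by simp [smul_add, smul_smul]⟩]
        exact add_mem hp hq
  haveI : IsScalarTower A B' N' := inferInstance
  have hinj : Function.Injective θ := (injective_iff_map_eq_zero θ).2 fun z hz => by
    have h1 : (u ∘ₗ θ.restrictScalars A) z ∈ (⊥ : Ideal A) • (⊤ : Submodule A M) := by
      rw [LinearMap.comp_apply, LinearMap.restrictScalars_apply, hz, map_zero]
      exact zero_mem _
    simpa using mem_smul_top_of_map_mem B' (u ∘ₗ θ.restrictScalars A) hum ⊥ z h1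
  exact Module.Flat.of_linearEquiv ((LinearEquiv.ofBijective θ ⟨hinj, hθs⟩).restrictScalars A).symm

end AInjLib
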