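import Groth.Agent.DevissFreeLib.Base
import Groth.Agent.FlatInjLib.FibreBasis
import Mathlib

/-!
# Flatness modulo ideals of the base
-/

set_option autoImplicit false
set_option linter.style.haveILetI false

universe u

open scoped TensorProduct

namespace AInjLib

/-- Flatness modulo an ideal of the base. -/
def FQ {A : Type u} [CommRing A] (J : Ideal A) (X : Type u) [AddCommGroup X] [Module A X] : Prop :=
  Module.Flat (A ⧸ J) ((A ⧸ J) ⊗[A] X)

variable {A : Type u} [CommRing A] {X Y F C : Type u} [AddCommGroup X] [Module A X] [AddCommGroup Y] [Module A Y]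
  [AddCommGroup F] [Module A F] [AddCommGroup C] [Module A C]

theorem fq_congr (e : X ≃ₗ[A] Y) (J : Ideal A) : FQ J X ↔ FQ J Y :=
  Module.Flat.equiv_iff (TensorProduct.AlgebraTensorModule.congr (LinearEquiv.refl (A ⧸ J) (A ⧸ J)) e)

theorem fq_of_flat [Module.Flat A X] (J : Ideal A) : FQ J X :=
  inferInstanceAs (Module.Flat (A ⧸ J) ((A ⧸ J) ⊗[A] X))

theorem fq_mono {J K : Ideal A} (h : J ≤ K) (hX : FQ J X) : FQ K X := by
  letI : Algebra (A ⧸ J) (A ⧸ K) := (Ideal.Quotient.factor h).toAlgebra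
  haveI : IsScalarTower A (A ⧸ J) (A ⧸ K) := IsScalarTower.of_algebraMap_eq fun _ => rfl
  haveI : Module.Flat (A ⧸ J) ((A ⧸ J) ⊗[A] X) := hX
  exact Module.Flat.of_linearEquiv
    (TensorProduct.AlgebraTensorModule.cancelBaseChange A (A ⧸ J) (A ⧸ K) (A ⧸ K) X).symm

theorem fq_of_subsingleton [Subsingleton X] (J : Ideal A) : FQ J X := by
  haveI : Module.Flat A X := inferInstance
  exact fq_of_flat J

theorem flat_of_fq_bot (h : FQ (⊥ : Ideal A) X) : Module.Flat A X := by
  haveI : Module.Flat (A ⧸ (⊥ : Ideal A)) ((A ⧸ (⊥ : Ideal A)) ⊗[A] X) := h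
  haveI : Module.Flat A (A ⧸ (⊥ : Ideal A)) :=
    Module.Flat.of_linearEquiv (AlgEquiv.quotientBot A A).toLinearEquiv
  haveI : Module.Flat A ((A ⧸ (⊥ : Ideal A)) ⊗[A] X) := Module.Flat.trans A (A ⧸ (⊥ : Ideal A)) _
  refine Module.Flat.of_linearEquiv (LinearEquiv.ofBijective (TensorProduct.mk A (A ⧸ (⊥ : Ideal A)) X 1)
    ⟨LinearMap.ker_eq_bot.1 ?_, TensorProduct.mk_surjective A X _ Ideal.Quotient.mk_surjective⟩)
  rw [LinearMap.ker_tensorProductMk, Submodule.bot_smul]

/-- Membership in multiples of the reduction. -/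
theorem tmul_mem_iff (J : Ideal A) (K : Ideal (A ⧸ J)) (x : X) :
    (1 : A ⧸ J) ⊗ₜ[A] x ∈ K • (⊤ : Submodule (A ⧸ J) ((A ⧸ J) ⊗[A] X)) ↔
      x ∈ K.comap (Ideal.Quotient.mk J) • (⊤ : Submodule A X) := by
  let μ := TensorProduct.mk A (A ⧸ J) X 1
  have hμ : Function.Surjective μ := TensorProduct.mk_surjective A X _ Ideal.Quotient.mk_surjective
  have hJ : J ≤ K.comap (Ideal.Quotient.mk J) := fun a ha => by
    show Ideal.Quotient.mk J a ∈ K
    rw [Ideal.Quotient.eq_zero_iff_mem.2 ha]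
    exact zero_mem _
  constructor
  · intro hx
    obtain ⟨x', hx', he⟩ : ∃ x' ∈ K.comap (Ideal.Quotient.mk J) • (⊤ : Submodule A X), μ x' = μ x := by
      refine Submodule.smul_induction_on (p := fun t => ∃ x' ∈ K.comap (Ideal.Quotient.mk J) • (⊤ : Submodule A X), μ x' = t)
        hx (fun k hk t _ => ?_) fun s t ⟨m, hm, hm'⟩ ⟨n, hn, hn'⟩ => ⟨m + n, add_mem hm hn, by rw [map_add, hm', hn']⟩
      obtain ⟨a, rfl⟩ := Ideal.Quotient.mk_surjective k
      obtain ⟨m, rfl⟩ := hμ t
      refine ⟨a • m, Submodule.smul_mem_smul hk trivial, ?_⟩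
      rw [map_smul]
      exact (algebraMap_smul (A ⧸ J) a _).symm
    rw [← sub_add_cancel x x']
    refine add_mem (Submodule.smul_mono hJ le_rfl ?_) hx'
    rw [← LinearMap.ker_tensorProductMk, LinearMap.mem_ker, map_sub]
    exact sub_eq_zero.2 he.symm
  · intro hx
    refine Submodule.smul_induction_on hx (fun a ha m _ => ?_) fun s t hs ht => by
      rw [TensorProduct.tmul_add]; exact add_mem hs ht
    rw [TensorProduct.tmul_smul, ← algebraMap_smul (A ⧸ J) a ((1 : A ⧸ J) ⊗ₜ[A] m)]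
    exact Submodule.smul_mem_smul ha trivial

/-- A quotient of a flat module is flat when the submodule meets multiples of the module in multiples. -/
theorem flat_quotient_of_inter [Module.Flat A X] (W : Submodule A X)
    (h : ∀ (I : Ideal A), ∀ x ∈ W, x ∈ I • (⊤ : Submodule A X) → x ∈ I • W) : Module.Flat A (X ⧸ W) := by
  refine Module.Flat.iff_lTensor_injective.2 fun I _ => ?_
  refine (injective_iff_map_eq_zero _).2 fun z hz => ?_
  obtain ⟨w, rfl⟩ := LinearMap.rTensor_surjective I (g := W.mkQ) (Submodule.mkQ_surjective _) z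
  let e := TensorProduct.rid A X
  have hw : W.mkQ (e (I.subtype.lTensor X w)) = 0 := by
    have h1 := congrArg (TensorProduct.rid A (X ⧸ W)) hz
    rw [map_zero, ← LinearMap.comp_apply (I.subtype.lTensor _), LinearMap.lTensor_comp_rTensor,
      ← LinearMap.rTensor_comp_lTensor, LinearMap.comp_apply] at h1
    rw [← h1]
    induction I.subtype.lTensor X w using TensorProduct.induction_on with
    | zero => simp only [map_zero]
    | tmul m a => simp [e]
    | add p q hp hq => simp only [map_add, hp, hq]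
  have hIM : e (I.subtype.lTensor X w) ∈ I • (⊤ : Submodule A X) := by
    clear hw hz
    induction w using TensorProduct.induction_on with
    | zero => simp only [map_zero]; exact zero_mem _
    | tmul m a => exact Submodule.smul_mem_smul a.2 trivial
    | add p q hp hq => simp only [map_add]; exact add_mem hp hq
  obtain ⟨v, hv⟩ : ∃ v : W ⊗[A] I, e (I.subtype.lTensor X (W.subtype.rTensor I v)) = e (I.subtype.lTensor X w) := by
    refine Submodule.smul_induction_on (h I _ ((Submodule.Quotient.mk_eq_zero _).1 hw) hIM)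
      (fun a ha y hy => ⟨⟨y, hy⟩ ⊗ₜ ⟨a, ha⟩, by simp [e]⟩) fun p q ⟨vp, hp⟩ ⟨vq, hq⟩ =>
      ⟨vp + vq, by simp only [map_add]; rw [hp, hq]⟩
  have hwv : W.subtype.rTensor I v = w :=
    Module.Flat.lTensor_preserves_injective_linearMap (M := X) I.subtype I.injective_subtype (e.injective hv)
  rw [← hwv, ← LinearMap.comp_apply, ← LinearMap.rTensor_comp,
    show W.mkQ.comp W.subtype = 0 from LinearMap.ext fun y => (Submodule.Quotient.mk_eq_zero W).2 y.2,
    LinearMap.rTensor_zero, LinearMap.zero_apply]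

section Exact

variable (f : F →ₗ[A] X) (g : X →ₗ[A] C) (hg : Function.Surjective g) (hex : Function.Exact f g)

include hg hex

/-- Flatness of a cokernel modulo an ideal. -/
theorem fq_coker (J : Ideal A) (hX : FQ J X)
    (h : ∀ (K : Ideal A), J ≤ K → ∀ y, f y ∈ K • (⊤ : Submodule A X) → y ∈ K • (⊤ : Submodule A F)) :
    FQ J C := by
  let f' := f.baseChange (A ⧸ J)
  let g' := g.baseChange (A ⧸ J)
  have hex' : Function.Exact f' g' := lTensor_exact (A ⧸ J) hex hg
  have hg' : Function.Surjective g' := LinearMap.lTensor_surjective (A ⧸ J) hg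
  haveI : Module.Flat (A ⧸ J) ((A ⧸ J) ⊗[A] X) := hX
  haveI : Module.Flat (A ⧸ J) (((A ⧸ J) ⊗[A] X) ⧸ LinearMap.range f') := by
    refine flat_quotient_of_inter _ fun K x hx hxK => ?_
    obtain ⟨y, rfl⟩ := hx
    obtain ⟨y, rfl⟩ := TensorProduct.mk_surjective A F (A ⧸ J) Ideal.Quotient.mk_surjective y
    rw [TensorProduct.mk_apply, LinearMap.baseChange_tmul, tmul_mem_iff] at hxK
    have hy := (tmul_mem_iff J K y).2 (h _ (fun a ha => by
      show Ideal.Quotient.mk J a ∈ K
      rw [Ideal.Quotient.eq_zero_iff_mem.2 ha]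
      exact zero_mem _) y hxK)
    have h2 := Submodule.mem_map_of_mem (f := f') hy
    rwa [Submodule.map_smul'', Submodule.map_top] at h2
  exact Module.Flat.of_linearEquiv (hex'.linearEquivOfSurjective hg').symm

/-- Flatness of the middle modulo an ideal. -/
theorem fq_middle (J : Ideal A) (hF : FQ J F) (hC : FQ J C)
    (h : ∀ y, f y ∈ J • (⊤ : Submodule A X) → y ∈ J • (⊤ : Submodule A F)) : FQ J X := by
  haveI : Module.Flat (A ⧸ J) ((A ⧸ J) ⊗[A] F) := hF
  haveI : Module.Flat (A ⧸ J) ((A ⧸ J) ⊗[A] C) := hC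
  refine FlatInjLib.flat_of_extension (f.baseChange (A ⧸ J)) (g.baseChange (A ⧸ J))
    ((injective_iff_map_eq_zero _).2 fun z hz => ?_) (LinearMap.lTensor_surjective (A ⧸ J) hg)
    (lTensor_exact (A ⧸ J) hex hg)
  obtain ⟨y, rfl⟩ := TensorProduct.mk_surjective A F (A ⧸ J) Ideal.Quotient.mk_surjective z
  rw [TensorProduct.mk_apply, LinearMap.baseChange_tmul] at hz
  have h1 : f y ∈ J • (⊤ : Submodule A X) := by
    rw [← LinearMap.ker_tensorProductMk]
    exact hz
  exact (LinearMap.ker_tensorProductMk (R := A) (Q := F) (I := J)).ge (h y h1)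

/-- Elements of the image in a multiple, modulo an ideal with flat cokernel. -/
theorem exists_sub_mem (J : Ideal A) (hC : FQ J C) (K : Ideal A) (hJK : J ≤ K) (y : F)
    (hy : f y ∈ K • (⊤ : Submodule A X)) :
    ∃ y' ∈ K • (⊤ : Submodule A F), f (y - y') ∈ J • (⊤ : Submodule A X) := by
  let f' := f.baseChange (A ⧸ J)
  let g' := g.baseChange (A ⧸ J)
  have hex' : Function.Exact f' g' := lTensor_exact (A ⧸ J) hex hg
  have hg' : Function.Surjective g' := LinearMap.lTensor_surjective (A ⧸ J) hg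
  haveI : Module.Flat (A ⧸ J) ((A ⧸ J) ⊗[A] C) := hC
  let Kb := K.map (Ideal.Quotient.mk J)
  have hKb : Kb.comap (Ideal.Quotient.mk J) = K := by
    rw [Ideal.comap_map_of_surjective _ Ideal.Quotient.mk_surjective, ← RingHom.ker_eq_comap_bot, Ideal.mk_ker]
    exact sup_eq_left.2 hJK
  let x : LinearMap.ker g' := ⟨f' (1 ⊗ₜ y), hex'.apply_apply_eq_zero _⟩
  have hx : x ∈ Kb • (⊤ : Submodule (A ⧸ J) (LinearMap.ker g')) :=
    DevissFreeLib.mem_smul_top_ker Kb g' hg' x (by
      show (1 : A ⧸ J) ⊗ₜ[A] f y ∈ _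
      rw [tmul_mem_iff, hKb]
      exact hy)
  obtain ⟨y', hy', he⟩ : ∃ y' ∈ K • (⊤ : Submodule A F), f' (1 ⊗ₜ y') = (x : (A ⧸ J) ⊗[A] X) := by
    refine Submodule.smul_induction_on (p := fun t : LinearMap.ker g' => ∃ y' ∈ K • (⊤ : Submodule A F), f' (1 ⊗ₜ y') = (t : (A ⧸ J) ⊗[A] X)) hx (fun k hk t _ => ?_) fun s t ⟨m, hm, hm'⟩ ⟨n, hn, hn'⟩ =>
      ⟨m + n, add_mem hm hn, by rw [TensorProduct.tmul_add, map_add, hm', hn']; rfl⟩
    obtain ⟨w, hw⟩ := (hex' _).1 (LinearMap.mem_ker.1 t.2)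
    obtain ⟨w, rfl⟩ := TensorProduct.mk_surjective A F (A ⧸ J) Ideal.Quotient.mk_surjective w
    obtain ⟨a, rfl⟩ := Ideal.Quotient.mk_surjective k
    refine ⟨a • w, Submodule.smul_mem_smul (hKb ▸ hk : a ∈ K) trivial, ?_⟩
    rw [TensorProduct.tmul_smul, LinearMap.map_smul_of_tower]
    refine (congrArg (a • ·) hw).trans ?_
    exact (algebraMap_smul (A ⧸ J) a _).symm
  refine ⟨y', hy', ?_⟩
  rw [← LinearMap.ker_tensorProductMk, LinearMap.mem_ker, TensorProduct.mk_apply, map_sub, TensorProduct.tmul_sub,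
    sub_eq_zero]
  exact he.symm

end Exact

end AInjLib
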