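import Groth.Agent.AInjLib.Basic
import Groth.Agent.AInjLib.DevTest
import Groth.Agent.AInjLib.LocalDev
import Groth.Agent.AInjLib.Descent
import Groth.Agent.FlatInjLib.Prep
import Groth.Agent.FlatLib.FibEssFP
import Groth.Agent.HenselLib.Local
import Mathlib

/-!
# The flattening ideal over a henselian local ring
-/

set_option autoImplicit false
set_option linter.style.haveILetI false

universe u

open IsLocalRing
open scoped TensorProduct

namespace AInjLib

attribute [local instance] Algebra.TensorProduct.rightAlgebra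

/-- A pushout along a surjective change of the base. -/
theorem isPushout_of_surjective {A L B A' B' : Type u} [CommRing A] [CommRing L] [CommRing B] [CommRing A'] [CommRing B']
    [Algebra A L] [Algebra A B] [Algebra A A'] [Algebra A B'] [Algebra L B] [Algebra L A'] [Algebra L B']
    [IsScalarTower A L B] [IsScalarTower A L A'] [Algebra B B'] [Algebra A' B'] [IsScalarTower A B B']
    [IsScalarTower A A' B'] [IsScalarTower L B B'] [IsScalarTower L A' B']
    (hs : Function.Surjective (algebraMap A L)) [h : Algebra.IsPushout A B A' B'] : Algebra.IsPushout L B A' B' := by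
  have hA : Algebra.IsPushout A A' B B' := h.symm
  haveI : TensorProduct.CompatibleSMul A L A' B := ⟨fun l a b => by
    obtain ⟨r, rfl⟩ := hs l
    rw [algebraMap_smul, algebraMap_smul, TensorProduct.smul_tmul]⟩
  refine Algebra.IsPushout.symm ⟨IsBaseChange.of_equiv
    ((TensorProduct.equivOfCompatibleSMul A L A' A' B) ≪≫ₗ hA.out.equiv) fun b => ?_⟩
  rw [LinearEquiv.trans_apply]
  refine (congrArg hA.out.equiv (rfl : _ = (1 : A') ⊗ₜ[A] b)).trans ?_
  rw [IsBaseChange.equiv_tmul, one_smul]
  rfl

/-- Flatness modulo an ideal is invariant under faithfully flat change of the algebra. -/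
theorem fq_iff_of_faithfullyFlat {A B0 C0 M G : Type u} [CommRing A] [CommRing B0] [CommRing C0] [Algebra A B0]
    [Algebra A C0] [Algebra B0 C0] [IsScalarTower A B0 C0] [Module.FaithfullyFlat B0 C0]
    [AddCommGroup M] [Module B0 M] [Module A M] [IsScalarTower A B0 M]
    [AddCommGroup G] [Module C0 G] [Module B0 G] [IsScalarTower B0 C0 G] [Module A G] [IsScalarTower A B0 G]
    (f : M →ₗ[B0] G) (hf : IsBaseChange C0 f) (J : Ideal A) : FQ J G ↔ FQ J M := by
  let Q := A ⧸ J
  let B1 := Q ⊗[A] B0
  let C1 := B1 ⊗[B0] C0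
  let M1 := B1 ⊗[B0] M
  let e1 := TensorProduct.AlgebraTensorModule.cancelBaseChange B0 B1 B1 C1 M
  let eM : M1 ≃ₗ[Q] Q ⊗[A] M := Algebra.IsPushout.cancelBaseChange A Q B0 B1 M
  let eG : B1 ⊗[B0] G ≃ₗ[Q] Q ⊗[A] G := Algebra.IsPushout.cancelBaseChange A Q B0 B1 G
  let e : C1 ⊗[B1] M1 ≃ₗ[B1] B1 ⊗[B0] G :=
    (TensorProduct.AlgebraTensorModule.cancelBaseChange B0 B1 B1 C1 M) ≪≫ₗ
      TensorProduct.AlgebraTensorModule.congr (LinearEquiv.refl B1 C1) (LinearEquiv.refl B0 M) ≪≫ₗ
      TensorProduct.AlgebraTensorModule.assoc B0 B0 B1 B1 C0 M ≪≫ₗ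
      TensorProduct.AlgebraTensorModule.congr (LinearEquiv.refl B1 B1) (hf.equiv.restrictScalars B0)
  show Module.Flat Q (Q ⊗[A] G) ↔ Module.Flat Q (Q ⊗[A] M)
  rw [← Module.Flat.equiv_iff eG, ← Module.Flat.equiv_iff eM, ← Module.Flat.equiv_iff (e.restrictScalars Q)]
  exact FlatInjLib.flat_baseChange_iff (R := Q) (A := B1) (B := C1) (M := M1)

/-- The same, for two base changes of one module. -/
theorem fq_iff_of_two_baseChanges {A P B0 C0 N M G : Type u} [CommRing A] [CommRing P] [CommRing B0] [CommRing C0]
    [Algebra A B0] [Algebra A C0] [Algebra P B0] [Algebra P C0] [Algebra B0 C0] [IsScalarTower A B0 C0]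
    [IsScalarTower P B0 C0] [Module.FaithfullyFlat B0 C0] [AddCommGroup N] [Module P N]
    [AddCommGroup M] [Module B0 M] [Module A M] [Module P M] [IsScalarTower A B0 M] [IsScalarTower P B0 M]
    [AddCommGroup G] [Module C0 G] [Module A G] [Module P G] [IsScalarTower A C0 G] [IsScalarTower P C0 G]
    (ι : N →ₗ[P] M) (hι : IsBaseChange B0 ι) (η : N →ₗ[P] G) (hη : IsBaseChange C0 η) (J : Ideal A) :
    FQ J G ↔ FQ J M := by
  letI : Module B0 G := Module.compHom G (algebraMap B0 C0)
  haveI : IsScalarTower B0 C0 G := IsScalarTower.of_compHom _ _ _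
  haveI : IsScalarTower P B0 G := IsScalarTower.of_algebraMap_smul fun a g => by
    show algebraMap B0 C0 (algebraMap P B0 a) • g = a • g
    rw [← IsScalarTower.algebraMap_apply, algebraMap_smul]
  haveI : IsScalarTower A B0 G := IsScalarTower.of_algebraMap_smul fun a g => by
    show algebraMap B0 C0 (algebraMap A B0 a) • g = a • g
    rw [← IsScalarTower.algebraMap_apply, algebraMap_smul]
  let k := hι.lift η
  have hk : IsBaseChange C0 k := IsBaseChange.of_comp hι (by rw [hι.lift_comp]; exact hη)
  exact fq_iff_of_faithfullyFlat k hk J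

/-- The algebra map into the local ring of an étale neighbourhood of the closed point of a henselian ring. -/
theorem bijective_henselian_nhd {A R' : Type u} [CommRing A] [HenselianLocalRing A] [CommRing R'] [Algebra A R']
    (p' : Ideal R') [p'.IsPrime] (h : FlatCA.IsEtaleNhd A R' (maximalIdeal A) p') :
    Function.Bijective (algebraMap A (Localization.AtPrime p')) := by
  obtain ⟨het, hp, hb⟩ := h
  haveI := het
  let ψ : ResidueField A →+* (maximalIdeal A).ResidueField :=
    algebraMap (A ⧸ maximalIdeal A) (maximalIdeal A).ResidueField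
  have hψ : Function.Bijective ψ := Ideal.bijective_algebraMap_quotient_residueField _
  let e₁ := RingEquiv.ofBijective ψ hψ
  let e₂ := RingEquiv.ofBijective _ hb
  obtain ⟨σ, hσ⟩ : ∃ σ : R' →ₐ[A] A, p' = (maximalIdeal A).comap σ := by
    obtain ⟨φ, hφ, -⟩ := HenselLib.existsUnique_algHom (R := A) (S := A) (B := R')
      ((e₁.symm.toRingHom.comp e₂.symm.toRingHom).comp (algebraMap R' p'.ResidueField)) (RingHom.ext fun a => by
        show e₁.symm (e₂.symm (algebraMap R' p'.ResidueField (algebraMap A R' a))) = residue A a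
        rw [RingEquiv.symm_apply_eq, RingEquiv.symm_apply_eq, ← IsScalarTower.algebraMap_apply]
        exact ((Ideal.ResidueField.mapₐ (maximalIdeal A) p' (Algebra.ofId A R') hp.over).commutes a).symm)
    refine ⟨φ, Ideal.ext fun r => ?_⟩
    rw [Ideal.mem_comap, ← residue_eq_zero_iff, hφ r]
    show r ∈ p' ↔ e₁.symm (e₂.symm (algebraMap R' p'.ResidueField r)) = 0
    rw [map_eq_zero_iff _ e₁.symm.injective, map_eq_zero_iff _ e₂.symm.injective,
      Ideal.algebraMap_residueField_eq_zero]
  letI : Algebra R' A := σ.toRingHom.toAlgebra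
  haveI : IsScalarTower A R' A := IsScalarTower.of_algebraMap_eq fun a => (σ.commutes a).symm
  haveI : Algebra.Etale R' A := Algebra.Etale.of_restrictScalars A R' A
  haveI : Module.Flat R' A := inferInstance
  let L := Localization.AtPrime p'
  have hu : ∀ s : p'.primeCompl, IsUnit (σ.toRingHom s) := fun s =>
    IsLocalRing.notMem_maximalIdeal.1 fun hh => s.2 (hσ ▸ (hh : (s : R') ∈ (maximalIdeal A).comap σ))
  let σL : L →+* A := IsLocalization.lift hu
  have hret : ∀ a, σL (algebraMap A L a) = a := fun a => by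
    rw [IsScalarTower.algebraMap_apply A R' L, IsLocalization.lift_eq]
    exact σ.commutes a
  have hker : ∀ x : R', σ x = 0 → algebraMap R' L x = 0 := fun x hx => by
    obtain ⟨c, hc, hc'⟩ : ∃ c : R', c * x = 0 ∧ σ c = 1 := by
      have h1 := mem_annihilator_smul_top (N := A) x (1 : A) (by
        show σ x * 1 = 0
        rw [hx, zero_mul])
      obtain ⟨c, hc, hc'⟩ : ∃ c ∈ (Submodule.span R' {x}).annihilator, σ c = 1 := by
        refine Submodule.smul_induction_on (p := fun t => ∃ c ∈ (Submodule.span R' {x}).annihilator, σ c = t) h1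
          (fun a ha t _ => ⟨a * algebraMap A R' t, Ideal.mul_mem_right _ _ ha, by
            rw [map_mul, σ.commutes]; rfl⟩)
          fun s t ⟨c, hc, hc'⟩ ⟨d, hd, hd'⟩ => ⟨c + d, add_mem hc hd, by rw [map_add, hc', hd']⟩
      exact ⟨c, (Submodule.mem_annihilator_span_singleton _ _).1 hc, hc'⟩
    have hcp : c ∉ p' := fun hh => (maximalIdeal.isMaximal A).ne_top
      ((Ideal.eq_top_iff_one _).2 (hc' ▸ (hσ ▸ hh : c ∈ (maximalIdeal A).comap σ)))
    exact (IsLocalization.map_eq_zero_iff p'.primeCompl L x).2 ⟨⟨c, hcp⟩, hc⟩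
  have himg : ∀ r : R', algebraMap R' L r = algebraMap A L (σ r) := fun r => by
    rw [IsScalarTower.algebraMap_apply A R' L, ← sub_eq_zero, ← map_sub]
    exact hker _ (by rw [map_sub, σ.commutes]; exact sub_self _)
  refine ⟨fun a b hab => by rw [← hret a, hab, hret b], fun z => ⟨σL z, ?_⟩⟩
  obtain ⟨r, s, rfl⟩ := IsLocalization.exists_mk'_eq p'.primeCompl z
  symm
  rw [IsLocalization.mk'_eq_iff_eq_mul, himg, himg, ← map_mul, mul_comm]
  refine congrArg (algebraMap A L) ?_
  rw [show σ (s : R') = σL (algebraMap R' L s) from (IsLocalization.lift_eq hu _).symm, ← map_mul,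
    mul_comm, IsLocalization.mk'_spec, IsLocalization.lift_eq]
  rfl

section Core

variable {A : Type u} [CommRing A] {P : Type u} [CommRing P] [Algebra A P]
  (q : Ideal P) [q.IsPrime] {N : Type u} [AddCommGroup N] [Module P N] [Module A N] [IsScalarTower A P N]
  {C : Type u} [CommRing C] [Algebra P C] [Algebra A C] [IsScalarTower A P C] [Module.Flat P C]
  (x : Ideal C) [x.IsPrime] [x.LiesOver q]
  {B M : Type u} [CommRing B] [IsLocalRing B] [Algebra A B] [Algebra P B] [IsScalarTower A P B]
  [IsLocalization.AtPrime B q]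
  [AddCommGroup M] [Module B M] [Module A M] [Module P M] [IsScalarTower A B M] [IsScalarTower P B M]
  [IsScalarTower A P M] (ι : N →ₗ[P] M) [IsLocalizedModule q.primeCompl ι]

include q ι B in
/-- Flatness modulo ideals may be tested upstairs, for any models. -/
theorem fq_upstairs_gen {C0 G : Type u} [CommRing C0] [IsLocalRing C0] [Algebra C C0] [Algebra P C0] [Algebra A C0] [IsScalarTower P C C0]
    [IsScalarTower A C C0] [IsLocalization.AtPrime C0 x] [AddCommGroup G] [Module C G] [Module C0 G] [Module A G] [Module P G]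
    [IsScalarTower C C0 G] [IsScalarTower A C0 G] [IsScalarTower P C0 G] [IsScalarTower P C G]
    (g : C ⊗[P] N →ₗ[C] G) [IsLocalizedModule x.primeCompl g] (J : Ideal A) : FQ J G ↔ FQ J M := by
  haveI : Module.Flat C C0 := IsLocalization.flat C0 x.primeCompl
  letI : Algebra B C0 := (IsLocalization.lift (M := q.primeCompl) (S := B) (g := algebraMap P C0) fun s => by
    rw [IsScalarTower.algebraMap_apply P C C0]
    exact IsLocalization.map_units C0 (⟨algebraMap P C s, fun h => s.2 (by
      exact (Ideal.over_def x q).ge h)⟩ : x.primeCompl)).toAlgebra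
  haveI : IsScalarTower P B C0 := IsScalarTower.of_algebraMap_eq fun a => (IsLocalization.lift_eq _ a).symm
  haveI : IsScalarTower A B C0 := IsScalarTower.of_algebraMap_eq fun a => by
    rw [IsScalarTower.algebraMap_apply A P B, ← IsScalarTower.algebraMap_apply P B C0,
      IsScalarTower.algebraMap_apply A C C0, IsScalarTower.algebraMap_apply A P C, ← IsScalarTower.algebraMap_apply P C C0]
  haveI : Module.Flat P C0 := Module.Flat.trans P C C0
  haveI : Module.Flat B C0 := (Module.flat_iff_of_isLocalization B q.primeCompl C0).2 ‹_›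
  haveI : IsLocalHom (algebraMap B C0) := ⟨fun b hb => by
    obtain ⟨a, s, rfl⟩ := IsLocalization.exists_mk'_eq q.primeCompl b
    refine (IsLocalization.AtPrime.isUnit_mk'_iff B q a s).2 fun ha => ?_
    have h1 : IsUnit (algebraMap P C0 a) := by
      rw [IsScalarTower.algebraMap_apply P B C0, ← IsLocalization.mk'_spec B a s, map_mul]
      exact hb.mul ((IsLocalization.map_units B s).map _)
    rw [IsScalarTower.algebraMap_apply P C C0] at h1
    exact (IsLocalization.AtPrime.isUnit_to_map_iff C0 x _).1 h1 ((Ideal.over_def x q).le ha)⟩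
  haveI : Module.FaithfullyFlat B C0 := Module.FaithfullyFlat.of_flat_of_isLocalHom
  let η : N →ₗ[P] G := g.restrictScalars P ∘ₗ TensorProduct.mk P C N 1
  have hη : IsBaseChange C0 η :=
    (TensorProduct.isBaseChange P N C).comp
      (IsLocalizedModule.isBaseChange x.primeCompl C0 g)
  have hι : IsBaseChange B ι := IsLocalizedModule.isBaseChange q.primeCompl B ι
  exact fq_iff_of_two_baseChanges (B0 := B) (C0 := C0) ι hι η hη J

include q ι B in
/-- Flatness modulo ideals may be tested upstairs. -/
theorem fq_upstairs_iff (J : Ideal A) : FQ J (LocalizedModule x.primeCompl (C ⊗[P] N)) ↔ FQ J M :=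
  fq_upstairs_gen (A := A) (B := B) q x ι (C0 := Localization.AtPrime x) (G := LocalizedModule x.primeCompl (C ⊗[P] N))
    (LocalizedModule.mkLinearMap x.primeCompl (C ⊗[P] N)) J

include q ι B in
/-- Flatness at the primes over both closed points passes upstairs. -/
theorem fAt_of_test {A' B' M' : Type u} [CommRing A'] [IsLocalRing A'] [Algebra A A']
    [CommRing B'] [Algebra B B'] [Algebra A' B'] [Algebra A B'] [IsScalarTower A B B'] [IsScalarTower A A' B']
    [Algebra.IsPushout A B A' B']
    [AddCommGroup M'] [Module B' M'] [Module B M'] [IsScalarTower B B' M'] [Module A' M'] [IsScalarTower A' B' M']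
    (f : M →ₗ[B] M') (hf : IsBaseChange B' f)
    (hflat : ∀ (q' : Ideal B') [q'.IsPrime], (maximalIdeal A').map (algebraMap A' B') ⊔ (maximalIdeal B).map (algebraMap B B') ≤ q' →
      FlatCA.FlatAt A' q' M') : FAt A A' C (C ⊗[P] N) x := by
  intro t ht h1 h2
  have hι : IsBaseChange B ι := IsLocalizedModule.isBaseChange q.primeCompl B ι
  let P' := A' ⊗[A] P
  let C' := A' ⊗[A] C
  let φ := Algebra.TensorProduct.map (AlgHom.id A' A') (IsScalarTower.toAlgHom A P C)
  letI := φ.toRingHom.toAlgebra
  letI algPC' : Algebra P C' := ((algebraMap C C').comp (algebraMap P C)).toAlgebra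
  haveI : IsScalarTower P C C' := IsScalarTower.of_algebraMap_eq fun _ => rfl
  haveI : IsScalarTower P P' C' := IsScalarTower.of_algebraMap_eq fun a => by
    show (1 : A') ⊗ₜ algebraMap P C a = φ ((1 : A') ⊗ₜ a)
    simp [φ]
  haveI : IsScalarTower A' P' C' := IsScalarTower.of_algebraMap_eq fun a => (φ.commutes a).symm
  haveI : IsScalarTower A P' C' := IsScalarTower.of_algebraMap_eq fun a => by
    rw [IsScalarTower.algebraMap_apply A A' P', ← IsScalarTower.algebraMap_apply A' P' C',
      ← IsScalarTower.algebraMap_apply]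
  haveI : Algebra.IsPushout A P A' P' := inferInstance
  haveI : Algebra.IsPushout A C A' C' := inferInstance
  haveI : Algebra.IsPushout P C P' C' := (Algebra.IsPushout.comp_iff A P A' P').1 inferInstance
  haveI : Module.Flat P' C' := by
    haveI : Algebra.IsPushout P P' C C' := Algebra.IsPushout.symm inferInstance
    exact Module.Flat.isBaseChange P P' C C' (Algebra.IsPushout.out)
  let u : Ideal P' := t.comap (algebraMap P' C')
  haveI : t.LiesOver u := ⟨rfl⟩
  have hu1 : u.comap (algebraMap A' P') = maximalIdeal A' := by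
    rw [Ideal.comap_comap, ← IsScalarTower.algebraMap_eq, h1]
  have hu2 : u.comap (algebraMap P P') = q := by
    rw [Ideal.comap_comap, ← IsScalarTower.algebraMap_eq, IsScalarTower.algebraMap_eq P C C',
      ← Ideal.comap_comap, h2]
    exact (Ideal.over_def x q).symm
  let N' := P' ⊗[P] N
  suffices hN' : FlatCA.FlatAt A' u N' by
    let j : N' →ₗ[P'] C' ⊗[C] (C ⊗[P] N) := (TensorProduct.isBaseChange P N P').lift
      ((TensorProduct.mk C C' (C ⊗[P] N) 1).restrictScalars P ∘ₗ TensorProduct.mk P C N 1)
    have hj : IsBaseChange C' j := IsBaseChange.of_comp (TensorProduct.isBaseChange P N P') (by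
      rw [IsBaseChange.lift_comp]
      exact (TensorProduct.isBaseChange P N C).comp (TensorProduct.isBaseChange C (C ⊗[P] N) C'))
    exact (FlatInjLib.flatAt_iff_of_isBaseChange j hj u t).2 hN'
  -- downstairs
  letI algPB' : Algebra P B' := ((algebraMap B B').comp (algebraMap P B)).toAlgebra
  haveI : IsScalarTower P B B' := IsScalarTower.of_algebraMap_eq fun _ => rfl
  haveI : IsScalarTower A P B' := IsScalarTower.of_algebraMap_eq fun a => by
    show algebraMap A B' a = algebraMap B B' (algebraMap P B (algebraMap A P a))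
    rw [← IsScalarTower.algebraMap_apply A P B, ← IsScalarTower.algebraMap_apply]
  let ψ : P' →ₐ[A'] B' :=
    Algebra.TensorProduct.lift (Algebra.ofId A' B') (IsScalarTower.toAlgHom A P B') fun _ _ => Commute.all _ _
  letI := ψ.toRingHom.toAlgebra
  haveI : IsScalarTower A' P' B' := IsScalarTower.of_algebraMap_eq fun a => (ψ.commutes a).symm
  haveI : IsScalarTower P P' B' := IsScalarTower.of_algebraMap_eq fun a => by
    show algebraMap P B' a = ψ ((1 : A') ⊗ₜ a)
    refine ((Algebra.TensorProduct.lift_tmul _ _ _ _ _).trans ?_).symm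
    rw [map_one, one_mul]
    rfl
  haveI : IsScalarTower A P' B' := IsScalarTower.of_algebraMap_eq fun a => by
    rw [IsScalarTower.algebraMap_apply A A' P', ← IsScalarTower.algebraMap_apply A' P' B',
      ← IsScalarTower.algebraMap_apply]
  haveI : Algebra.IsPushout P B P' B' := (Algebra.IsPushout.comp_iff A P A' P').1 inferInstance
  haveI hloc : IsLocalization (Algebra.algebraMapSubmonoid P' q.primeCompl) B' :=
    (Algebra.isLocalization_iff_isPushout (R := P) q.primeCompl B).2 (Algebra.IsPushout.symm inferInstance)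
  haveI : Module.Flat P' B' := IsLocalization.flat B' (Algebra.algebraMapSubmonoid P' q.primeCompl)
  have hdisj : Disjoint (Algebra.algebraMapSubmonoid P' q.primeCompl : Set P') (u : Set P') := by
    rw [Set.disjoint_left]
    rintro _ ⟨s, hs, rfl⟩ hsu
    exact hs (hu2 ▸ (hsu : s ∈ u.comap (algebraMap P P')))
  let q' : Ideal B' := u.map (algebraMap P' B')
  haveI : q'.IsPrime := IsLocalization.isPrime_of_isPrime_disjoint _ _ u inferInstance hdisj
  haveI : q'.LiesOver u :=
    ⟨(IsLocalization.under_map_of_isPrime_disjoint _ B' inferInstance hdisj).symm⟩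
  letI : Module P' M' := Module.compHom M' ψ.toRingHom
  haveI : IsScalarTower P' B' M' := IsScalarTower.of_compHom _ _ _
  letI : Module P M' := Module.compHom M' (algebraMap P B)
  haveI : IsScalarTower P B M' := IsScalarTower.of_compHom _ _ _
  haveI : IsScalarTower P P' M' := IsScalarTower.of_algebraMap_smul fun a m => by
    show algebraMap P' B' (algebraMap P P' a) • m = algebraMap P B a • m
    rw [← IsScalarTower.algebraMap_apply, IsScalarTower.algebraMap_apply P B B', algebraMap_smul]
  haveI : IsScalarTower A' P' M' := IsScalarTower.of_algebraMap_smul fun a m => by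
    show algebraMap P' B' (algebraMap A' P' a) • m = a • m
    rw [← IsScalarTower.algebraMap_apply, algebraMap_smul]
  haveI : IsScalarTower P B' M' := IsScalarTower.of_algebraMap_smul fun a m => by
    show algebraMap B B' (algebraMap P B a) • m = algebraMap P B a • m
    rw [algebraMap_smul]
  let i : N' →ₗ[P'] M' := (TensorProduct.isBaseChange P N P').lift (f.restrictScalars P ∘ₗ ι)
  have hi : IsBaseChange B' i := IsBaseChange.of_comp (TensorProduct.isBaseChange P N P') (by
    rw [IsBaseChange.lift_comp]; exact hι.comp hf)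
  refine (FlatInjLib.flatAt_iff_of_isBaseChange i hi u q').1 (hflat q' (sup_le ?_ ?_))
  · rw [Ideal.map_le_iff_le_comap, IsScalarTower.algebraMap_eq A' P' B', ← Ideal.comap_comap,
      show q'.comap (algebraMap P' B') = u from (Ideal.over_def q' u).symm, hu1]
  · rw [← IsLocalization.AtPrime.map_eq_maximalIdeal q B, Ideal.map_map, ← IsScalarTower.algebraMap_eq,
      IsScalarTower.algebraMap_eq P P' B', ← Ideal.map_map]
    exact Ideal.map_mono (Ideal.map_le_iff_le_comap.2 hu2.ge)

omit [IsLocalRing B] in
/-- Flatness modulo the kernel gives flatness after base change. -/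
theorem flat_of_fq_ker {A' B' M' : Type u} [CommRing A'] [Algebra A A']
    [CommRing B'] [Algebra B B'] [Algebra A' B'] [Algebra A B'] [IsScalarTower A B B'] [IsScalarTower A A' B']
    [Algebra.IsPushout A B A' B']
    [AddCommGroup M'] [Module B' M'] [Module B M'] [IsScalarTower B B' M'] [Module A' M'] [IsScalarTower A' B' M']
    (f : M →ₗ[B] M') (hf : IsBaseChange B' f) (h : FQ (RingHom.ker (algebraMap A A')) M) : Module.Flat A' M' := by
  haveI : Algebra.IsPushout A A' B B' := Algebra.IsPushout.symm inferInstance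
  let J := RingHom.ker (algebraMap A A')
  letI : Algebra (A ⧸ J) A' := (Ideal.Quotient.lift J (algebraMap A A') fun a ha => ha).toAlgebra
  haveI : IsScalarTower A (A ⧸ J) A' := IsScalarTower.of_algebraMap_eq fun _ => rfl
  haveI : Module.Flat (A ⧸ J) ((A ⧸ J) ⊗[A] M) := h
  haveI : Module.Flat A' (A' ⊗[A] M) :=
    Module.Flat.of_linearEquiv
      (TensorProduct.AlgebraTensorModule.cancelBaseChange A (A ⧸ J) A' A' M).symm
  haveI : Module.Flat A' (B' ⊗[B] M) :=
    Module.Flat.of_linearEquiv (Algebra.IsPushout.cancelBaseChange A A' B B' M)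
  exact Module.Flat.of_linearEquiv (hf.equiv.restrictScalars A').symm

end Core

set_option maxHeartbeats 1600000 in
/-- The flattening ideal, given a dévissage over an étale neighbourhood upstairs. -/
theorem exists_ideal_core {A : Type u} [CommRing A] [IsLocalRing A] {P : Type u} [CommRing P] [Algebra A P]
    (q : Ideal P) [q.IsPrime] {N : Type u} [AddCommGroup N] [Module P N] [Module A N] [IsScalarTower A P N]
    {C : Type u} [CommRing C] [Algebra P C] [Algebra A C] [IsScalarTower A P C] [Module.Flat P C]
    (x : Ideal C) [x.IsPrime] [x.LiesOver q] (hx : x.comap (algebraMap A C) = maximalIdeal A)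
    (hdev : DevissExLib.Dev A (maximalIdeal A) C (C ⊗[P] N) x ∨ Subsingleton (C ⊗[P] N))
    {B M : Type u} [CommRing B] [IsLocalRing B] [Algebra A B] [Algebra P B] [IsScalarTower A P B]
    [IsLocalization.AtPrime B q]
    [AddCommGroup M] [Module B M] [Module A M] [Module P M] [IsScalarTower A B M] [IsScalarTower P B M]
    [IsScalarTower A P M] (ι : N →ₗ[P] M) [IsLocalizedModule q.primeCompl ι] :
    ∃ I : Ideal A, I ≠ ⊤ ∧ FQ I M ∧ (∀ J : Ideal A, J ≠ ⊤ → FQ J M → I ≤ J) ∧
      ∀ (A' B' M' : Type u) [CommRing A'] [IsLocalRing A'] [Algebra A A'] [IsLocalHom (algebraMap A A')]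
        [CommRing B'] [Algebra B B'] [Algebra A' B'] [Algebra A B'] [IsScalarTower A B B'] [IsScalarTower A A' B']
        [Algebra.IsPushout A B A' B']
        [AddCommGroup M'] [Module B' M'] [Module B M'] [IsScalarTower B B' M'] [Module A' M'] [IsScalarTower A' B' M']
        (f : M →ₗ[B] M'), IsBaseChange B' f →
        ((∀ (q' : Ideal B') [q'.IsPrime], (maximalIdeal A').map (algebraMap A' B') ⊔ (maximalIdeal B).map (algebraMap B B') ≤ q' →
            FlatCA.FlatAt A' q' M') ↔ I.map (algebraMap A A') = ⊥) := by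
  classical
  let NC := C ⊗[P] N
  obtain ⟨I₀, hI₀⟩ : ∃ I : Ideal A, ∀ J : Ideal A, J ≠ ⊤ → (FQ J (LocalizedModule x.primeCompl NC) ↔ I ≤ J) := by
    rcases hdev with h | h
    · exact exists_ideal_of_dev h
    · refine ⟨⊥, fun J _ => ⟨fun _ => bot_le, fun _ => ?_⟩⟩
      haveI : Subsingleton (LocalizedModule x.primeCompl NC) := subsingleton_of_forall_eq 0 fun z => by
        induction z using LocalizedModule.induction_on with
        | h m s => rw [Subsingleton.elim m 0, LocalizedModule.zero_mk]
      exact fq_of_subsingleton J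
  let G := LocalizedModule x.primeCompl NC
  have hiff : ∀ J : Ideal A, FQ J G ↔ FQ J M := fun J => fq_upstairs_iff (B := B) q x ι J
  -- a proper ideal
  have hm : FQ (maximalIdeal A) M := by
    haveI : (maximalIdeal A).IsMaximal := inferInstance
    letI := Ideal.Quotient.field (maximalIdeal A)
    exact (inferInstance : Module.Flat (A ⧸ maximalIdeal A) ((A ⧸ maximalIdeal A) ⊗[A] M))
  have hI₀m : I₀ ≤ maximalIdeal A := (hI₀ _ (maximalIdeal.isMaximal A).ne_top).1 ((hiff _).2 hm)
  have hI₀top : I₀ ≠ ⊤ := fun h => (maximalIdeal.isMaximal A).ne_top (top_le_iff.1 (h ▸ hI₀m))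
  refine ⟨I₀, hI₀top, (hiff _).1 ((hI₀ _ hI₀top).2 le_rfl), fun J hJ h => (hI₀ J hJ).1 ((hiff J).2 h), ?_⟩
  intro A' B' M' _ _ _ _ _ _ _ _ _ _ _ _ _ _ _ _ _ f hf
  let J := RingHom.ker (algebraMap A A')
  have hJ : J ≠ ⊤ := RingHom.ker_ne_top _
  rw [Ideal.map_eq_bot_iff_le_ker]
  constructor
  · intro hflat
    refine (hI₀ J hJ).1 ?_
    rcases hdev with hdev | hsub
    swap
    · haveI : Subsingleton G := subsingleton_of_forall_eq 0 fun z => by
        induction z using LocalizedModule.induction_on with
        | h m s => rw [Subsingleton.elim m 0, LocalizedModule.zero_mk]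
      exact fq_of_subsingleton J
    exact fq_of_fAt hdev (fAt_of_test q x ι f hf hflat)
  · intro hIJ q' _ _
    haveI : Module.Flat A' M' := flat_of_fq_ker f hf ((hiff J).1 ((hI₀ J hJ).2 hIJ))
    exact FlatInjLib.flat_of_isLocalizedModule q'.primeCompl (LocalizedModule.mkLinearMap q'.primeCompl M')

set_option maxHeartbeats 1600000 in
/-- The flattening ideal of a localised finite module over a henselian base. -/
theorem exists_ideal_henselian {A : Type u} [CommRing A] [HenselianLocalRing A] {P : Type u} [CommRing P]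
    [Algebra A P] [Algebra.FinitePresentation A P] (q : Ideal P) [q.IsPrime]
    (hq : q.comap (algebraMap A P) = maximalIdeal A)
    {N : Type u} [AddCommGroup N] [Module P N] [Module A N] [IsScalarTower A P N] [Module.Finite P N]
    {B M : Type u} [CommRing B] [IsLocalRing B] [Algebra A B] [Algebra P B] [IsScalarTower A P B]
    [IsLocalization.AtPrime B q]
    [AddCommGroup M] [Module B M] [Module A M] [Module P M] [IsScalarTower A B M] [IsScalarTower P B M]
    [IsScalarTower A P M] (ι : N →ₗ[P] M) [IsLocalizedModule q.primeCompl ι] :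
    ∃ I : Ideal A, I ≠ ⊤ ∧ FQ I M ∧ (∀ J : Ideal A, J ≠ ⊤ → FQ J M → I ≤ J) ∧
      ∀ (A' B' M' : Type u) [CommRing A'] [IsLocalRing A'] [Algebra A A'] [IsLocalHom (algebraMap A A')]
        [CommRing B'] [Algebra B B'] [Algebra A' B'] [Algebra A B'] [IsScalarTower A B B'] [IsScalarTower A A' B']
        [Algebra.IsPushout A B A' B']
        [AddCommGroup M'] [Module B' M'] [Module B M'] [IsScalarTower B B' M'] [Module A' M'] [IsScalarTower A' B' M']
        (f : M →ₗ[B] M'), IsBaseChange B' f →
        ((∀ (q' : Ideal B') [q'.IsPrime], (maximalIdeal A').map (algebraMap A' B') ⊔ (maximalIdeal B).map (algebraMap B B') ≤ q' →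
            FlatCA.FlatAt A' q' M') ↔ I.map (algebraMap A A') = ⊥) := by
  haveI : q.LiesOver (maximalIdeal A) := ⟨hq.symm⟩
  obtain ⟨R', _, _, p', _, hnhd, hdev⟩ := DevissExLib.exists_local_dev N (maximalIdeal A) q
  let L := Localization.AtPrime p'
  have hbij : Function.Bijective (algebraMap A L) := bijective_henselian_nhd p' hnhd
  let e : A ≃+* L := RingEquiv.ofBijective _ hbij
  have he : ∀ a, e.symm (algebraMap A L a) = a := e.symm_apply_apply
  letI : Algebra L P := ((algebraMap A P).comp e.symm.toRingHom).toAlgebra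
  haveI : IsScalarTower A L P := IsScalarTower.of_algebraMap_eq fun a => by
    show algebraMap A P a = algebraMap A P (e.symm (algebraMap A L a))
    rw [he]
  haveI : Algebra.IsPushout A P L P := (Algebra.IsPushout.of_bijective_left (R := A) (T := P) (A := L) hbij)
  obtain ⟨C, iC, aSA, aL, tL, aS, tS, x, hxp, hxq, hxL, het, -, -, hd⟩ :=
    hdev P N LinearMap.id (IsBaseChange.ofEquiv (LinearEquiv.refl P N))
  obtain rfl : aS = aSA := Algebra.algebra_ext _ _ fun r => by
    rw [@IsScalarTower.algebraMap_apply P P C _ _ _ _ aSA aS tS r]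
    rfl
  haveI := het
  haveI := hxL
  letI : Algebra L B := ((algebraMap A B).comp e.symm.toRingHom).toAlgebra
  haveI : IsScalarTower A L B := IsScalarTower.of_algebraMap_eq fun a => by
    show algebraMap A B a = algebraMap A B (e.symm (algebraMap A L a))
    rw [he]
  haveI : IsScalarTower L P B := IsScalarTower.of_algebraMap_eq fun l => by
    show algebraMap A B (e.symm l) = algebraMap P B (algebraMap A P (e.symm l))
    rw [← IsScalarTower.algebraMap_apply]
  letI : Module L N := Module.compHom N e.symm.toRingHom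
  letI : Module L M := Module.compHom M e.symm.toRingHom
  haveI : IsScalarTower L P N := IsScalarTower.of_algebraMap_smul fun l n => by
    show algebraMap A P (e.symm l) • n = e.symm l • n
    rw [algebraMap_smul]
  haveI : IsScalarTower L B M := IsScalarTower.of_algebraMap_smul fun l n => by
    show algebraMap A B (e.symm l) • n = e.symm l • n
    rw [algebraMap_smul]
  haveI : IsScalarTower L P M := IsScalarTower.of_algebraMap_smul fun l n => by
    show algebraMap A P (e.symm l) • n = e.symm l • n
    rw [algebraMap_smul]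
  haveI : x.LiesOver q := by assumption
  obtain ⟨I, hItop, hIfq, hImin, hItest⟩ :=
    exists_ideal_core (A := L) q x (Ideal.over_def x (maximalIdeal L)).symm hd (B := B) (M := M) ι
  have hs : Function.Surjective (algebraMap A L) := hbij.2
  -- change of the base ring
  have key : ∀ J : Ideal L, (FQ (J.comap (algebraMap A L)) M ↔ FQ J M) := fun J => by
    let J₀ := J.comap (algebraMap A L)
    let eq : A ⧸ J₀ →+* L ⧸ J := Ideal.quotientMap J (algebraMap A L) le_rfl
    have heq : Function.Bijective eq := ⟨Ideal.quotientMap_injective, fun z => by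
      obtain ⟨l, rfl⟩ := Ideal.Quotient.mk_surjective z
      obtain ⟨a, rfl⟩ := hs l
      exact ⟨Ideal.Quotient.mk _ a, rfl⟩⟩
    letI : Algebra (A ⧸ J₀) (L ⧸ J) := eq.toAlgebra
    haveI : IsScalarTower A (A ⧸ J₀) (L ⧸ J) := IsScalarTower.of_algebraMap_eq fun _ => rfl
    haveI : IsScalarTower A L M := IsScalarTower.of_algebraMap_smul fun a m => by
      show e.symm (algebraMap A L a) • m = a • m
      rw [he]
    haveI : TensorProduct.CompatibleSMul A L (L ⧸ J) M := ⟨fun l a b => by
      obtain ⟨r, rfl⟩ := hs l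
      rw [algebraMap_smul, algebraMap_smul, TensorProduct.smul_tmul]⟩
    let eLA : (L ⧸ J) ⊗[L] M ≃ₗ[L ⧸ J] (L ⧸ J) ⊗[A] M := TensorProduct.equivOfCompatibleSMul A L (L ⧸ J) (L ⧸ J) M
    let ecan := TensorProduct.AlgebraTensorModule.cancelBaseChange A (A ⧸ J₀) (L ⧸ J) (L ⧸ J) M
    show Module.Flat (A ⧸ J₀) ((A ⧸ J₀) ⊗[A] M) ↔ Module.Flat (L ⧸ J) ((L ⧸ J) ⊗[L] M)
    rw [Module.Flat.equiv_iff eLA, ← Module.Flat.equiv_iff ecan]
    haveI : Module.FaithfullyFlat (A ⧸ J₀) (L ⧸ J) :=
      Module.FaithfullyFlat.of_linearEquiv (A ⧸ J₀) (A ⧸ J₀) (LinearEquiv.ofBijective (Algebra.linearMap (A ⧸ J₀) (L ⧸ J)) heq).symm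
    exact (Module.Flat.iff_flat_tensorProduct (A ⧸ J₀) ((A ⧸ J₀) ⊗[A] M) (L ⧸ J)).symm
  refine ⟨I.comap (algebraMap A L), fun h => hItop (by
      rw [← Ideal.map_comap_of_surjective _ hs I, h, Ideal.map_top]), (key I).2 hIfq, fun J hJ h => ?_, ?_⟩
  · have hJc : (J.map (algebraMap A L)).comap (algebraMap A L) = J := by
      rw [Ideal.comap_map_of_surjective _ hs, ← RingHom.ker_eq_comap_bot,
        (RingHom.injective_iff_ker_eq_bot _).1 hbij.1, sup_bot_eq]
    have h1 : I ≤ J.map (algebraMap A L) := hImin _ (fun ht => hJ (by rw [← hJc, ht, Ideal.comap_top]))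
      ((key _).1 (by rw [hJc]; exact h))
    exact hJc ▸ Ideal.comap_mono h1
  intro A' B' M' _ _ _ _ _ _ _ _ _ _ _ _ _ _ _ _ _ f hf
  letI : Algebra L A' := ((algebraMap A A').comp e.symm.toRingHom).toAlgebra
  letI : Algebra L B' := ((algebraMap A B').comp e.symm.toRingHom).toAlgebra
  haveI : IsScalarTower A L A' := IsScalarTower.of_algebraMap_eq fun a => by
    show algebraMap A A' a = algebraMap A A' (e.symm (algebraMap A L a))
    rw [he]
  haveI : IsScalarTower L B B' := IsScalarTower.of_algebraMap_eq fun l => by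
    show algebraMap A B' (e.symm l) = algebraMap B B' (algebraMap A B (e.symm l))
    rw [← IsScalarTower.algebraMap_apply]
  haveI : IsScalarTower L A' B' := IsScalarTower.of_algebraMap_eq fun l => by
    show algebraMap A B' (e.symm l) = algebraMap A' B' (algebraMap A A' (e.symm l))
    rw [← IsScalarTower.algebraMap_apply]
  haveI : IsLocalHom (algebraMap L A') := ⟨fun l hl => by
    obtain ⟨a, rfl⟩ := hs l
    rw [← IsScalarTower.algebraMap_apply] at hl
    exact ((isUnit_map_iff (algebraMap A A') a).1 hl).map _⟩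
  haveI : Algebra.IsPushout L B A' B' := isPushout_of_surjective hs
  rw [hItest A' B' M' f hf, Ideal.map_eq_bot_iff_le_ker, Ideal.map_eq_bot_iff_le_ker]
  constructor
  · intro h a ha
    have := h (ha : algebraMap A L a ∈ I)
    rwa [RingHom.mem_ker, ← IsScalarTower.algebraMap_apply] at this
  · intro h l hl
    obtain ⟨a, rfl⟩ := hs l
    rw [RingHom.mem_ker, ← IsScalarTower.algebraMap_apply]
    exact h (hl : a ∈ I.comap (algebraMap A L))

end AInjLib
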