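import Groth.Agent.AInjLib.StalkTest
import Groth.Agent.AInjLib.Descent
import Mathlib

/-!
# The flattening ideal at a point and flatness modulo ideals
-/

set_option autoImplicit false
set_option linter.style.haveILetI false

universe u

open IsLocalRing
open scoped TensorProduct

namespace AInjLib

attribute [local instance] Algebra.TensorProduct.rightAlgebra

/-- Flatness modulo an ideal is flatness of the reduction at the point above. -/
theorem fq_iff_flatAt {R C X : Type u} [CommRing R] [CommRing C] [Algebra R C] [AddCommGroup X]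
    [Module C X] [Module R X] [IsScalarTower R C X] (J : Ideal R) (x : Ideal C) [x.IsPrime]
    (hJ : J ≤ x.comap (algebraMap R C)) (x₁ : Ideal ((R ⧸ J) ⊗[R] C)) [x₁.IsPrime]
    (hx₁ : x₁.comap (algebraMap C ((R ⧸ J) ⊗[R] C)) = x) :
    FQ J (LocalizedModule x.primeCompl X) ↔
      FlatCA.FlatAt (R ⧸ J) x₁ (((R ⧸ J) ⊗[R] C) ⊗[C] X) := by
  have hsurj : Function.Surjective (algebraMap C ((R ⧸ J) ⊗[R] C)) :=
    Algebra.TensorProduct.includeRight_surjective (R := R) (S := R ⧸ J) C Ideal.Quotient.mk_surjective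
  have hT : Algebra.algebraMapSubmonoid ((R ⧸ J) ⊗[R] C) x.primeCompl = x₁.primeCompl := by
    ext c
    constructor
    · rintro ⟨d, hd, rfl⟩ h
      exact hd (hx₁.le h)
    · intro hc
      obtain ⟨d, rfl⟩ := hsurj c
      exact ⟨d, fun h => hc (hx₁.ge h : d ∈ x₁.comap _), rfl⟩
  obtain ⟨e⟩ := nonempty_bc_localized (X := X) J x.primeCompl
  refine (Module.Flat.equiv_iff e).symm.trans ?_
  rw [hT]
  rfl

set_option maxHeartbeats 800000 in
/-- The ideal of the universal test is the least ideal modulo which the module is flat at the point. -/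
theorem fq_iff_le_of_test {A : Type u} [CommRing A] [IsLocalRing A] {C : Type u} [CommRing C] [Algebra A C]
    {N : Type u} [AddCommGroup N] [Module C N] [Module A N] [IsScalarTower A C N]
    (q : Ideal C) [q.IsPrime] (hq : q.comap (algebraMap A C) = maximalIdeal A) (I : Ideal A)
    (hI : ∀ (A' : Type u) [CommRing A'] [Algebra A A'] (p' : Ideal A') [p'.IsPrime],
        p'.comap (algebraMap A A') = maximalIdeal A →
        ∀ (C' N' : Type u) [CommRing C'] [Algebra C C'] [Algebra A' C'] [Algebra A C'] [IsScalarTower A C C']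
          [IsScalarTower A A' C'] [Algebra.IsPushout A C A' C']
          [AddCommGroup N'] [Module C' N'] [Module C N'] [IsScalarTower C C' N'] [Module A' N'] [IsScalarTower A' C' N']
          (g : N →ₗ[C] N'), IsBaseChange C' g →
          ((∀ (Q : Ideal C') [Q.IsPrime], Q.comap (algebraMap A' C') = p' → Q.comap (algebraMap C C') = q →
              FlatCA.FlatAt A' Q N') ↔ I.map (algebraMap A (Localization.AtPrime p')) = ⊥))
    (J : Ideal A) (hJ : J ≠ ⊤) : FQ J (LocalizedModule q.primeCompl N) ↔ I ≤ J := by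
  have hJm : J ≤ maximalIdeal A := le_maximalIdeal hJ
  let p' : Ideal (A ⧸ J) := (maximalIdeal A).map (Ideal.Quotient.mk J)
  have hp'c : p'.comap (algebraMap A (A ⧸ J)) = maximalIdeal A := by
    rw [Ideal.Quotient.algebraMap_eq, Ideal.comap_map_of_surjective _ Ideal.Quotient.mk_surjective,
      ← RingHom.ker_eq_comap_bot, Ideal.mk_ker]
    exact sup_eq_left.2 hJm
  haveI : p'.IsPrime := Ideal.map_isPrime_of_surjective Ideal.Quotient.mk_surjective (by rw [Ideal.mk_ker]; exact hJm)
  let C' := (A ⧸ J) ⊗[A] C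
  have hsurj : Function.Surjective (algebraMap C C') :=
    Algebra.TensorProduct.includeRight_surjective (R := A) (S := A ⧸ J) C Ideal.Quotient.mk_surjective
  let ρ : (A ⧸ J) →ₐ[A] C ⧸ q := Ideal.Quotient.liftₐ J (Algebra.ofId A (C ⧸ q)) fun a ha => by
    show algebraMap A (C ⧸ q) a = 0
    rw [IsScalarTower.algebraMap_apply A C (C ⧸ q)]
    exact Ideal.Quotient.eq_zero_iff_mem.2 (hq.ge (hJm ha))
  let ε : C' →ₐ[A] C ⧸ q :=
    Algebra.TensorProduct.lift ρ (IsScalarTower.toAlgHom A C (C ⧸ q)) fun _ _ => Commute.all _ _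
  let x₁ : Ideal C' := RingHom.ker ε.toRingHom
  haveI : x₁.IsPrime := RingHom.ker_isPrime _
  have hx₁ : x₁.comap (algebraMap C C') = q := by
    ext c
    rw [Ideal.mem_comap, RingHom.mem_ker]
    show ε ((1 : A ⧸ J) ⊗ₜ c) = 0 ↔ c ∈ q
    rw [Algebra.TensorProduct.lift_tmul, map_one, one_mul]
    exact Ideal.Quotient.eq_zero_iff_mem
  have hx₁p : x₁.comap (algebraMap (A ⧸ J) C') = p' := by
    apply Ideal.comap_injective_of_surjective _ (Ideal.Quotient.mk_surjective (I := J))
    show (x₁.comap (algebraMap (A ⧸ J) C')).comap (algebraMap A (A ⧸ J)) = p'.comap (algebraMap A (A ⧸ J))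
    rw [hp'c, Ideal.comap_comap, ← IsScalarTower.algebraMap_eq, IsScalarTower.algebraMap_eq A C C',
      ← Ideal.comap_comap, hx₁, hq]
  rw [fq_iff_flatAt J q (hJm.trans hq.ge) x₁ hx₁]
  have h := hI (A ⧸ J) p' hp'c C' (C' ⊗[C] N) (TensorProduct.mk C C' N 1) (TensorProduct.isBaseChange _ _ _)
  refine Iff.trans ⟨fun hx Q hQp _ hQ => ?_, fun H => H x₁ hx₁p hx₁⟩ (h.trans ?_)
  · haveI := hQp
    exact DevissFreeLib.flatAt_of_eq (Ideal.comap_injective_of_surjective _ hsurj (hx₁.trans hQ.symm)) hx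
  rw [Ideal.map_eq_bot_iff_le_ker]
  refine ⟨fun hle a ha => ?_, fun hle a ha => ?_⟩
  · have h0 : algebraMap (A ⧸ J) (Localization.AtPrime p') (Ideal.Quotient.mk J a) = 0 := by
      rw [← Ideal.Quotient.algebraMap_eq, ← IsScalarTower.algebraMap_apply]
      exact hle ha
    obtain ⟨⟨s, hs⟩, hs'⟩ := (IsLocalization.map_eq_zero_iff p'.primeCompl _ _).1 h0
    obtain ⟨b, rfl⟩ := Ideal.Quotient.mk_surjective s
    have hb : IsUnit b := notMem_maximalIdeal.1 fun hb => hs (Ideal.mem_map_of_mem _ hb)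
    have h1 : Ideal.Quotient.mk J (b * a) = 0 := by rw [map_mul]; exact hs'
    exact (Ideal.unit_mul_mem_iff_mem J hb).1 (Ideal.Quotient.eq_zero_iff_mem.1 h1)
  · rw [RingHom.mem_ker, IsScalarTower.algebraMap_apply A (A ⧸ J) (Localization.AtPrime p'),
      Ideal.Quotient.algebraMap_eq, Ideal.Quotient.eq_zero_iff_mem.2 (hle ha), map_zero]

end AInjLib
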