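import Groth.Agent.AInjLib.ArtinFlat
import Groth.Agent.AInjLib.StalkFQ
import Mathlib

/-!
# The least ideal of flatness along the closed fibre over a Noetherian local ring
-/

set_option autoImplicit false
set_option linter.style.haveILetI false

universe u

open IsLocalRing
open scoped TensorProduct

namespace AInjLib

/-- The least ideal containing a power of the maximal ideal modulo which a module is flat. -/
theorem exists_level_one {R : Type u} [CommRing R] [IsLocalRing R] (X : Type u) [AddCommGroup X] [Module R X] (k : ℕ) :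
    ∃ I : Ideal R, maximalIdeal R ^ (k + 1) ≤ I ∧
      (∀ J : Ideal R, J ≠ ⊤ → maximalIdeal R ^ (k + 1) ≤ J → (FQ J X ↔ I ≤ J)) ∧
      ∀ (R'' : Type u) [CommRing R''] [IsLocalRing R''] [Algebra R R''] [IsLocalHom (algebraMap R R'')],
        (∃ l, maximalIdeal R'' ^ l = ⊥) → maximalIdeal R ^ (k + 1) ≤ RingHom.ker (algebraMap R R'') →
        Module.Flat R'' (R'' ⊗[R] X) → I ≤ RingHom.ker (algebraMap R R'') := by
  let p := maximalIdeal R ^ (k + 1)
  have hp : p ≠ ⊤ := fun h => (maximalIdeal.isMaximal R).ne_top (top_le_iff.1 (h.ge.trans (Ideal.pow_le_self k.succ_ne_zero)))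
  haveI : Nontrivial (R ⧸ p) := Ideal.Quotient.nontrivial_iff.2 hp
  haveI : IsLocalRing (R ⧸ p) := IsLocalRing.of_surjective' (Ideal.Quotient.mk p) Ideal.Quotient.mk_surjective
  haveI : IsLocalHom (Ideal.Quotient.mk p) := IsLocalHom.of_surjective _ Ideal.Quotient.mk_surjective
  have hnil : maximalIdeal (R ⧸ p) ^ (k + 1) = ⊥ := by
    have hle : maximalIdeal (R ⧸ p) ≤ (maximalIdeal R).map (Ideal.Quotient.mk p) := fun q hq => by
      obtain ⟨a, rfl⟩ := Ideal.Quotient.mk_surjective q
      exact Ideal.mem_map_of_mem _ ((mem_maximalIdeal a).2 fun ha => (mem_maximalIdeal _).1 hq (ha.map _))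
    refine le_bot_iff.1 ((Ideal.pow_right_mono hle (k + 1)).trans ?_)
    rw [← Ideal.map_pow, Ideal.map_quotient_self]
  obtain ⟨I, hI, hI'⟩ := exists_least_fq_of_nilpotent hnil ((R ⧸ p) ⊗[R] X)
  have hs : Function.Surjective (algebraMap R (R ⧸ p)) := Ideal.Quotient.mk_surjective
  refine ⟨I.comap (algebraMap R (R ⧸ p)), fun a ha => ?_, fun J hJ hpJ => ?_, ?_⟩
  · rw [Ideal.mem_comap, Ideal.Quotient.algebraMap_eq, Ideal.Quotient.eq_zero_iff_mem.2 ha]
    exact zero_mem _
  · have hJc : (J.map (algebraMap R (R ⧸ p))).comap (algebraMap R (R ⧸ p)) = J := by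
      rw [Ideal.Quotient.algebraMap_eq, Ideal.comap_map_of_surjective _ Ideal.Quotient.mk_surjective,
        ← RingHom.ker_eq_comap_bot, Ideal.mk_ker]
      exact sup_eq_left.2 hpJ
    have hJtop : J.map (algebraMap R (R ⧸ p)) ≠ ⊤ := fun h => hJ (by rw [← hJc, h, Ideal.comap_top])
    conv_lhs => rw [← hJc]
    rw [fq_of_surjective hs, hI _ hJtop]
    refine ⟨fun h => (Ideal.comap_mono h).trans hJc.le, fun h => ?_⟩
    rw [← Ideal.map_comap_of_surjective _ hs I]
    exact Ideal.map_mono h
  · intro R'' _ _ _ _ hl hker hflat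
    letI : Algebra (R ⧸ p) R'' := (Ideal.Quotient.lift p (algebraMap R R'') fun a ha => hker ha).toAlgebra
    haveI : IsScalarTower R (R ⧸ p) R'' := IsScalarTower.of_algebraMap_eq fun _ => rfl
    haveI : IsLocalHom (algebraMap (R ⧸ p) R'') := ⟨fun q hq => by
      obtain ⟨a, rfl⟩ := Ideal.Quotient.mk_surjective q
      have : IsUnit (algebraMap R R'' a) := hq
      exact ((isUnit_map_iff (algebraMap R R'') a).1 this).map _⟩
    have h := hI' R'' hl (Module.Flat.of_linearEquiv
      (TensorProduct.AlgebraTensorModule.cancelBaseChange R (R ⧸ p) R'' R'' X))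
    intro a ha
    exact h (ha : algebraMap R (R ⧸ p) a ∈ I)

/-- The least ideals of flatness, level by level, for a family of modules. -/
theorem exists_level {R : Type u} [CommRing R] [IsLocalRing R] {ι : Type u} (X : ι → Type u) [∀ i, AddCommGroup (X i)]
    [∀ i, Module R (X i)] (k : ℕ) :
    ∃ I : Ideal R, maximalIdeal R ^ (k + 1) ≤ I ∧ I ≤ maximalIdeal R ∧ (∀ i, FQ I (X i)) ∧
      (∀ J : Ideal R, J ≠ ⊤ → maximalIdeal R ^ (k + 1) ≤ J → (∀ i, FQ J (X i)) → I ≤ J) ∧
      ∀ (R'' : Type u) [CommRing R''] [IsLocalRing R''] [Algebra R R''] [IsLocalHom (algebraMap R R'')],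
        (∃ l, maximalIdeal R'' ^ l = ⊥) → maximalIdeal R ^ (k + 1) ≤ RingHom.ker (algebraMap R R'') →
        (∀ i, Module.Flat R'' (R'' ⊗[R] X i)) → I ≤ RingHom.ker (algebraMap R R'') := by
  choose I hI0 hI1 hI2 using fun i => exists_level_one (R := R) (X i) k
  have hm : maximalIdeal R ^ (k + 1) ≤ maximalIdeal R := Ideal.pow_le_self k.succ_ne_zero
  have htop : maximalIdeal R ≠ ⊤ := (maximalIdeal.isMaximal R).ne_top
  letI := Ideal.Quotient.field (maximalIdeal R)
  have hIm : ∀ i, I i ≤ maximalIdeal R := fun i => (hI1 i _ htop hm).1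
    (inferInstance : Module.Flat (R ⧸ maximalIdeal R) ((R ⧸ maximalIdeal R) ⊗[R] X i))
  let K := maximalIdeal R ^ (k + 1) ⊔ ⨆ i, I i
  have hKm : K ≤ maximalIdeal R := sup_le hm (iSup_le hIm)
  refine ⟨K, le_sup_left, hKm, fun i => ?_, fun J hJ hpJ h => sup_le hpJ (iSup_le fun i => (hI1 i J hJ hpJ).1 (h i)), ?_⟩
  · exact (hI1 i K (fun h => htop (top_le_iff.1 (h ▸ hKm))) le_sup_left).2 ((le_iSup I i).trans le_sup_right)
  · intro R'' _ _ _ _ hl hker hflat
    exact sup_le hker (iSup_le fun i => hI2 i R'' hl hker (hflat i))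

/-- The localised base change is flat modulo powers when the module is flat over the closed fibre. -/
theorem flat_quotient_tensor_localized {R S R' S' M M' : Type u} [CommRing R] [IsLocalRing R] [CommRing S] [CommRing R']
    [IsLocalRing R'] [CommRing S'] [Algebra R S] [Algebra R R'] [IsLocalHom (algebraMap R R')] [Algebra S S'] [Algebra R' S']
    [Algebra R S'] [IsScalarTower R S S'] [IsScalarTower R R' S'] [Algebra.IsPushout R S R' S']
    [AddCommGroup M] [Module S M] [Module R M] [IsScalarTower R S M]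
    [AddCommGroup M'] [Module S' M'] [Module R' M'] [IsScalarTower R' S' M'] [Module S M'] [IsScalarTower S S' M']
    (f : M →ₗ[S] M') (hf : IsBaseChange S' f)
    (H : ∀ (q' : Ideal S') [q'.IsPrime], q'.comap (algebraMap R' S') = maximalIdeal R' → FlatCA.FlatAt R' q' M')
    (q : Ideal S) [q.IsPrime] (J : Ideal R') (hJ : ∃ l, maximalIdeal R' ^ l ≤ J) :
    Module.Flat (R' ⧸ J) ((R' ⧸ J) ⊗[R] LocalizedModule q.primeCompl M) := by
  let B := Localization.AtPrime q
  let Mq := LocalizedModule q.primeCompl M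
  obtain ⟨D', _, _, _, _, _, _, _, Y, _, _, _, _, _, _, g, hg⟩ :
      ∃ (D' : Type u) (_ : CommRing D') (_ : Algebra B D') (_ : Algebra R' D') (_ : Algebra R D')
        (_ : IsScalarTower R B D') (_ : IsScalarTower R R' D') (_ : Algebra.IsPushout R B R' D')
        (Y : Type u) (_ : AddCommGroup Y) (_ : Module D' Y) (_ : Module B Y) (_ : IsScalarTower B D' Y)
        (_ : Module R' Y) (_ : IsScalarTower R' D' Y) (g : Mq →ₗ[B] Y), IsBaseChange D' g := by
    letI : Algebra B (R' ⊗[R] B) := Algebra.TensorProduct.rightAlgebra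
    exact ⟨R' ⊗[R] B, inferInstance, inferInstance, inferInstance, inferInstance, inferInstance, inferInstance,
      inferInstance, (R' ⊗[R] B) ⊗[B] Mq, inferInstance, inferInstance, inferInstance, inferInstance, inferInstance,
      inferInstance, TensorProduct.mk B (R' ⊗[R] B) Mq 1, TensorProduct.isBaseChange _ _ _⟩
  letI : Algebra S D' := ((algebraMap B D').comp (algebraMap S B)).toAlgebra
  haveI : IsScalarTower S B D' := IsScalarTower.of_algebraMap_eq fun _ => rfl
  haveI : IsScalarTower R S D' := IsScalarTower.of_algebraMap_eq fun a => by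
    show algebraMap R D' a = algebraMap B D' (algebraMap S B (algebraMap R S a))
    rw [← IsScalarTower.algebraMap_apply R S B, ← IsScalarTower.algebraMap_apply]
  let ψ : S' →ₐ[R] D' := Algebra.pushoutDesc S' (IsScalarTower.toAlgHom R S D') (IsScalarTower.toAlgHom R R' D')
    fun _ _ => Commute.all _ _
  letI := ψ.toRingHom.toAlgebra
  haveI : IsScalarTower S S' D' := IsScalarTower.of_algebraMap_eq fun c =>
    (Algebra.pushoutDesc_left (S' := S') (IsScalarTower.toAlgHom R S D') (IsScalarTower.toAlgHom R R' D') (fun _ _ => Commute.all _ _) c).symm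
  haveI : IsScalarTower R' S' D' := IsScalarTower.of_algebraMap_eq fun c =>
    (Algebra.pushoutDesc_right (S' := S') (IsScalarTower.toAlgHom R S D') (IsScalarTower.toAlgHom R R' D') (fun _ _ => Commute.all _ _) c).symm
  haveI : Module.Flat S B := IsLocalization.flat B q.primeCompl
  haveI : Module.Flat S' D' :=
    flat_map_of_pushouts (A := R) (A' := R') (L := R') (C := S) (B := B) (C' := S') (B' := D')
  letI : Module S' Y := Module.compHom Y (algebraMap S' D')
  haveI : IsScalarTower S' D' Y := IsScalarTower.of_compHom _ _ _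
  letI : Module S Y := Module.compHom Y (algebraMap S B)
  haveI : IsScalarTower S B Y := IsScalarTower.of_compHom _ _ _
  haveI : IsScalarTower S S' Y := IsScalarTower.of_algebraMap_smul fun c y => by
    show algebraMap S' D' (algebraMap S S' c) • y = algebraMap S B c • y
    rw [← IsScalarTower.algebraMap_apply, IsScalarTower.algebraMap_apply S B D', algebraMap_smul]
  haveI : IsScalarTower S D' Y := IsScalarTower.of_algebraMap_smul fun c y => by
    show algebraMap B D' (algebraMap S B c) • y = algebraMap S B c • y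
    rw [algebraMap_smul]
  let ℓ := LocalizedModule.mkLinearMap q.primeCompl M
  have hℓ : IsBaseChange B ℓ := IsLocalizedModule.isBaseChange q.primeCompl B ℓ
  let i : M' →ₗ[S'] Y := hf.lift (g.restrictScalars S ∘ₗ ℓ)
  have hi : IsBaseChange D' i := IsBaseChange.of_comp hf (by rw [hf.lift_comp]; exact hℓ.comp hg)
  -- modulo the ideal
  obtain ⟨l, hl⟩ := hJ
  letI : Algebra D' ((R' ⧸ J) ⊗[R'] D') := Algebra.TensorProduct.rightAlgebra
  let D'' := (R' ⧸ J) ⊗[R'] D'
  haveI : Module.Flat (R' ⧸ J) (D'' ⊗[D'] Y) := by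
    refine Module.flat_of_isLocalized_maximal D'' (D'' ⊗[D'] Y) (fun P _ => LocalizedModule P.primeCompl (D'' ⊗[D'] Y))
      (fun P _ => LocalizedModule.mkLinearMap P.primeCompl (D'' ⊗[D'] Y)) fun P _ => ?_
    let Q' : Ideal D' := P.comap (algebraMap D' D'')
    have hJQ : J ≤ Q'.comap (algebraMap R' D') := fun a ha => by
      rw [Ideal.mem_comap, Ideal.mem_comap, ← IsScalarTower.algebraMap_apply,
        IsScalarTower.algebraMap_apply R' (R' ⧸ J) D'', Ideal.Quotient.algebraMap_eq,
        Ideal.Quotient.eq_zero_iff_mem.2 ha, map_zero]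
      exact zero_mem _
    have hm : maximalIdeal R' = Q'.comap (algebraMap R' D') :=
      (maximalIdeal.isMaximal R').eq_of_le (Ideal.IsPrime.ne_top inferInstance) fun a ha =>
        (inferInstance : (Q'.comap (algebraMap R' D')).IsPrime).mem_of_pow_mem l (hJQ (hl (Ideal.pow_mem_pow ha l)))
    let q' : Ideal S' := Q'.comap (algebraMap S' D')
    haveI : Q'.LiesOver q' := ⟨rfl⟩
    have h1 : FlatCA.FlatAt R' q' M' := H q' (by rw [Ideal.comap_comap, ← IsScalarTower.algebraMap_eq]; exact hm.symm)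
    haveI : Module.Flat R' (LocalizedModule Q'.primeCompl Y) :=
      (FlatInjLib.flatAt_iff_of_isBaseChange i hi q' Q').2 h1
    exact (fq_iff_flatAt J Q' hJQ P rfl).1 (fq_of_flat J)
  haveI : Module.Flat (R' ⧸ J) ((R' ⧸ J) ⊗[R'] Y) :=
    Module.Flat.of_linearEquiv (Algebra.IsPushout.cancelBaseChange R' (R' ⧸ J) D' D'' Y).symm
  haveI : Algebra.IsPushout R R' B D' := Algebra.IsPushout.symm inferInstance
  let e : Y ≃ₗ[R'] R' ⊗[R] Mq := (hg.equiv.restrictScalars R').symm ≪≫ₗ Algebra.IsPushout.cancelBaseChange R R' B D' Mq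
  exact Module.Flat.of_linearEquiv ((TensorProduct.AlgebraTensorModule.cancelBaseChange R R' (R' ⧸ J) (R' ⧸ J) Mq).symm ≪≫ₗ
    (TensorProduct.AlgebraTensorModule.congr (LinearEquiv.refl (R' ⧸ J) (R' ⧸ J)) e).symm)

end AInjLib
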