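import Groth.Agent.AInjLib.FlatQuot
import Mathlib

/-!
# Flatness across an ideal killed by the maximal ideal
-/

set_option autoImplicit false
set_option linter.style.haveILetI false

universe u

open IsLocalRing
open scoped TensorProduct

namespace AInjLib

variable {R : Type u} [CommRing R] [IsLocalRing R]

/-- A finite family in a module killed by the maximal ideal spans like a family independent modulo it. -/
theorem exists_indep {M : Type u} [AddCommGroup M] [Module R M] {n : ℕ} (e : Fin n → M) :
    ∃ (d : ℕ) (f : Fin d → M), Submodule.span R (Set.range f) = Submodule.span R (Set.range e) ∧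
      ∀ c : Fin d → R, ∑ i, c i • f i = 0 → ∀ i, c i ∈ maximalIdeal R := by
  classical
  induction n with
  | zero => exact ⟨0, e, rfl, fun _ _ i => i.elim0⟩
  | succ k ih =>
    by_cases h : ∀ c : Fin (k + 1) → R, ∑ i, c i • e i = 0 → ∀ i, c i ∈ maximalIdeal R
    · exact ⟨k + 1, e, rfl, h⟩
    push Not at h
    obtain ⟨c, hc, i, hi⟩ := h
    obtain ⟨d, f, hf, hf'⟩ := ih (e ∘ i.succAbove)
    refine ⟨d, f, hf.trans (le_antisymm (Submodule.span_mono (Set.range_comp_subset_range _ _)) ?_), hf'⟩
    rw [Submodule.span_le]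
    rintro _ ⟨j, rfl⟩
    by_cases hj : j = i
    · subst hj
      obtain ⟨w, hw⟩ := IsLocalRing.notMem_maximalIdeal.1 hi
      rw [Fin.sum_univ_succAbove _ j, add_eq_zero_iff_eq_neg] at hc
      rw [show e j = (↑w⁻¹ : R) • (c j • e j) by rw [smul_smul, ← hw, Units.inv_mul, one_smul], hc]
      refine Submodule.smul_mem _ _ (neg_mem (sum_mem fun l _ => Submodule.smul_mem _ _ ?_))
      exact Submodule.subset_span ⟨l, rfl⟩
    · obtain ⟨l, rfl⟩ := Fin.exists_succAbove_eq hj
      exact Submodule.subset_span ⟨l, rfl⟩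

set_option maxHeartbeats 800000 in
/-- Flatness from flatness modulo an ideal killed by the maximal ideal and independence of that ideal. -/
theorem flat_of_killed {Y : Type u} [AddCommGroup Y] [Module R Y] (I : Ideal R)
    (hI : ∀ a ∈ maximalIdeal R, ∀ i ∈ I, a * i = 0) (hY : FQ I Y)
    (h : ∀ (d : ℕ) (e : Fin d → R) (y : Fin d → Y), (∀ i, e i ∈ I) →
      (∀ c : Fin d → R, ∑ i, c i * e i = 0 → ∀ i, c i ∈ maximalIdeal R) → ∑ i, e i • y i = 0 →
      ∀ i, y i ∈ maximalIdeal R • (⊤ : Submodule R Y)) : Module.Flat R Y := by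
  classical
  let F := Y →₀ R
  let π : F →ₗ[R] Y := Finsupp.linearCombination R id
  have hπ : Function.Surjective π := fun z => ⟨Finsupp.single z 1, by rw [Finsupp.linearCombination_single, one_smul]; rfl⟩
  let W := LinearMap.ker π
  have hex : Function.Exact W.subtype π := LinearMap.exact_subtype_ker_map π
  haveI : Module.Flat R (F ⧸ W) := by
    refine flat_quotient_of_inter W fun K x hx hxK => ?_
    obtain ⟨y', hy', hsub⟩ := exists_sub_mem W.subtype π hπ hex I hY (I ⊔ K) le_sup_left (⟨x, hx⟩ : W)
      (Submodule.smul_mono_left le_sup_right hxK)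
    rw [Submodule.sup_smul, Submodule.mem_sup] at hy'
    obtain ⟨yi, hyi, yk, hyk, rfl⟩ := hy'
    have hyk' : (yk : F) ∈ K • W := by
      have h1 := Submodule.mem_map_of_mem (f := W.subtype) hyk
      rwa [Submodule.map_smul'', Submodule.map_top, Submodule.range_subtype] at h1
    have hyi' : (yi : F) ∈ I • (⊤ : Submodule R F) := by
      have h1 := Submodule.mem_map_of_mem (f := W.subtype) hyi
      rw [Submodule.map_smul''] at h1
      exact Submodule.smul_mono le_rfl le_top h1
    let x1 : F := x - yk
    have hx1I : x1 ∈ I • (⊤ : Submodule R F) := by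
      have h1 := add_mem hsub hyi'
      rwa [show W.subtype (⟨x, hx⟩ - (yi + yk)) + (yi : F) = x1 by
        show x - ((yi : F) + (yk : F)) + (yi : F) = x - (yk : F); abel] at h1
    have hx1K : x1 ∈ K • (⊤ : Submodule R F) := sub_mem hxK (Submodule.smul_mono le_rfl le_top hyk')
    have hx1W : π x1 = 0 := LinearMap.mem_ker.1 (sub_mem hx yk.2)
    -- the coordinates
    have hcoord : ∀ (J : Ideal R) (z : F), z ∈ J • (⊤ : Submodule R F) → ∀ t, z t ∈ J := by
      intro J z hz t
      refine Submodule.smul_induction_on hz (fun a ha w _ => ?_) fun v w hv hw => ?_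
      · rw [Finsupp.smul_apply, smul_eq_mul]; exact Ideal.mul_mem_right _ _ ha
      · rw [Finsupp.add_apply]; exact add_mem hv hw
    let σ := x1.support.equivFin
    obtain ⟨d, e, hspan, hind⟩ := exists_indep (R := R) fun j => x1 (σ.symm j : Y)
    have he : ∀ i, e i ∈ K ⊓ I := fun i => by
      have h1 : e i ∈ Submodule.span R (Set.range fun j => x1 (σ.symm j : Y)) := hspan ▸ Submodule.subset_span ⟨i, rfl⟩
      refine (Submodule.span_le.2 ?_ : _ ≤ (K ⊓ I : Ideal R)) h1
      rintro _ ⟨j, rfl⟩
      exact ⟨hcoord K _ hx1K _, hcoord I _ hx1I _⟩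
    have hcoef : ∀ t, ∃ c : Fin d → R, ∑ i, c i • e i = x1 t := fun t => by
      refine (Submodule.mem_span_range_iff_exists_fun R).1 ?_
      by_cases ht : t ∈ x1.support
      · rw [hspan]
        exact Submodule.subset_span ⟨σ ⟨t, ht⟩, by simp⟩
      · rw [Finsupp.notMem_support_iff.1 ht]
        exact zero_mem _
    choose c hc using hcoef
    let f : Fin d → F := fun i => ∑ t ∈ x1.support, c t i • Finsupp.single t 1
    have hx1 : x1 = ∑ i, e i • f i := by
      simp only [f, Finset.smul_sum, smul_smul]
      rw [Finset.sum_comm]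
      conv_lhs => rw [← x1.sum_single]
      refine Finset.sum_congr rfl fun t _ => ?_
      rw [← Finset.sum_smul]
      rw [Finsupp.smul_single_one]
      congr 1
      rw [← hc t]
      exact Finset.sum_congr rfl fun i _ => mul_comm _ _
    have hy := h d e (fun i => π (f i)) (fun i => (he i).2) (fun c hc => hind c hc)
      (by rw [← hx1W, hx1, map_sum]; simp)
    have hlift : ∀ i, ∃ g ∈ maximalIdeal R • (⊤ : Submodule R F), π g = π (f i) := fun i => by
      have h1 : π (f i) ∈ (maximalIdeal R • (⊤ : Submodule R F)).map π := by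
        rw [Submodule.map_smul'', Submodule.map_top, LinearMap.range_eq_top.2 hπ]
        exact hy i
      obtain ⟨g, hg, hgf⟩ := h1
      exact ⟨g, hg, hgf⟩
    choose g hg hgf using hlift
    have hkill : ∀ i, e i • g i = 0 := fun i => by
      refine Submodule.smul_induction_on (hg i) (fun a ha w _ => ?_) fun v w hv hw => by rw [smul_add, hv, hw, add_zero]
      rw [smul_smul, mul_comm, hI a ha _ (he i).2, zero_smul]
    rw [show x = x1 + (yk : F) from (sub_add_cancel x (yk : F)).symm]
    refine add_mem ?_ hyk'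
    rw [hx1]
    refine sum_mem fun i _ => ?_
    rw [show e i • f i = e i • (f i - g i) by rw [smul_sub, hkill, sub_zero]]
    exact Submodule.smul_mem_smul (he i).1 (LinearMap.mem_ker.2 (by rw [map_sub, hgf, sub_self]))
  exact Module.Flat.of_linearEquiv (LinearMap.quotKerEquivOfSurjective π hπ).symm

end AInjLib
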