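import Groth.Agent.S1229
import Mathlib

/-!
# The flattening ideal of a finite module at a point of the closed fibre
-/

set_option autoImplicit false
set_option linter.style.haveILetI false

universe u

open IsLocalRing
open scoped TensorProduct

namespace AInjLib

/-- A map of base changes along flat maps is flat. -/
theorem flat_map_of_pushouts {A A' L C B C' B' : Type u} [CommRing A] [CommRing A'] [CommRing L] [CommRing C] [CommRing B]
    [CommRing C'] [CommRing B'] [Algebra A A'] [Algebra A L] [Algebra A' L] [IsScalarTower A A' L]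
    [Algebra A C] [Algebra A B] [Algebra C B] [IsScalarTower A C B]
    [Algebra C C'] [Algebra A' C'] [Algebra A C'] [IsScalarTower A C C'] [IsScalarTower A A' C']
    [Algebra B B'] [Algebra L B'] [Algebra A B'] [IsScalarTower A B B'] [IsScalarTower A L B']
    [Algebra C B'] [IsScalarTower C B B'] [Algebra A' B'] [IsScalarTower A' L B'] [IsScalarTower A C B']
    [Algebra C' B'] [IsScalarTower C C' B'] [IsScalarTower A' C' B']
    [Algebra.IsPushout A C A' C'] [Algebra.IsPushout A B L B'] [Module.Flat A' L] [Module.Flat C B] :
    Module.Flat C' B' := by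
  let C'' := L ⊗[A'] C'
  letI : Algebra C' C'' := Algebra.TensorProduct.rightAlgebra
  letI : Algebra C C'' := ((algebraMap C' C'').comp (algebraMap C C')).toAlgebra
  haveI : IsScalarTower C C' C'' := IsScalarTower.of_algebraMap_eq fun _ => rfl
  haveI : IsScalarTower A C' C'' := IsScalarTower.of_algebraMap_eq fun a => by
    rw [IsScalarTower.algebraMap_apply A A' C', ← IsScalarTower.algebraMap_apply A' C' C'',
      IsScalarTower.algebraMap_apply A' L C'', ← IsScalarTower.algebraMap_apply A A' L]
    exact IsScalarTower.algebraMap_apply A L C'' a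
  haveI : IsScalarTower A C C'' := IsScalarTower.of_algebraMap_eq fun a => by
    show algebraMap A C'' a = algebraMap C' C'' (algebraMap C C' (algebraMap A C a))
    rw [← IsScalarTower.algebraMap_apply A C C', ← IsScalarTower.algebraMap_apply A C' C'']
  haveI : Algebra.IsPushout A' L C' C'' := inferInstance
  haveI : Algebra.IsPushout A C L C'' := by
    haveI : Algebra.IsPushout A A' C C' := Algebra.IsPushout.symm inferInstance
    haveI : Algebra.IsPushout A L C C'' := (Algebra.IsPushout.comp_iff A A' C C').2 inferInstance
    exact Algebra.IsPushout.symm inferInstance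
  let φ : C'' →ₐ[A'] B' :=
    Algebra.TensorProduct.lift (IsScalarTower.toAlgHom A' L B') (IsScalarTower.toAlgHom A' C' B') fun _ _ => Commute.all _ _
  letI := φ.toRingHom.toAlgebra
  haveI : IsScalarTower C' C'' B' := IsScalarTower.of_algebraMap_eq fun c => by
    show algebraMap C' B' c = φ ((1 : L) ⊗ₜ c)
    rw [Algebra.TensorProduct.lift_tmul, map_one, one_mul]
    rfl
  haveI : IsScalarTower C C'' B' := IsScalarTower.of_algebraMap_eq fun c => by
    rw [IsScalarTower.algebraMap_apply C C' B', IsScalarTower.algebraMap_apply C' C'' B', ← IsScalarTower.algebraMap_apply C C' C'']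
  haveI : IsScalarTower L C'' B' := IsScalarTower.of_algebraMap_eq fun l => by
    show algebraMap L B' l = φ (l ⊗ₜ (1 : C'))
    rw [Algebra.TensorProduct.lift_tmul, map_one, mul_one]
    rfl
  haveI : IsScalarTower A C'' B' := IsScalarTower.of_algebraMap_eq fun a => by
    rw [IsScalarTower.algebraMap_apply A L C'', ← IsScalarTower.algebraMap_apply L C'' B', ← IsScalarTower.algebraMap_apply]
  haveI : Algebra.IsPushout C B C'' B' := (Algebra.IsPushout.comp_iff A C L C'').1 inferInstance
  haveI : Module.Flat C' C'' := by
    haveI : Algebra.IsPushout A' C' L C'' := Algebra.IsPushout.symm inferInstance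
    exact Module.Flat.isBaseChange A' C' L C'' (Algebra.IsPushout.symm inferInstance).out
  haveI : Module.Flat C'' B' := by
    exact Module.Flat.isBaseChange C C'' B B' (Algebra.IsPushout.symm inferInstance).out
  exact Module.Flat.trans C' C'' B'

set_option maxHeartbeats 1600000 in
/-- The test at a local ring upstairs and downstairs agree. -/
theorem test_iff {A A' L C B C' B' N M N' M' : Type u} [CommRing A] [CommRing A'] [CommRing L] [IsLocalRing L] [CommRing C] [CommRing B]
    [IsLocalRing B] [CommRing C'] [CommRing B'] [Algebra A A'] [Algebra A L] [Algebra A' L] [IsScalarTower A A' L]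
    [Algebra A C] [Algebra A B] [Algebra C B] [IsScalarTower A C B]
    [Algebra C C'] [Algebra A' C'] [Algebra A C'] [IsScalarTower A C C'] [IsScalarTower A A' C']
    [Algebra B B'] [Algebra L B'] [Algebra A B'] [IsScalarTower A B B'] [IsScalarTower A L B']
    [Algebra.IsPushout A C A' C'] [Algebra.IsPushout A B L B']
    (q : Ideal C) [q.IsPrime] [IsLocalization.AtPrime B q] (p' : Ideal A') [p'.IsPrime] [IsLocalization.AtPrime L p']
    [AddCommGroup N] [Module C N] [AddCommGroup M] [Module B M] [Module C M] [IsScalarTower C B M]
    [AddCommGroup N'] [Module C' N'] [Module C N'] [IsScalarTower C C' N'] [Module A' N'] [IsScalarTower A' C' N']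
    [AddCommGroup M'] [Module B' M'] [Module B M'] [IsScalarTower B B' M'] [Module L M'] [IsScalarTower L B' M']
    (ι : N →ₗ[C] M) [IsLocalizedModule q.primeCompl ι] (g : N →ₗ[C] N') (hg : IsBaseChange C' g)
    (f : M →ₗ[B] M') (hf : IsBaseChange B' f) :
    (∀ (Q : Ideal C') [Q.IsPrime], Q.comap (algebraMap A' C') = p' → Q.comap (algebraMap C C') = q → FlatCA.FlatAt A' Q N') ↔
      ∀ (q' : Ideal B') [q'.IsPrime], (maximalIdeal L).map (algebraMap L B') ⊔ (maximalIdeal B).map (algebraMap B B') ≤ q' →
        FlatCA.FlatAt L q' M' := by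
  haveI : Module.Flat C B := IsLocalization.flat B q.primeCompl
  haveI : Module.Flat A' L := IsLocalization.flat L p'.primeCompl
  letI algCB' : Algebra C B' := ((algebraMap B B').comp (algebraMap C B)).toAlgebra
  haveI : IsScalarTower C B B' := IsScalarTower.of_algebraMap_eq fun _ => rfl
  letI algA'B' : Algebra A' B' := ((algebraMap L B').comp (algebraMap A' L)).toAlgebra
  haveI : IsScalarTower A' L B' := IsScalarTower.of_algebraMap_eq fun _ => rfl
  haveI : IsScalarTower A C B' := IsScalarTower.of_algebraMap_eq fun a => by
    show algebraMap A B' a = algebraMap B B' (algebraMap C B (algebraMap A C a))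
    rw [← IsScalarTower.algebraMap_apply A C B, ← IsScalarTower.algebraMap_apply]
  haveI : IsScalarTower A A' B' := IsScalarTower.of_algebraMap_eq fun a => by
    show algebraMap A B' a = algebraMap L B' (algebraMap A' L (algebraMap A A' a))
    rw [← IsScalarTower.algebraMap_apply A A' L, ← IsScalarTower.algebraMap_apply]
  let ψ : C' →ₐ[A] B' := Algebra.pushoutDesc C' (IsScalarTower.toAlgHom A C B') (IsScalarTower.toAlgHom A A' B')
    fun _ _ => Commute.all _ _
  letI := ψ.toRingHom.toAlgebra
  haveI : IsScalarTower C C' B' := IsScalarTower.of_algebraMap_eq fun c =>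
    (Algebra.pushoutDesc_left (S' := C') (IsScalarTower.toAlgHom A C B') (IsScalarTower.toAlgHom A A' B') (fun _ _ => Commute.all _ _) c).symm
  haveI : IsScalarTower A' C' B' := IsScalarTower.of_algebraMap_eq fun c =>
    (Algebra.pushoutDesc_right (S' := C') (IsScalarTower.toAlgHom A C B') (IsScalarTower.toAlgHom A A' B') (fun _ _ => Commute.all _ _) c).symm
  haveI : Module.Flat C' B' := flat_map_of_pushouts (A := A) (A' := A') (L := L) (C := C) (B := B)
  letI : Module C M' := Module.compHom M' (algebraMap C B)
  haveI : IsScalarTower C B M' := IsScalarTower.of_compHom _ _ _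
  haveI : IsScalarTower C B' M' := IsScalarTower.of_algebraMap_smul fun c m => by
    show algebraMap B B' (algebraMap C B c) • m = algebraMap C B c • m
    rw [algebraMap_smul]
  letI : Module C' M' := Module.compHom M' (algebraMap C' B')
  haveI : IsScalarTower C' B' M' := IsScalarTower.of_compHom _ _ _
  haveI : IsScalarTower C C' M' := IsScalarTower.of_algebraMap_smul fun c m => by
    show algebraMap C' B' (algebraMap C C' c) • m = c • m
    rw [← IsScalarTower.algebraMap_apply, algebraMap_smul]
  letI : Module A' M' := Module.compHom M' (algebraMap A' L)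
  haveI : IsScalarTower A' L M' := IsScalarTower.of_compHom _ _ _
  haveI : IsScalarTower A' B' M' := IsScalarTower.of_algebraMap_smul fun a m => by
    show algebraMap L B' (algebraMap A' L a) • m = algebraMap A' L a • m
    rw [algebraMap_smul]
  have hι : IsBaseChange B ι := IsLocalizedModule.isBaseChange q.primeCompl B ι
  let i : N' →ₗ[C'] M' := hg.lift (f.restrictScalars C ∘ₗ ι)
  have hi : IsBaseChange B' i := IsBaseChange.of_comp hg (by rw [hg.lift_comp]; exact hι.comp hf)
  have hL : ∀ (q' : Ideal B') [q'.IsPrime], FlatCA.FlatAt L q' M' ↔ FlatCA.FlatAt A' q' M' := fun q' _ =>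
    Module.flat_iff_of_isLocalization L p'.primeCompl (LocalizedModule q'.primeCompl M')
  have hq : q = (maximalIdeal B).comap (algebraMap C B) :=
    ((IsLocalization.AtPrime.comap_maximalIdeal B q)).symm
  have hp : p' = (maximalIdeal L).comap (algebraMap A' L) :=
    ((IsLocalization.AtPrime.comap_maximalIdeal L p')).symm
  constructor
  · intro H q' _ hle
    let Q : Ideal C' := q'.comap (algebraMap C' B')
    haveI : q'.LiesOver Q := ⟨rfl⟩
    have h1 : Q.comap (algebraMap A' C') = p' := by
      rw [Ideal.comap_comap, ← IsScalarTower.algebraMap_eq, IsScalarTower.algebraMap_eq A' L B', ← Ideal.comap_comap, hp]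
      congr 1
      exact ((maximalIdeal.isMaximal L).eq_of_le (Ideal.IsPrime.ne_top inferInstance)
        (Ideal.map_le_iff_le_comap.1 (le_sup_left.trans hle))).symm
    have h2 : Q.comap (algebraMap C C') = q := by
      rw [Ideal.comap_comap, ← IsScalarTower.algebraMap_eq, IsScalarTower.algebraMap_eq C B B', ← Ideal.comap_comap, hq]
      congr 1
      exact ((maximalIdeal.isMaximal B).eq_of_le (Ideal.IsPrime.ne_top inferInstance)
        (Ideal.map_le_iff_le_comap.1 (le_sup_right.trans hle))).symm
    exact (hL q').2 ((FlatInjLib.flatAt_iff_of_isBaseChange i hi Q q').2 (H Q h1 h2))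
  · intro H Q _ h1 h2
    let K := Q.ResidueField
    have hB : ∀ s : q.primeCompl, IsUnit (algebraMap C K s) := fun s => Ne.isUnit fun h0 => s.2 (h2.le ((Ideal.algebraMap_residueField_eq_zero (I := Q)).1 (by
      rw [← IsScalarTower.algebraMap_apply]; exact h0)))
    have hA : ∀ s : p'.primeCompl, IsUnit (algebraMap A' K s) := fun s => Ne.isUnit fun h0 => s.2 (h1.le ((Ideal.algebraMap_residueField_eq_zero (I := Q)).1 (by
      rw [← IsScalarTower.algebraMap_apply]; exact h0)))
    let gB : B →ₐ[A] K :=
      { IsLocalization.lift (S := B) hB with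
        commutes' := fun a => by
          show IsLocalization.lift (S := B) hB (algebraMap A B a) = algebraMap A K a
          rw [IsScalarTower.algebraMap_apply A C B, IsLocalization.lift_eq, ← IsScalarTower.algebraMap_apply] }
    let gL : L →ₐ[A] K :=
      { IsLocalization.lift (S := L) hA with
        commutes' := fun a => by
          show IsLocalization.lift (S := L) hA (algebraMap A L a) = algebraMap A K a
          rw [IsScalarTower.algebraMap_apply A A' L, IsLocalization.lift_eq, ← IsScalarTower.algebraMap_apply] }
    let γ : B' →ₐ[A] K := Algebra.pushoutDesc B' gB gL fun _ _ => Commute.all _ _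
    have hγB : ∀ b, γ (algebraMap B B' b) = gB b := fun b => Algebra.pushoutDesc_left (S' := B') gB gL (fun _ _ => Commute.all _ _) b
    have hγL : ∀ l, γ (algebraMap L B' l) = gL l := fun l => Algebra.pushoutDesc_right (S' := B') gB gL (fun _ _ => Commute.all _ _) l
    have hcomp : γ.toRingHom.comp (algebraMap C' B') = algebraMap C' K := by
      have : γ.comp (IsScalarTower.toAlgHom A C' B') = IsScalarTower.toAlgHom A C' K := by
        refine Algebra.IsPushout.algHom_ext (R := A) (S := C) (R' := A') (S' := C') (AlgHom.ext fun a => ?_) (AlgHom.ext fun c => ?_)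
        · show γ (algebraMap C' B' (algebraMap A' C' a)) = algebraMap C' K (algebraMap A' C' a)
          rw [← IsScalarTower.algebraMap_apply A' C' B', IsScalarTower.algebraMap_apply A' L B', hγL,
            ← IsScalarTower.algebraMap_apply]
          exact IsLocalization.lift_eq hA a
        · show γ (algebraMap C' B' (algebraMap C C' c)) = algebraMap C' K (algebraMap C C' c)
          rw [← IsScalarTower.algebraMap_apply C C' B', IsScalarTower.algebraMap_apply C B B', hγB,
            ← IsScalarTower.algebraMap_apply]
          exact IsLocalization.lift_eq hB c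
      exact congrArg AlgHom.toRingHom this
    let q' : Ideal B' := RingHom.ker γ.toRingHom
    haveI : q'.IsPrime := RingHom.ker_isPrime _
    haveI : q'.LiesOver Q := ⟨by
      rw [Ideal.under_def, RingHom.comap_ker, hcomp, Ideal.ker_algebraMap_residueField]⟩
    refine (FlatInjLib.flatAt_iff_of_isBaseChange i hi Q q').1 ((hL q').1 (H q' (sup_le ?_ ?_)))
    · rw [Ideal.map_le_iff_le_comap]
      intro l hl
      obtain ⟨a, s, rfl⟩ := IsLocalization.exists_mk'_eq p'.primeCompl l
      rw [Ideal.mem_comap, RingHom.mem_ker]
      show γ (algebraMap L B' _) = 0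
      rw [hγL]
      show IsLocalization.lift hA (IsLocalization.mk' L a s) = 0
      rw [IsLocalization.lift_mk', Units.mul_left_eq_zero]
      have ha : a ∈ p' := by
        by_contra hh
        exact (mem_maximalIdeal _).1 hl ((IsLocalization.AtPrime.isUnit_mk'_iff L p' a s).2 hh)
      rw [← h1, Ideal.mem_comap, ← Ideal.algebraMap_residueField_eq_zero, ← IsScalarTower.algebraMap_apply] at ha
      exact ha
    · rw [Ideal.map_le_iff_le_comap]
      intro l hl
      obtain ⟨a, s, rfl⟩ := IsLocalization.exists_mk'_eq q.primeCompl l
      rw [Ideal.mem_comap, RingHom.mem_ker]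
      show γ (algebraMap B B' _) = 0
      rw [hγB]
      show IsLocalization.lift hB (IsLocalization.mk' B a s) = 0
      rw [IsLocalization.lift_mk', Units.mul_left_eq_zero]
      have ha : a ∈ q := by
        by_contra hh
        exact (mem_maximalIdeal _).1 hl ((IsLocalization.AtPrime.isUnit_mk'_iff B q a s).2 hh)
      rw [← h2, Ideal.mem_comap, ← Ideal.algebraMap_residueField_eq_zero, ← IsScalarTower.algebraMap_apply] at ha
      exact ha

/-- A universal test read upstairs. -/
theorem test_iff_of_universal {A A' C B C' N M N' : Type u} [CommRing A] [IsLocalRing A] [CommRing A'] [CommRing C] [CommRing B]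
    [IsLocalRing B] [CommRing C'] [Algebra A A']
    [Algebra A C] [Algebra A B] [Algebra C B] [IsScalarTower A C B]
    [Algebra C C'] [Algebra A' C'] [Algebra A C'] [IsScalarTower A C C'] [IsScalarTower A A' C']
    [Algebra.IsPushout A C A' C']
    (q : Ideal C) [q.IsPrime] [IsLocalization.AtPrime B q] (p' : Ideal A') [p'.IsPrime]
    (hp' : p'.comap (algebraMap A A') = maximalIdeal A)
    [AddCommGroup N] [Module C N] [AddCommGroup M] [Module B M] [Module C M] [IsScalarTower C B M]
    [AddCommGroup N'] [Module C' N'] [Module C N'] [IsScalarTower C C' N'] [Module A' N'] [IsScalarTower A' C' N']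
    (ι : N →ₗ[C] M) [IsLocalizedModule q.primeCompl ι] (g : N →ₗ[C] N') (hg : IsBaseChange C' g) (I : Ideal A)
    (hI : ∀ (A' B' M' : Type u) [CommRing A'] [IsLocalRing A'] [Algebra A A'] [IsLocalHom (algebraMap A A')]
        [CommRing B'] [Algebra B B'] [Algebra A' B'] [Algebra A B'] [IsScalarTower A B B'] [IsScalarTower A A' B']
        [Algebra.IsPushout A B A' B']
        [AddCommGroup M'] [Module B' M'] [Module B M'] [IsScalarTower B B' M'] [Module A' M'] [IsScalarTower A' B' M']
        (f : M →ₗ[B] M'), IsBaseChange B' f →
        ((∀ (q : Ideal B') [q.IsPrime], (maximalIdeal A').map (algebraMap A' B') ⊔ (maximalIdeal B).map (algebraMap B B') ≤ q →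
            FlatCA.FlatAt A' q M') ↔ I.map (algebraMap A A') = ⊥)) :
    (∀ (Q : Ideal C') [Q.IsPrime], Q.comap (algebraMap A' C') = p' → Q.comap (algebraMap C C') = q → FlatCA.FlatAt A' Q N') ↔
      I.map (algebraMap A (Localization.AtPrime p')) = ⊥ := by
  let L := Localization.AtPrime p'
  haveI : IsLocalHom (algebraMap A L) := ⟨fun a ha => by
    by_contra hna
    rw [IsScalarTower.algebraMap_apply A A' L] at ha
    exact (IsLocalization.AtPrime.isUnit_to_map_iff L p' _).1 ha (hp'.ge ((mem_maximalIdeal _).2 hna))⟩
  obtain ⟨B', _, _, _, _, _, _, _, M', _, _, _, _, _, _, f, hf⟩ :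
      ∃ (B' : Type u) (_ : CommRing B') (_ : Algebra B B') (_ : Algebra L B') (_ : Algebra A B')
        (_ : IsScalarTower A B B') (_ : IsScalarTower A L B') (_ : Algebra.IsPushout A B L B')
        (M' : Type u) (_ : AddCommGroup M') (_ : Module B' M') (_ : Module B M') (_ : IsScalarTower B B' M')
        (_ : Module L M') (_ : IsScalarTower L B' M') (f : M →ₗ[B] M'), IsBaseChange B' f := by
    letI : Algebra B (L ⊗[A] B) := Algebra.TensorProduct.rightAlgebra
    exact ⟨L ⊗[A] B, inferInstance, inferInstance, inferInstance, inferInstance, inferInstance, inferInstance,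
      inferInstance, (L ⊗[A] B) ⊗[B] M, inferInstance, inferInstance, inferInstance, inferInstance, inferInstance,
      inferInstance, TensorProduct.mk B (L ⊗[A] B) M 1, TensorProduct.isBaseChange _ _ _⟩
  exact (test_iff (A := A) q p' ι g hg f hf).trans (hI L B' M' f hf)

set_option maxHeartbeats 1600000 in
/-- The flattening ideal at a prime of the closed fibre. -/
theorem exists_ideal_stalk {A : Type u} [CommRing A] [HenselianLocalRing A] {C : Type u} [CommRing C] [Algebra A C]
    [Algebra.FiniteType A C] (N : Type u) [AddCommGroup N] [Module C N] [Module A N] [IsScalarTower A C N]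
    [Module.Finite C N] (q : Ideal C) [q.IsPrime] (hq : q.comap (algebraMap A C) = maximalIdeal A) :
    ∃ I : Ideal A,
      (∀ (A' : Type u) [CommRing A'] [Algebra A A'] (p' : Ideal A') [p'.IsPrime],
        p'.comap (algebraMap A A') = maximalIdeal A →
        ∀ (C' N' : Type u) [CommRing C'] [Algebra C C'] [Algebra A' C'] [Algebra A C'] [IsScalarTower A C C']
          [IsScalarTower A A' C'] [Algebra.IsPushout A C A' C']
          [AddCommGroup N'] [Module C' N'] [Module C N'] [IsScalarTower C C' N'] [Module A' N'] [IsScalarTower A' C' N']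
          (g : N →ₗ[C] N'), IsBaseChange C' g →
          ((∀ (Q : Ideal C') [Q.IsPrime], Q.comap (algebraMap A' C') = p' → Q.comap (algebraMap C C') = q →
              FlatCA.FlatAt A' Q N') ↔ I.map (algebraMap A (Localization.AtPrime p')) = ⊥)) ∧
      (Algebra.FinitePresentation A C → Module.FinitePresentation C N → I.FG) := by
  let B := Localization.AtPrime q
  haveI : IsLocalHom (algebraMap A B) := ⟨fun a ha => by
    by_contra hna
    rw [IsScalarTower.algebraMap_apply A C B] at ha
    exact (IsLocalization.AtPrime.isUnit_to_map_iff B q _).1 ha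
      (hq.ge ((mem_maximalIdeal _).2 hna))⟩
  haveI : Algebra.EssFiniteType C B := Algebra.EssFiniteType.of_isLocalization B q.primeCompl
  haveI : Algebra.EssFiniteType A B := Algebra.EssFiniteType.comp A C B
  let M := LocalizedModule q.primeCompl N
  haveI : Module.Finite B M :=
    Module.Finite.of_isLocalizedModule q.primeCompl (LocalizedModule.mkLinearMap q.primeCompl N)
  obtain ⟨I, hI, hfg⟩ := Groth.Agent.S1229.result (A := A) (B := B) M
  refine ⟨I, fun A' _ _ p' _ hp' C' N' _ _ _ _ _ _ _ _ _ _ _ _ _ g hg => ?_, fun h1 h2 => ?_⟩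
  · exact test_iff_of_universal (B := B) (M := M) q p' hp' (LocalizedModule.mkLinearMap q.primeCompl N) g hg I hI
  · exact hfg ⟨C, inferInstance, inferInstance, inferInstance, inferInstance, q.primeCompl, h1, inferInstance⟩
      inferInstance

end AInjLib
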